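import Mathlib

/-!
# Hua's identity
-/

set_option autoImplicit false

namespace CfsgLib.OstromWagner.Jordan

variable {R : Type*} [Ring R]

/-- One inclusion between a set of invertible elements and the set of their inverses. -/
theorem le_inverse_set {M I : AddSubgroup R} (h1 : (1 : R) ∈ M)
    (hMI : ∀ x ∈ M, x ≠ 0 → ∃ y ∈ I, y * x = 1 ∧ x * y = 1)
    (hIM : ∀ y ∈ I, y ≠ 0 → ∃ x ∈ M, y * x = 1 ∧ x * y = 1) {b : R} (hb : b ∈ M) : b ∈ I := by
  rcases subsingleton_or_nontrivial R with h | h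
  · rw [Subsingleton.elim b 0]
    exact I.zero_mem
  obtain ⟨y, hy, hy1, -⟩ := hMI 1 h1 one_ne_zero
  rw [mul_one] at hy1
  have hI1 : (1 : R) ∈ I := hy1 ▸ hy
  by_cases hb0 : b = 0
  · exact hb0 ▸ I.zero_mem
  obtain ⟨bi, hbi, hbib, -⟩ := hMI b hb hb0
  by_cases hc0 : bi - 1 = 0
  · rw [sub_eq_zero.1 hc0, one_mul] at hbib
    exact hbib ▸ hI1
  obtain ⟨ci, hci, -, hcic⟩ := hIM _ (I.sub_mem hbi hI1) hc0
  have hd : (1 + ci) * (1 - b) = 1 := by
    have h2 : (bi - 1) * b = 1 - b := by rw [sub_mul, one_mul, hbib]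
    rw [add_mul, one_mul, ← h2, ← mul_assoc, hcic, one_mul, h2, sub_add_cancel]
  have hd0 : (1 + ci) ≠ 0 := fun h0 => by
    rw [h0, zero_mul] at hd
    exact zero_ne_one hd
  obtain ⟨z, hz, hzd, -⟩ := hMI _ (M.add_mem h1 hci) hd0
  have hzb : z = 1 - b := left_inv_eq_right_inv hzd hd
  have := I.sub_mem hI1 (hzb ▸ hz)
  rwa [sub_sub_cancel] at this

/-- A set with an additively closed set of inverses is closed under `x y x`. -/
theorem mul_mul_mem {M I : AddSubgroup R} (h1 : (1 : R) ∈ M) (hI1 : (1 : R) ∈ I)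
    (hMI : ∀ x ∈ M, x ≠ 0 → ∃ y ∈ I, y * x = 1 ∧ x * y = 1)
    (hIM : ∀ y ∈ I, y ≠ 0 → ∃ x ∈ M, y * x = 1 ∧ x * y = 1) {a b : R} (ha : a ∈ M) (hb : b ∈ M) :
    a * b * a ∈ M := by
  have hle : ∀ y ∈ I, y ∈ M := fun y hy =>
    le_inverse_set hI1 (fun x hx hx0 => let ⟨w, hw, e1, e2⟩ := hIM x hx hx0; ⟨w, hw, e2, e1⟩)
      (fun x hx hx0 => let ⟨w, hw, e1, e2⟩ := hMI x hx hx0; ⟨w, hw, e2, e1⟩) hy
  rcases subsingleton_or_nontrivial R with h | h
  · rw [Subsingleton.elim (a * b * a) 0]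
    exact M.zero_mem
  by_cases ha0 : a = 0
  · rw [ha0, mul_zero]
    exact M.zero_mem
  by_cases hb0 : b = 0
  · rw [hb0, mul_zero, zero_mul]
    exact M.zero_mem
  obtain ⟨bi, hbi, hbib, -⟩ := hMI b hb hb0
  obtain ⟨ai, hai, haia, -⟩ := hMI a ha ha0
  by_cases hc0 : bi - a = 0
  · rw [← sub_eq_zero.1 hc0, hbib, one_mul, sub_eq_zero.1 hc0]
    exact ha
  obtain ⟨ci, hci, hcic, -⟩ := hMI _ (M.sub_mem (hle _ hbi) ha) hc0
  have hd : (ai + ci) * (a - a * b * a) = 1 := by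
    have h2 : (bi - a) * (b * a) = a - a * b * a := by
      rw [sub_mul, ← mul_assoc, hbib, one_mul, mul_assoc]
    rw [add_mul, mul_sub, haia, ← mul_assoc ai (a * b), ← mul_assoc ai, haia, one_mul, ← h2, ← mul_assoc ci,
      hcic, one_mul, sub_add_cancel]
  have hd0 : ai + ci ≠ 0 := fun h0 => by
    rw [h0, zero_mul] at hd
    exact zero_ne_one hd
  obtain ⟨z, hz, hzd, -⟩ := hMI _ (M.add_mem (hle _ hai) (hle _ hci)) hd0
  have hzb : z = a - a * b * a := left_inv_eq_right_inv hzd hd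
  have := M.sub_mem ha (hzb ▸ hle _ hz)
  rwa [sub_sub_cancel] at this

end CfsgLib.OstromWagner.Jordan
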