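import Cfsg.Agent.Lib.OstromWagner.JordanInvolution

/-!
# A set of invertible matrices closed under `x y x` is commutative
-/

set_option autoImplicit false

namespace CfsgLib.OstromWagner.Jordan

open MulOpposite

variable {R : Type*} [Ring R]

/-- The swap involution of `R × Rᵐᵒᵖ`. -/
def swp (s : R × Rᵐᵒᵖ) : R × Rᵐᵒᵖ := (s.2.unop, op s.1)

/-- The symmetric element attached to `a`. -/
def sym (a : R) : R × Rᵐᵒᵖ := (a, op a)

/-- The trace. -/
def tr (s : R × Rᵐᵒᵖ) : R := s.1 + s.2.unop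

theorem swp_mul (s t : R × Rᵐᵒᵖ) : swp (s * t) = swp t * swp s := rfl

theorem swp_add (s t : R × Rᵐᵒᵖ) : swp (s + t) = swp s + swp t := rfl

theorem swp_swp (s : R × Rᵐᵒᵖ) : swp (swp s) = s := rfl

theorem swp_one : swp (1 : R × Rᵐᵒᵖ) = 1 := rfl

theorem swp_sym (a : R) : swp (sym a) = sym a := rfl

theorem sym_pow (a : R) (i : ℕ) : sym a ^ i = sym (a ^ i) :=
  Prod.ext (by simp [sym]) (by simp [sym])

theorem tr_sym_mul (a : R) (s : R × Rᵐᵒᵖ) : tr (sym a * s * sym a) = a * tr s * a := by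
  simp [tr, sym, mul_add, add_mul, mul_assoc]

variable (a b : R)

/-- The letters, indexed by parity. -/
def letter (n : ℕ) : R × Rᵐᵒᵖ := if n % 2 = 0 then sym a else sym b

/-- Products of `r` powers of alternating letters, starting with the letter `n`. -/
def W : ℕ → ℕ → Set (R × Rᵐᵒᵖ)
  | 0, _ => {1}
  | r + 1, n => {s | ∃ i : ℕ, ∃ w ∈ W r (n + 1), s = letter a b n ^ i * w}

theorem letter_congr {n n' : ℕ} (h : n % 2 = n' % 2) : letter a b n = letter a b n' := by
  rw [letter, letter, h]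

theorem W_congr : ∀ (r : ℕ) {n n' : ℕ}, n % 2 = n' % 2 → W a b r n = W a b r n'
  | 0, _, _, _ => rfl
  | r + 1, n, n', h => by
    simp only [W]
    rw [letter_congr a b h, W_congr r (show (n + 1) % 2 = (n' + 1) % 2 by omega)]

theorem snoc : ∀ (r n : ℕ) {w : R × Rᵐᵒᵖ}, w ∈ W a b r n → ∀ l : ℕ, w * letter a b (n + r) ^ l ∈ W a b (r + 1) n
  | 0, n, w, hw, l => ⟨l, 1, rfl, by rw [Set.mem_singleton_iff.1 hw, one_mul, mul_one, add_zero]⟩
  | r + 1, n, _, ⟨i, u, hu, rfl⟩, l => by
    refine ⟨i, _, snoc r (n + 1) hu l, ?_⟩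
    rw [mul_assoc, show n + (r + 1) = n + 1 + r by ring]

theorem unsnoc : ∀ (r n : ℕ) {w : R × Rᵐᵒᵖ}, w ∈ W a b (r + 1) n →
    ∃ u ∈ W a b r n, ∃ l : ℕ, w = u * letter a b (n + r) ^ l
  | 0, n, _, ⟨i, u, hu, rfl⟩ => ⟨1, rfl, i, by rw [Set.mem_singleton_iff.1 hu, one_mul, mul_one, add_zero]⟩
  | r + 1, n, _, ⟨i, u, hu, rfl⟩ => by
    obtain ⟨v, hv, l, rfl⟩ := unsnoc r (n + 1) hu
    exact ⟨_, ⟨i, v, hv, rfl⟩, l, by rw [mul_assoc, show n + (r + 1) = n + 1 + r by ring]⟩

theorem mergeR : ∀ (r n : ℕ) {w : R × Rᵐᵒᵖ}, w ∈ W a b (r + 1) n → ∀ l : ℕ,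
    w * letter a b (n + r) ^ l ∈ W a b (r + 1) n
  | 0, n, _, ⟨i, u, hu, rfl⟩, l =>
    ⟨i + l, 1, rfl, by rw [Set.mem_singleton_iff.1 hu, mul_one, mul_one, add_zero, pow_add]⟩
  | r + 1, n, _, ⟨i, u, hu, rfl⟩, l => by
    refine ⟨i, _, mergeR r (n + 1) hu l, ?_⟩
    rw [mul_assoc, show n + (r + 1) = n + 1 + r by ring]

theorem mergeL {r n : ℕ} {w : R × Rᵐᵒᵖ} (hw : w ∈ W a b (r + 1) n) (i : ℕ) :
    letter a b n ^ i * w ∈ W a b (r + 1) n := by
  obtain ⟨j, u, hu, rfl⟩ := hw
  exact ⟨i + j, u, hu, by rw [pow_add, mul_assoc]⟩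

theorem swp_letter_pow (n i : ℕ) : swp (letter a b n ^ i) = letter a b n ^ i := by
  rw [letter]
  split_ifs <;> rw [sym_pow, swp_sym]

theorem swp_mem : ∀ (r n : ℕ) {w : R × Rᵐᵒᵖ}, w ∈ W a b r n → swp w ∈ W a b r (n + r + 1)
  | 0, n, w, hw => by rw [Set.mem_singleton_iff.1 hw, swp_one]; rfl
  | r + 1, n, _, ⟨i, u, hu, rfl⟩ => by
    rw [swp_mul, swp_letter_pow]
    have h1 : swp u ∈ W a b r (n + r) := W_congr a b r (show (n + 1 + r + 1) % 2 = (n + r) % 2 by omega) ▸
      swp_mem r (n + 1) hu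
    rw [W_congr a b (r + 1) (show (n + (r + 1) + 1) % 2 = (n + r) % 2 by omega),
      letter_congr a b (show n % 2 = (n + r + r) % 2 by omega)]
    exact snoc a b r (n + r) h1 i

variable {a b} {M : AddSubgroup R} (h1 : (1 : R) ∈ M) (hM : ∀ x ∈ M, ∀ y ∈ M, x * y * x ∈ M)

include hM in
theorem triple_mem {x y z : R} (hx : x ∈ M) (hy : y ∈ M) (hz : z ∈ M) : x * y * z + z * y * x ∈ M := by
  have : x * y * z + z * y * x = (x + z) * y * (x + z) - x * y * x - z * y * z := by noncomm_ring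
  rw [this]
  exact M.sub_mem (M.sub_mem (hM _ (M.add_mem hx hz) _ hy) (hM _ hx _ hy)) (hM _ hz _ hy)

include h1 hM in
theorem pow_mem' {x : R} (hx : x ∈ M) (i : ℕ) : x ^ i ∈ M := by
  induction i using Nat.twoStepInduction with
  | zero => rwa [pow_zero]
  | one => rwa [pow_one]
  | more i h _ =>
    have : x ^ (i + 2) = x * x ^ i * x := by rw [pow_succ, pow_succ']
    rw [this]
    exact hM _ hx _ h

variable (ha : a ∈ M) (hb : b ∈ M)

include ha hb h1 hM in
theorem letter_pow_mem (n i : ℕ) : ∃ c ∈ M, letter a b n ^ i = sym c := by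
  rw [letter]
  split_ifs
  · exact ⟨_, pow_mem' h1 hM ha i, sym_pow a i⟩
  · exact ⟨_, pow_mem' h1 hM hb i, sym_pow b i⟩

include ha hb h1 hM in
/-- Cohn's lemma. -/
theorem tr_mem_W : ∀ (r n : ℕ) {w : R × Rᵐᵒᵖ}, w ∈ W a b r n → tr w ∈ M := by
  intro r
  induction r using Nat.strong_induction_on with
  | _ r ih =>
    intro n w hw
    match r, ih, hw with
    | 0, _, hw => rw [Set.mem_singleton_iff.1 hw]; exact M.add_mem h1 h1
    | 1, _, ⟨i, u, hu, hw⟩ =>
      obtain ⟨c, hc, he⟩ := letter_pow_mem h1 hM ha hb n i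
      rw [hw, Set.mem_singleton_iff.1 hu, mul_one, he]
      exact M.add_mem hc hc
    | r + 2, ih, ⟨i, u, hu, hw⟩ =>
      obtain ⟨u, hu', l, rfl⟩ := unsnoc a b r (n + 1) hu
      subst hw
      rcases Nat.mod_two_eq_zero_or_one r with hr | hr
      · obtain ⟨x, hx, hxe⟩ := letter_pow_mem h1 hM ha hb n i
        obtain ⟨z, hz, hze⟩ := letter_pow_mem h1 hM ha hb (n + 1 + r) l
        rw [← mul_assoc]
        have key : tr (letter a b n ^ i * u * letter a b (n + 1 + r) ^ l) =
            (x * tr u * z + z * tr u * x) - tr (letter a b n ^ i * swp u * letter a b (n + 1 + r) ^ l) := by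
          rw [hxe, hze]
          simp [tr, swp, sym, mul_add, add_mul, mul_assoc]
          abel
        rw [key]
        refine M.sub_mem (triple_mem hM hx (ih r (by omega) _ hu') hz) ?_
        match r, hu', hr with
        | 0, hu', _ =>
          rw [Set.mem_singleton_iff.1 hu', swp_one, mul_one, hxe, hze]
          have : tr (sym x * sym z) = x * 1 * z + z * 1 * x := by simp [tr, sym]
          rw [this]
          exact triple_mem hM hx h1 hz
        | s + 1, hu', hr =>
          refine ih (s + 1) (by omega) n ?_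
          have h2 : swp u ∈ W a b (s + 1) n :=
            W_congr a b (s + 1) (show (n + 1 + (s + 1) + 1) % 2 = n % 2 by omega) ▸ swp_mem a b (s + 1) (n + 1) hu'
          rw [letter_congr a b (show (n + 1 + (s + 1)) % 2 = (n + s) % 2 by omega)]
          exact mergeR a b s n (mergeL a b h2 i) l
      · rw [letter_congr a b (show (n + 1 + r) % 2 = n % 2 by omega)]
        rcases le_total l i with hle | hle
        · obtain ⟨j, rfl⟩ := Nat.exists_eq_add_of_le hle
          obtain ⟨x, hx, hxe⟩ := letter_pow_mem h1 hM ha hb n l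
          rw [pow_add, show letter a b n ^ l * letter a b n ^ j * (u * letter a b n ^ l) =
            letter a b n ^ l * (letter a b n ^ j * u) * letter a b n ^ l by simp only [mul_assoc], hxe, tr_sym_mul]
          exact hM _ hx _ (ih (r + 1) (by omega) n ⟨j, u, hu', rfl⟩)
        · obtain ⟨j, rfl⟩ := Nat.exists_eq_add_of_le hle
          obtain ⟨x, hx, hxe⟩ := letter_pow_mem h1 hM ha hb n i
          rw [add_comm i j, pow_add, show letter a b n ^ i * (u * (letter a b n ^ j * letter a b n ^ i)) =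
            letter a b n ^ i * (u * letter a b n ^ j) * letter a b n ^ i by simp only [mul_assoc], hxe, tr_sym_mul]
          refine hM _ hx _ (ih (r + 1) (by omega) (n + 1) ?_)
          rw [letter_congr a b (show n % 2 = (n + 1 + r) % 2 by omega)]
          exact snoc a b r (n + 1) hu' j

/-- The ring generated by two symmetric elements. -/
def ring (a b : R) : Subring (R × Rᵐᵒᵖ) := Subring.closure {sym a, sym b}

theorem exists_W {w : R × Rᵐᵒᵖ} (hw : w ∈ Submonoid.closure ({sym a, sym b} : Set (R × Rᵐᵒᵖ))) :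
    ∃ r n, w ∈ W a b r n := by
  induction hw using Submonoid.closure_induction_right with
  | one => exact ⟨0, 0, rfl⟩
  | mul_right x hx y hy ih =>
    obtain ⟨r, n, hx⟩ := ih
    obtain ⟨j, rfl⟩ : ∃ j, y = letter a b j := by
      rcases hy with rfl | rfl
      · exact ⟨0, rfl⟩
      · exact ⟨1, rfl⟩
    by_cases hj : j % 2 = (n + r) % 2
    · refine ⟨r + 1, n, ?_⟩
      rw [letter_congr a b hj, ← pow_one (letter a b (n + r))]
      exact snoc a b r n hx 1
    · refine ⟨r + 1 + 1, n, ?_⟩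
      have h2 := snoc a b r n hx 0
      rw [pow_zero, mul_one] at h2
      rw [letter_congr a b (show j % 2 = (n + (r + 1)) % 2 by omega), ← pow_one (letter a b (n + (r + 1)))]
      exact snoc a b (r + 1) n h2 1

theorem swp_monoid {w : R × Rᵐᵒᵖ} (hw : w ∈ Submonoid.closure ({sym a, sym b} : Set (R × Rᵐᵒᵖ))) :
    swp w ∈ Submonoid.closure ({sym a, sym b} : Set (R × Rᵐᵒᵖ)) := by
  induction hw using Submonoid.closure_induction_right with
  | one => rw [swp_one]; exact one_mem _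
  | mul_right x _ y hy ih =>
    rw [swp_mul]
    refine mul_mem (Submonoid.subset_closure ?_) ih
    rcases hy with rfl | rfl
    · exact Or.inl rfl
    · exact Or.inr rfl

theorem swp_ring {t : R × Rᵐᵒᵖ} (ht : t ∈ ring a b) : swp t ∈ ring a b := by
  rw [ring, Subring.mem_closure_iff] at ht ⊢
  induction ht using AddSubgroup.closure_induction with
  | mem x hx => exact AddSubgroup.subset_closure (swp_monoid hx)
  | zero => exact zero_mem _
  | add x y _ _ hx hy => rw [swp_add]; exact add_mem hx hy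
  | neg x _ hx =>
    rw [show swp (-x) = -swp x from rfl]
    exact neg_mem hx

include ha hb h1 hM in
theorem tr_mem {t : R × Rᵐᵒᵖ} (ht : t ∈ ring a b) : tr t ∈ M := by
  rw [ring, Subring.mem_closure_iff] at ht
  induction ht using AddSubgroup.closure_induction with
  | mem x hx =>
    obtain ⟨r, n, hw⟩ := exists_W hx
    exact tr_mem_W h1 hM ha hb r n hw
  | zero => simp [tr]
  | add x y _ _ hx hy =>
    rw [show tr (x + y) = tr x + tr y by simp [tr]; abel]
    exact M.add_mem hx hy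
  | neg x _ hx =>
    rw [show tr (-x) = -tr x by simp [tr]; abel]
    exact M.neg_mem hx

include ha hb h1 hM in
theorem norm_mem {t : R × Rᵐᵒᵖ} (ht : t ∈ ring a b) : (swp t * t).1 ∈ M := by
  have ht' := ht
  rw [ring, Subring.mem_closure_iff] at ht'
  induction ht' using AddSubgroup.closure_induction with
  | mem x hx =>
    induction hx using Submonoid.closure_induction_right with
    | one => simpa [swp] using h1
    | mul_right x hx y hy ih =>
      have hxM := ih (Subring.mem_closure_iff.2 (AddSubgroup.subset_closure hx))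
      obtain ⟨c, hc, rfl⟩ : ∃ c ∈ M, y = sym c := by
        rcases hy with rfl | rfl
        · exact ⟨a, ha, rfl⟩
        · exact ⟨b, hb, rfl⟩
      have : (swp (x * sym c) * (x * sym c)).1 = c * (swp x * x).1 * c := by simp [swp, sym, mul_assoc]
      rw [this]
      exact hM _ hc _ hxM
  | zero => simp
  | add x y hx hy hx' hy' =>
    have hxT : x ∈ ring a b := Subring.mem_closure_iff.2 hx
    have hyT : y ∈ ring a b := Subring.mem_closure_iff.2 hy
    have : (swp (x + y) * (x + y)).1 = (swp x * x).1 + (swp y * y).1 + tr (swp x * y) := by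
      simp [swp, tr, mul_add, add_mul]
      abel
    rw [this]
    exact M.add_mem (M.add_mem (hx' hxT) (hy' hyT)) (tr_mem h1 hM ha hb (Subring.mul_mem _ (swp_ring hxT) hyT))
  | neg x hx hx' =>
    have : (swp (-x) * -x).1 = (swp x * x).1 := by simp [swp]
    rw [this]
    exact hx' (Subring.mem_closure_iff.2 hx)

/-- A natural number prime to the characteristic is invertible. -/
theorem isUnit_natCast {S : Type*} [Ring S] {p m : ℕ} (hp : p.Prime) (hchar : (p : S) = 0) (hm : ¬ p ∣ m) :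
    IsUnit (m : S) := by
  haveI := Fact.mk hp
  have hne : (m : ZMod p) ≠ 0 := fun h => hm ((ZMod.natCast_eq_zero_iff m p).1 h)
  obtain ⟨k, hk⟩ : ∃ k : ℕ, ((m * k : ℕ) : ZMod p) = ((1 : ℕ) : ZMod p) :=
    ⟨((m : ZMod p)⁻¹).val, by rw [Nat.cast_mul, ZMod.natCast_val, ZMod.cast_id, mul_inv_cancel₀ hne, Nat.cast_one]⟩
  rw [ZMod.natCast_eq_natCast_iff', Nat.one_mod_eq_one.2 hp.ne_one] at hk
  have h2 : (m : S) * k = 1 := by
    rw [← Nat.cast_mul, ← Nat.mod_add_div (m * k) p, hk, Nat.cast_add, Nat.cast_mul, hchar, zero_mul, add_zero,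
      Nat.cast_one]
  exact ⟨⟨m, k, h2, by rw [← (Nat.cast_commute m (k : S)).eq, h2]⟩, rfl⟩

section Field

variable [Finite R] {p : ℕ} (hp : p.Prime) (hchar : (p : R) = 0) (hunit : ∀ x ∈ M, x ≠ 0 → IsUnit x)

include h1 hM hp hchar hunit in
theorem not_dvd_orderOf {x : R} (hx : x ∈ M) (hx0 : x ≠ 0) : 0 < orderOf x ∧ ¬ p ∣ orderOf x := by
  have hpos : 0 < orderOf x := by
    obtain ⟨u, hu⟩ := hunit x hx hx0
    rw [← hu, orderOf_units]
    exact orderOf_pos u
  refine ⟨hpos, fun hd => ?_⟩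
  haveI : Nontrivial R := ⟨⟨x, 0, hx0⟩⟩
  haveI := Fact.mk hp
  haveI : CharP R p := (CharP.charP_iff_prime_eq_zero hp).2 hchar
  obtain ⟨k, hk⟩ := hd
  have hk0 : k ≠ 0 := fun h => by rw [h, mul_zero] at hk; omega
  have hlt : k < orderOf x := by
    rw [hk]
    exact lt_mul_of_one_lt_left (Nat.pos_of_ne_zero hk0) hp.one_lt
  have hne : x ^ k - 1 ≠ 0 := fun h => pow_ne_one_of_lt_orderOf hk0 hlt (sub_eq_zero.1 h)
  have hz : (x ^ k - 1) ^ p = 0 := by
    rw [sub_pow_char_of_commute p (Commute.one_right _), one_pow, ← pow_mul, mul_comm, ← hk, pow_orderOf_eq_one,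
      sub_self]
  exact not_isUnit_zero (hz ▸ (hunit _ (M.sub_mem (pow_mem' h1 hM hx k) h1) hne).pow p)

include h1 hM hp hchar hunit in
/-- The set is commutative. -/
theorem comm {x y : R} (hx : x ∈ M) (hy : y ∈ M) : x * y = y * x := by
  by_cases hx0 : x = 0
  · simp [hx0]
  by_cases hy0 : y = 0
  · simp [hy0]
  obtain ⟨hmx, hdx⟩ := not_dvd_orderOf h1 hM hp hchar hunit hx hx0
  obtain ⟨hmy, hdy⟩ := not_dvd_orderOf h1 hM hp hchar hunit hy hy0
  let T := ring x y
  haveI : Finite Rᵐᵒᵖ := Finite.of_equiv _ opEquiv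
  haveI : Finite T := Subtype.finite
  let σ : T → T := fun t => ⟨swp t, swp_ring t.2⟩
  have hsx : sym x ∈ T := Subring.subset_closure (Or.inl rfl)
  have hsy : sym y ∈ T := Subring.subset_closure (Or.inr rfl)
  have hcharT : (p : T) = 0 := Subtype.ext (Prod.ext (by simpa using hchar) (by simpa using congrArg op hchar))
  have huz : ∀ t : T, swp (t : R × Rᵐᵒᵖ) = t → (t : R × Rᵐᵒᵖ).1 ∈ M → t = 0 ∨ IsUnit t := by
    intro t ht hmem
    by_cases h0 : (t : R × Rᵐᵒᵖ).1 = 0
    · refine Or.inl (Subtype.ext (Prod.ext h0 ?_))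
      rw [← ht]
      simp [swp, h0]
    · refine Or.inr ?_
      have hu := hunit _ hmem h0
      have hS : IsUnit (t : R × Rᵐᵒᵖ) := by
        refine Prod.isUnit_iff.2 ⟨hu, ?_⟩
        rw [← ht]
        exact hu.op
      have hinj : Function.Injective (t * ·) := fun u v huv =>
        Subtype.ext (hS.mul_left_cancel (congrArg Subtype.val huv))
      obtain ⟨v, hv⟩ := (Finite.injective_iff_surjective.1 hinj) 1
      exact (IsUnit.mul_iff.1 (show IsUnit (t * v) by rw [show t * v = 1 from hv]; exact isUnit_one)).1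
  have hsq : ∀ (c : R) (hc : sym c ∈ T), ¬ p ∣ orderOf c →
      (∃ d : T, (⟨swp d, swp_ring d.2⟩ : T) = d ∧ (⟨sym c, hc⟩ : T) = d * d) ∨ IsUnit (2 : T) := by
    intro c hc hd
    rcases hp.eq_two_or_odd' with h2 | hodd
    · obtain ⟨k, hk⟩ : Odd (orderOf c) := Nat.not_even_iff_odd.1 fun h => hd (h2 ▸ h.two_dvd)
      refine Or.inl ⟨⟨sym c ^ (k + 1), Subring.pow_mem _ hc _⟩, Subtype.ext ?_, Subtype.ext ?_⟩
      · show swp (sym c ^ (k + 1)) = sym c ^ (k + 1)
        rw [sym_pow, swp_sym]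
      · show sym c = sym c ^ (k + 1) * sym c ^ (k + 1)
        rw [← pow_add, show k + 1 + (k + 1) = orderOf c + 1 by omega, sym_pow, pow_succ, pow_orderOf_eq_one,
          one_mul]
    · exact Or.inr (by
        have := isUnit_natCast (S := T) (m := 2) hp hcharT fun h => by
          rw [(Nat.prime_dvd_prime_iff_eq hp Nat.prime_two).1 h] at hodd
          exact Nat.not_odd_iff_even.2 even_two hodd
        simpa using this)
  have key := comm_of_involution_ring (T := T) σ
    (fun u v => Subtype.ext rfl) (fun u v => Subtype.ext rfl) (fun u => Subtype.ext rfl)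
    (fun t : T => huz (t + σ t) (by
        show swp ((t : R × Rᵐᵒᵖ) + swp (t : R × Rᵐᵒᵖ)) = (t : R × Rᵐᵒᵖ) + swp (t : R × Rᵐᵒᵖ)
        rw [swp_add, swp_swp, add_comm])
      (show ((t : R × Rᵐᵒᵖ) + swp (t : R × Rᵐᵒᵖ)).1 ∈ M from tr_mem h1 hM hx hy t.2))
    (fun t : T => huz (σ t * t) (by
        show swp (swp (t : R × Rᵐᵒᵖ) * (t : R × Rᵐᵒᵖ)) = swp (t : R × Rᵐᵒᵖ) * (t : R × Rᵐᵒᵖ)
        rw [swp_mul, swp_swp])
      (show (swp (t : R × Rᵐᵒᵖ) * (t : R × Rᵐᵒᵖ)).1 ∈ M from norm_mem h1 hM hx hy t.2))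
    (a := ⟨sym x, hsx⟩) (b := ⟨sym y, hsy⟩) rfl rfl
    (fun z hzx hzy t => Subtype.ext (by
      have hle : T ≤ Subring.centralizer {(z : R × Rᵐᵒᵖ)} := Subring.closure_le.2 fun s hs => by
        refine Subring.mem_centralizer_iff.2 fun g hg => ?_
        rw [Set.mem_singleton_iff.1 hg]
        rcases hs with rfl | rfl
        · exact congrArg Subtype.val hzx
        · exact congrArg Subtype.val hzy
      exact Subring.mem_centralizer_iff.1 (hle t.2) _ rfl))
    (hsq x hsx hdx) (hsq y hsy hdy) (m := orderOf x)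
    (Subtype.ext (by
      show sym x ^ orderOf x = 1
      rw [sym_pow, pow_orderOf_eq_one]
      rfl))
    (isUnit_natCast hp hcharT hdx)
  exact congrArg (fun t : T => (t : R × Rᵐᵒᵖ).1) key

include h1 hM hp hchar hunit in
/-- The set is closed under multiplication. -/
theorem mul_mem {x y : R} (hx : x ∈ M) (hy : y ∈ M) : x * y ∈ M := by
  by_cases hx0 : x = 0
  · simp [hx0]
  rcases hp.eq_two_or_odd' with h2 | hodd
  · obtain ⟨k, hk⟩ : Odd (orderOf x) :=
      Nat.not_even_iff_odd.1 fun h => (not_dvd_orderOf h1 hM hp hchar hunit hx hx0).2 (h2 ▸ h.two_dvd)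
    have hc := pow_mem' h1 hM hx (k + 1)
    have he : x ^ (k + 1) * y * x ^ (k + 1) = x * y := by
      rw [mul_assoc, comm h1 hM hp hchar hunit hy hc, ← mul_assoc, ← pow_add,
        show k + 1 + (k + 1) = orderOf x + 1 by omega, pow_succ, pow_orderOf_eq_one, one_mul]
    exact he ▸ hM _ hc _ hy
  · have h2 : 2 • (x * y) ∈ M := by
      have := M.sub_mem (M.sub_mem (hM _ (M.add_mem hx h1) _ hy) (hM _ hx _ hy)) hy
      have he : (x + 1) * y * (x + 1) - x * y * x - y = 2 • (x * y) := by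
        rw [two_nsmul]
        nth_rw 2 [comm h1 hM hp hchar hunit hx hy]
        noncomm_ring
      exact he ▸ this
    obtain ⟨k, hk⟩ := hodd
    have h3 := M.nsmul_mem h2 (k + 1)
    rwa [← mul_nsmul', show (k + 1) * 2 = p + 1 by omega, succ_nsmul, nsmul_eq_mul, hchar, zero_mul, zero_add] at h3

end Field

end CfsgLib.OstromWagner.Jordan
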