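import Cfsg.Agent.Lib.OstromWagner.HomAxes

/-!
# Subgroups of prime power order in permutation groups
-/

set_option autoImplicit false
set_option linter.unusedSectionVars false

namespace CfsgLib.OstromWagner

open MulAction

variable {G X : Type*} [Group G] [Finite G] [MulAction G X] {p : ℕ} [Fact p.Prime]

/-- `T` is a Sylow `p`-subgroup of `K`. -/
def IsSylowIn (p : ℕ) (T K : Subgroup G) : Prop :=
  T ≤ K ∧ IsPGroup p T ∧ Nat.card T = p ^ (Nat.card K).factorization p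

theorem exists_sylowIn_ge {U K : Subgroup G} (hU : IsPGroup p U) (hUK : U ≤ K) :
    ∃ T : Subgroup G, IsSylowIn p T K ∧ U ≤ T := by
  have hU' : IsPGroup p (U.subgroupOf K) := hU.of_equiv (Subgroup.subgroupOfEquivOfLe hUK).symm
  obtain ⟨Q, hQ⟩ := hU'.exists_le_sylow
  refine ⟨(Q : Subgroup K).map K.subtype, ⟨Subgroup.map_subtype_le _, Q.2.map _, ?_⟩, fun u hu => ?_⟩
  · rw [Subgroup.card_map_of_injective K.subtype_injective]
    exact Q.card_eq_multiplicity
  · exact ⟨⟨u, hUK hu⟩, hQ hu, rfl⟩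

theorem exists_sylowIn (K : Subgroup G) : ∃ T : Subgroup G, IsSylowIn p T K :=
  let ⟨T, hT, _⟩ := exists_sylowIn_ge (IsPGroup.of_bot (p := p)) (bot_le : (⊥ : Subgroup G) ≤ K)
  ⟨T, hT⟩

theorem IsSylowIn.pow_dvd {T K : Subgroup G} (hT : IsSylowIn p T K) {i : ℕ} (h : p ^ i ∣ Nat.card K) :
    p ^ i ∣ Nat.card T :=
  hT.2.2 ▸ pow_dvd_pow p (((Fact.out : p.Prime).pow_dvd_iff_le_factorization Nat.card_pos.ne').1 h)

theorem IsSylowIn.le_of_le {T T' K : Subgroup G} (hT : IsSylowIn p T K) (hle : T ≤ T') (hT'K : T' ≤ K)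
    (hT' : IsPGroup p T') : T' = T := by
  obtain ⟨i, hi⟩ := IsPGroup.iff_card.1 hT'
  have hd : p ^ i ∣ Nat.card K := hi ▸ Subgroup.card_dvd_of_le hT'K
  refine (Subgroup.eq_of_le_of_card_ge hle ?_).symm
  rw [hi]
  exact Nat.le_of_dvd Nat.card_pos (hT.pow_dvd hd)

/-- Witt's lemma. -/
theorem IsSylowIn.witt {T K : Subgroup G} {g : G}
    (hconj : ∀ t ∈ T, g * t * g⁻¹ ∈ K) (hTK : T ≤ K) (hT : IsPGroup p T)
    (hcard : Nat.card T = p ^ (Nat.card K).factorization p) : ∃ x ∈ K, x * g ∈ nrm G T := by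
  let T' : Subgroup G := T.map (MulAut.conj g).toMonoidHom
  have hT'K : T' ≤ K := by
    rintro _ ⟨t, ht, rfl⟩
    exact hconj t ht
  have hc' : Nat.card T' = Nat.card T := Subgroup.card_map_of_injective (MulEquiv.injective _)
  let Q : Sylow p K := Sylow.ofCard (T.subgroupOf K) (by
    rw [Nat.card_congr (Subgroup.subgroupOfEquivOfLe hTK).toEquiv, hcard])
  let Q' : Sylow p K := Sylow.ofCard (T'.subgroupOf K) (by
    rw [Nat.card_congr (Subgroup.subgroupOfEquivOfLe hT'K).toEquiv, hc', hcard])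
  obtain ⟨x, hx⟩ := MulAction.exists_smul_eq K Q' Q
  refine ⟨x, x.2, Subgroup.mem_normalizer_iff.2 fun t => ?_⟩
  have key : ∀ k : K, k ∈ (Q' : Subgroup K) ↔ x * k * x⁻¹ ∈ (Q : Subgroup K) := fun k => by
    rw [← hx, Sylow.coe_subgroup_smul, ← MulAut.conj_apply, ← MulAut.smul_def,
      Subgroup.smul_mem_pointwise_smul_iff]
  constructor
  · intro ht
    have h := (key ⟨g * t * g⁻¹, hconj t ht⟩).1 ⟨t, ht, rfl⟩
    have h' : (x : G) * (g * t * g⁻¹) * (x : G)⁻¹ ∈ T := h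
    rwa [show (x : G) * g * t * ((x : G) * g)⁻¹ = (x : G) * (g * t * g⁻¹) * (x : G)⁻¹ by group]
  · intro ht
    have hk : g * t * g⁻¹ ∈ K := by
      have := mul_mem (mul_mem (inv_mem x.2) (hTK ht)) x.2
      rwa [show (x : G)⁻¹ * ((x : G) * g * t * ((x : G) * g)⁻¹) * x = g * t * g⁻¹ by group] at this
    have h : (⟨g * t * g⁻¹, hk⟩ : K) ∈ (Q' : Subgroup K) := (key _).2 (by
      show (x : G) * (g * t * g⁻¹) * (x : G)⁻¹ ∈ T
      rwa [show (x : G) * g * t * ((x : G) * g)⁻¹ = (x : G) * (g * t * g⁻¹) * (x : G)⁻¹ by group] at ht)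
    obtain ⟨t', ht', he⟩ := (h : g * t * g⁻¹ ∈ T')
    have : t' = t := by simpa using he
    exact this ▸ ht'

theorem dvd_ncard_of_orbits [Finite X] (H : Subgroup G) (S : Set X) (hinv : ∀ h ∈ H, ∀ x ∈ S, h • x ∈ S) {d : ℕ}
    (hd : ∀ x ∈ S, d ∣ (orbit H x).ncard) : d ∣ S.ncard := by
  classical
  letI : MulAction H S :=
    { smul := fun h x => ⟨(h : G) • (x : X), hinv h h.2 x x.2⟩
      one_smul := fun x => Subtype.ext (one_smul G (x : X))
      mul_smul := fun g h x => Subtype.ext (mul_smul (g : G) (h : G) (x : X)) }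
  cases nonempty_fintype (orbitRel.Quotient H S)
  rw [← Nat.card_coe_set_eq, Nat.card_congr (selfEquivSigmaOrbitsQuotientStabilizer H S), Nat.card_sigma]
  refine Finset.dvd_sum fun ω _ => ?_
  have h := hd ω.out ω.out.2
  rw [← Nat.card_coe_set_eq, Nat.card_congr (orbitEquivQuotientStabilizer H (ω.out : X))] at h
  rwa [show stabilizer H ω.out = stabilizer H (ω.out : X) from Subgroup.ext fun k =>
    ⟨fun hk => mem_stabilizer_iff.2 (congrArg Subtype.val (mem_stabilizer_iff.1 hk)),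
      fun hk => mem_stabilizer_iff.2 (Subtype.ext (mem_stabilizer_iff.1 hk))⟩]

theorem IsSylowIn.orbit_dvd [Finite X] {T K : Subgroup G} (hT : IsSylowIn p T K) (x : X) {i : ℕ}
    (h : p ^ i ∣ (orbit K x).ncard) : p ^ i ∣ (orbit T x).ncard := by
  have hK : (orbit K x).ncard * Nat.card (stabilizer K x) = Nat.card K := by
    rw [← Nat.card_coe_set_eq, Nat.card_congr (orbitEquivQuotientStabilizer K x),
      ← Subgroup.card_eq_card_quotient_mul_card_subgroup]
  have hTc : (orbit T x).ncard * Nat.card (stabilizer T x) = Nat.card T := by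
    rw [← Nat.card_coe_set_eq, Nat.card_congr (orbitEquivQuotientStabilizer T x),
      ← Subgroup.card_eq_card_quotient_mul_card_subgroup]
  obtain ⟨b, hb⟩ := IsPGroup.iff_card.1 (hT.2.1.to_subgroup (stabilizer T x))
  have hbK : p ^ b ∣ Nat.card (stabilizer K x) := hb ▸ Subgroup.card_dvd_of_injective
    ({ toFun := fun t => ⟨⟨(t : T), hT.1 (t : T).2⟩, mem_stabilizer_iff.2 (mem_stabilizer_iff.1 t.2)⟩
       map_one' := rfl
       map_mul' := fun _ _ => rfl } : stabilizer T x →* stabilizer K x)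
    (fun a c e => Subtype.ext (Subtype.ext (congrArg (fun z => ((z : stabilizer K x) : K).1) e :)))
  have hd := hT.pow_dvd (i := i + b) (by rw [← hK, pow_add]; exact Nat.mul_dvd_mul h hbK)
  rw [← hTc, hb, pow_add] at hd
  exact Nat.dvd_of_mul_dvd_mul_right (pow_pos (Fact.out : p.Prime).pos b) hd

theorem modEq_fixed [Finite X] {T : Subgroup G} (hT : IsPGroup p T) (S : Set X)
    (hinv : ∀ h ∈ T, ∀ x ∈ S, h • x ∈ S) : S.ncard ≡ {x ∈ S | ∀ t ∈ T, t • x = x}.ncard [MOD p] := by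
  letI : MulAction T S :=
    { smul := fun h x => ⟨(h : G) • (x : X), hinv h h.2 x x.2⟩
      one_smul := fun x => Subtype.ext (one_smul G (x : X))
      mul_smul := fun g h x => Subtype.ext (mul_smul (g : G) (h : G) (x : X)) }
  have h := hT.card_modEq_card_fixedPoints S
  rw [Nat.card_coe_set_eq] at h
  refine h.trans ?_
  rw [Nat.card_coe_set_eq, ← Set.ncard_image_of_injective _ Subtype.val_injective]
  refine Eq.subst (motive := fun n => _ ≡ n [MOD p]) ?_ (Nat.ModEq.refl _)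
  congr 1
  ext x
  constructor
  · rintro ⟨y, hy, rfl⟩
    exact ⟨y.2, fun t ht => congrArg Subtype.val (hy ⟨t, ht⟩)⟩
  · rintro ⟨hx, hfix⟩
    exact ⟨⟨x, hx⟩, fun t => Subtype.ext (hfix t t.2), rfl⟩

theorem exists_fixed [Finite X] {T : Subgroup G} (hT : IsPGroup p T) (S : Set X)
    (hinv : ∀ h ∈ T, ∀ x ∈ S, h • x ∈ S) (hp : ¬ p ∣ S.ncard) : ∃ x ∈ S, ∀ t ∈ T, t • x = x := by
  have h := modEq_fixed hT S hinv
  by_contra hno
  push Not at hno
  have h0 : {x ∈ S | ∀ t ∈ T, t • x = x} = ∅ := Set.eq_empty_of_forall_notMem fun x hx => by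
    obtain ⟨t, ht, hne⟩ := hno x hx.1
    exact hne (hx.2 t ht)
  rw [h0, Set.ncard_empty] at h
  exact hp (Nat.modEq_zero_iff_dvd.1 h)

theorem exists_normalizing {U T : Subgroup G} (hT : IsPGroup p T) (hlt : U < T) :
    ∃ w ∈ T, w ∈ nrm G U ∧ w ∉ U := by
  haveI := hT.isNilpotent
  have hne : U.subgroupOf T < ⊤ := lt_top_iff_ne_top.2 fun h => hlt.not_ge (Subgroup.subgroupOf_eq_top.1 h)
  obtain ⟨w, hw, hwn⟩ := SetLike.exists_of_lt (Group.normalizerCondition_of_isNilpotent (U.subgroupOf T) hne)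
  refine ⟨w, w.2, Subgroup.mem_normalizer_iff.2 fun h => ?_, fun hh => hwn hh⟩
  have key := Subgroup.mem_normalizer_iff.1 hw
  constructor
  · intro hh
    exact (key ⟨h, hlt.le hh⟩).1 hh
  · intro hh
    have hhT : h ∈ T := by
      have := mul_mem (mul_mem (inv_mem w.2) (hlt.le hh)) w.2
      rwa [show (w : G)⁻¹ * ((w : G) * h * (w : G)⁻¹) * w = h by group] at this
    exact (key ⟨h, hhT⟩).2 hh

theorem exists_central {T : Subgroup G} (hT : IsPGroup p T) (hne : T ≠ ⊥) :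
    ∃ z ∈ T, z ≠ 1 ∧ z ^ p = 1 ∧ ∀ t ∈ T, t * z = z * t := by
  haveI : Nontrivial T := (Subgroup.nontrivial_iff_ne_bot T).2 hne
  haveI := hT.center_nontrivial
  have hdvd : p ∣ Nat.card (Subgroup.center T) := by
    obtain ⟨k, hk⟩ := IsPGroup.iff_card.1 (hT.to_subgroup (Subgroup.center T))
    rcases k with - | k
    · rw [pow_zero] at hk
      exact absurd hk (Finite.one_lt_card).ne'
    · exact hk ▸ dvd_pow_self p (Nat.succ_ne_zero k)
  obtain ⟨⟨⟨z, hzT⟩, hzc⟩, hz⟩ := exists_prime_orderOf_dvd_card' p hdvd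
  rw [Subgroup.orderOf_mk, Subgroup.orderOf_mk] at hz
  refine ⟨z, hzT, fun e => ?_, hz ▸ pow_orderOf_eq_one z, fun t ht => ?_⟩
  · rw [e, orderOf_one] at hz
    exact (Fact.out : p.Prime).one_lt.ne hz
  · exact congrArg Subtype.val (Subgroup.mem_center_iff.1 hzc ⟨t, ht⟩)

omit [MulAction G X] in
/-- An element of order `p` in an image lifts to a `p`-element. -/
theorem exists_p_lift {A B : Type*} [Group A] [Group B] [Finite A] (f : A →* B) (g₀ : A) (h1 : f g₀ ≠ 1)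
    {i : ℕ} (hp : f g₀ ^ p ^ i = 1) : ∃ g ∈ Subgroup.zpowers g₀, IsPGroup p (Subgroup.zpowers g) ∧ f g ≠ 1 := by
  obtain ⟨a, r, hr, hord⟩ := Nat.exists_eq_pow_mul_and_not_dvd (orderOf_pos g₀).ne' p (Fact.out : p.Prime).ne_one
  refine ⟨g₀ ^ r, pow_mem (Subgroup.mem_zpowers g₀) r, ?_, fun h => ?_⟩
  · have hpow : (g₀ ^ r) ^ p ^ a = 1 := by rw [← pow_mul, mul_comm, ← hord, pow_orderOf_eq_one]
    intro x
    obtain ⟨j, hj⟩ := Subgroup.mem_zpowers_iff.1 x.2
    refine ⟨a, Subtype.ext ?_⟩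
    rw [SubmonoidClass.coe_pow, ← hj, ← zpow_natCast, ← zpow_mul, mul_comm, zpow_mul, zpow_natCast, hpow,
      one_zpow, OneMemClass.coe_one]
  · refine h1 ?_
    rw [map_pow] at h
    have hd : orderOf (f g₀) ∣ p ^ i := orderOf_dvd_of_pow_eq_one hp
    have hd' : orderOf (f g₀) ∣ r := orderOf_dvd_of_pow_eq_one h
    have hco : Nat.Coprime (p ^ i) r := Nat.Coprime.pow_left _ ((Nat.Prime.coprime_iff_not_dvd Fact.out).2 hr)
    exact orderOf_eq_one_iff.1 (Nat.dvd_one.1 (hco ▸ Nat.dvd_gcd hd hd'))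

end CfsgLib.OstromWagner
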