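import Mathlib

/-!
# Groups of collineations of finite projective planes: counting

A group `G` acts by collineations on the plane `(P, L)` when it acts on points and lines, preserves
incidence and is faithful on points.
-/

set_option autoImplicit false
set_option linter.unusedSectionVars false

namespace CfsgLib.OstromWagner

open Configuration Configuration.ProjectivePlane MulAction

/-- An action by collineations, faithful on points. -/
class IsPlaneAction (G P L : Type*) [Group G] [MulAction G P] [MulAction G L] [Membership P L] : Prop where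
  smul_mem_smul : ∀ (g : G) (p : P) (l : L), g • p ∈ g • l ↔ p ∈ l
  eq_one : ∀ g : G, (∀ p : P, g • p = p) → g = 1

instance instMulActionDual {G X : Type*} [Group G] [h : MulAction G X] : MulAction G (Configuration.Dual X) := h

section Plane

variable {P L : Type*} [Membership P L] [ProjectivePlane P L]

theorem line_eq {p q : P} {l m : L} (h : p ≠ q) (hpl : p ∈ l) (hql : q ∈ l) (hpm : p ∈ m) (hqm : q ∈ m) :
    l = m :=
  (Nondegenerate.eq_or_eq hpl hql hpm hqm).resolve_left h

theorem point_eq {p q : P} {l m : L} (h : l ≠ m) (hpl : p ∈ l) (hpm : p ∈ m) (hql : q ∈ l) (hqm : q ∈ m) :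
    p = q :=
  (Nondegenerate.eq_or_eq hpl hql hpm hqm).resolve_right h

theorem exists_line {p q : P} (h : p ≠ q) : ∃ l : L, p ∈ l ∧ q ∈ l :=
  ⟨_, HasLines.mkLine_ax h⟩

theorem exists_meet {l m : L} (h : l ≠ m) : ∃ p : P, p ∈ l ∧ p ∈ m :=
  ⟨_, HasPoints.mkPoint_ax h⟩

variable [Finite P] [Finite L]

variable (P L) in
/-- The order of the plane. -/
noncomputable def ord : ℕ := ProjectivePlane.order P L

theorem one_lt_ord : 1 < ord P L := one_lt_order P L

theorem ord_pos : 0 < ord P L := lt_trans Nat.zero_lt_one one_lt_ord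

theorem ord_dual : ord (Configuration.Dual L) (Configuration.Dual P) = ord P L := Dual.order P L

theorem ncard_on (l : L) : {p : P | p ∈ l}.ncard = ord P L + 1 := by
  rw [← Nat.card_coe_set_eq]
  exact pointCount_eq P l

theorem ncard_through (p : P) : {l : L | p ∈ l}.ncard = ord P L + 1 := by
  rw [← Nat.card_coe_set_eq]
  exact lineCount_eq L p

theorem card_pts : Nat.card P = ord P L ^ 2 + ord P L + 1 := by
  cases nonempty_fintype P
  rw [Nat.card_eq_fintype_card]
  exact card_points P L

theorem card_lns : Nat.card L = ord P L ^ 2 + ord P L + 1 := by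
  cases nonempty_fintype L
  rw [Nat.card_eq_fintype_card]
  exact card_lines P L

theorem ncard_off (l : L) : {p : P | p ∉ l}.ncard = ord P L ^ 2 := by
  have h := Set.ncard_add_ncard_compl {p : P | p ∈ l}
  rw [ncard_on, card_pts (L := L)] at h
  rw [show {p : P | p ∉ l} = {p : P | p ∈ l}ᶜ from rfl]
  omega

theorem ncard_lines_off (p : P) : {l : L | p ∉ l}.ncard = ord P L ^ 2 := by
  have h := ncard_off (P := Configuration.Dual L) (L := Configuration.Dual P) p
  rwa [ord_dual] at h

theorem ncard_on_ne (l : L) {x : P} (hx : x ∈ l) : {p : P | p ∈ l ∧ p ≠ x}.ncard = ord P L := by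
  have h := Set.ncard_sdiff_singleton_of_mem (show x ∈ {p : P | p ∈ l} from hx)
  rw [ncard_on, Nat.add_sub_cancel] at h
  rw [← h]
  rfl

theorem ncard_through_ne (p : P) {x : L} (hx : p ∈ x) : {l : L | p ∈ l ∧ l ≠ x}.ncard = ord P L := by
  have h := ncard_on_ne (P := Configuration.Dual L) (L := Configuration.Dual P) p (x := x) hx
  rwa [ord_dual] at h

theorem exists_on_ne_ne (l : L) (x y : P) : ∃ p : P, p ∈ l ∧ p ≠ x ∧ p ≠ y := by
  by_contra h
  push Not at h
  have hsub : {p : P | p ∈ l} ⊆ {x, y} := fun p hp => by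
    by_cases hpx : p = x
    · exact Or.inl hpx
    · exact Or.inr (h p hp hpx)
  have h1 := Set.ncard_le_ncard hsub (Set.toFinite _)
  have h2 : ({x, y} : Set P).ncard ≤ 2 :=
    (Set.ncard_insert_le _ _).trans (by rw [Set.ncard_singleton])
  rw [ncard_on] at h1
  have := one_lt_ord (P := P) (L := L)
  omega

theorem exists_through_ne_ne (p : P) (a b : L) : ∃ l : L, p ∈ l ∧ l ≠ a ∧ l ≠ b :=
  exists_on_ne_ne (P := Configuration.Dual L) (L := Configuration.Dual P) p a b

theorem exists_not_mem_two (a b : L) : ∃ p : P, p ∉ a ∧ p ∉ b := by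
  by_cases hab : a = b
  · obtain ⟨p, hp⟩ := Nondegenerate.exists_point (P := P) a
    exact ⟨p, hp, hab ▸ hp⟩
  obtain ⟨x, hxa, hxb⟩ := exists_meet (P := P) hab
  obtain ⟨m, hxm, hma, hmb⟩ := exists_through_ne_ne x a b
  obtain ⟨p, hpm, hpx, -⟩ := exists_on_ne_ne m x x
  exact ⟨p, fun h => hpx (point_eq hma hpm h hxm hxa), fun h => hpx (point_eq hmb hpm h hxm hxb)⟩

/-- The number of lines through a point that meet a given set of two points. -/
theorem ncard_join (p q : P) [Decidable (p = q)] :
    {l : L | p ∈ l ∧ q ∈ l}.ncard = if p = q then ord P L + 1 else 1 := by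
  split_ifs with h
  · subst h
    simp only [and_self]
    exact ncard_through p
  · obtain ⟨l, hl⟩ := exists_line (L := L) h
    rw [Set.ncard_eq_one]
    exact ⟨l, Set.eq_singleton_iff_unique_mem.2 ⟨hl, fun m hm => line_eq h hm.1 hm.2 hl.1 hl.2⟩⟩

theorem ncard_meet (l m : L) [Decidable (l = m)] :
    {p : P | p ∈ l ∧ p ∈ m}.ncard = if l = m then ord P L + 1 else 1 := by
  split_ifs with h
  · subst h
    simp only [and_self]
    exact ncard_on l
  · obtain ⟨x, hx⟩ := exists_meet (P := P) h
    rw [Set.ncard_eq_one]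
    exact ⟨x, Set.eq_singleton_iff_unique_mem.2 ⟨hx, fun y hy => point_eq h hy.1 hy.2 hx.1 hx.2⟩⟩

end Plane

section Action

variable {G P L : Type*} [Group G] [MulAction G P] [MulAction G L] [Membership P L] [IsPlaneAction G P L]

theorem smul_mem_iff (g : G) (p : P) (l : L) : g • p ∈ g • l ↔ p ∈ l := IsPlaneAction.smul_mem_smul g p l

theorem mem_smul_line_iff (g : G) (p : P) (l : L) : p ∈ g • l ↔ g⁻¹ • p ∈ l := by
  rw [← smul_mem_iff g (g⁻¹ • p) l, smul_inv_smul]

theorem smul_mem_of_fix {g : G} {l : L} (hl : g • l = l) {p : P} : g • p ∈ l ↔ p ∈ l := by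
  conv_lhs => rw [← hl]
  exact smul_mem_iff g p l

theorem mem_of_fix {g : G} {p : P} (hp : g • p = p) {l : L} : p ∈ g • l ↔ p ∈ l := by
  conv_lhs => rw [← hp]
  exact smul_mem_iff g p l

variable [ProjectivePlane P L]

theorem smul_line_eq {g : G} {p q : P} {l : L} (h : p ≠ q) (hp : g • p = p) (hq : g • q = q)
    (hpl : p ∈ l) (hql : q ∈ l) : g • l = l :=
  line_eq h ((mem_of_fix hp).2 hpl) ((mem_of_fix hq).2 hql) hpl hql

theorem smul_point_eq {g : G} {l m : L} {p : P} (h : l ≠ m) (hl : g • l = l) (hm : g • m = m)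
    (hpl : p ∈ l) (hpm : p ∈ m) : g • p = p :=
  point_eq h ((smul_mem_of_fix hl).2 hpl) ((smul_mem_of_fix hm).2 hpm) hpl hpm

/-- The action on the dual plane. -/
instance instIsPlaneActionDual [Finite P] [Finite L] :
    IsPlaneAction G (Configuration.Dual L) (Configuration.Dual P) where
  smul_mem_smul g l p := smul_mem_iff (P := P) (L := L) g p l
  eq_one g h := IsPlaneAction.eq_one (P := P) (L := L) g fun p => by
    obtain ⟨a₀, -⟩ := Nondegenerate.exists_line (L := L) p
    obtain ⟨a, hpa, -, -⟩ := exists_through_ne_ne (L := L) p a₀ a₀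
    obtain ⟨b, hpb, hba, -⟩ := exists_through_ne_ne (L := L) p a a
    exact smul_point_eq hba (h b) (h a) hpb hpa

variable [Finite P] [Finite L]

open scoped Classical in
/-- A collineation fixes as many lines as points. -/
theorem ncard_fixed_eq (g : G) : (fixedBy P g).ncard = (fixedBy L g).ncard := by
  cases nonempty_fintype P
  cases nonempty_fintype L
  have key := Finset.sum_card_bipartiteAbove_eq_sum_card_bipartiteBelow
    (r := fun (p : P) (l : L) => p ∈ l ∧ g • p ∈ l) (s := Finset.univ) (t := Finset.univ)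
  have hP : ∀ p : P, ((Finset.univ : Finset L).bipartiteAbove (fun p l => p ∈ l ∧ g • p ∈ l) p).card =
      1 + if g • p = p then ord P L else 0 := fun p => by
    have h := ncard_join (L := L) p (g • p)
    rw [Set.ncard_eq_toFinset_card'] at h
    rw [show ((Finset.univ : Finset L).bipartiteAbove (fun p l => p ∈ l ∧ g • p ∈ l) p) =
      {l : L | p ∈ l ∧ g • p ∈ l}.toFinset by ext; simp [Finset.bipartiteAbove], h]
    by_cases hp : g • p = p
    · rw [if_pos hp.symm, if_pos hp, Nat.add_comm]
    · rw [if_neg (fun e => hp e.symm), if_neg hp]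
  have hL : ∀ l : L, ((Finset.univ : Finset P).bipartiteBelow (fun p l => p ∈ l ∧ g • p ∈ l) l).card =
      1 + if g • l = l then ord P L else 0 := fun l => by
    have h := ncard_meet (P := P) l (g⁻¹ • l)
    rw [Set.ncard_eq_toFinset_card'] at h
    rw [show ((Finset.univ : Finset P).bipartiteBelow (fun p l => p ∈ l ∧ g • p ∈ l) l) =
      {p : P | p ∈ l ∧ p ∈ g⁻¹ • l}.toFinset by ext; simp [Finset.bipartiteBelow, mem_smul_line_iff], h]
    by_cases hl : g • l = l
    · rw [if_pos (eq_inv_smul_iff.2 hl), if_pos hl, Nat.add_comm]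
    · rw [if_neg (fun e => hl (eq_inv_smul_iff.1 e)), if_neg hl]
  simp only [hP, hL, Finset.sum_add_distrib, Finset.sum_const, Finset.card_univ, ← Finset.sum_filter,
    smul_eq_mul, mul_one] at key
  have hc : Fintype.card P = Fintype.card L := card_points_eq_card_lines P L
  rw [Set.ncard_eq_toFinset_card', Set.ncard_eq_toFinset_card']
  have e1 : (fixedBy P g).toFinset = Finset.univ.filter fun p : P => g • p = p := by ext; simp
  have e2 : (fixedBy L g).toFinset = Finset.univ.filter fun l : L => g • l = l := by ext; simp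
  rw [e1, e2]
  exact Nat.eq_of_mul_eq_mul_right (ord_pos (P := P) (L := L)) (by omega)

open scoped Classical in
/-- A group of collineations has as many point orbits as line orbits. -/
theorem card_orbits_eq [Finite G] :
    Nat.card (orbitRel.Quotient G P) = Nat.card (orbitRel.Quotient G L) := by
  cases nonempty_fintype G
  cases nonempty_fintype P
  cases nonempty_fintype L
  have h1 := sum_card_fixedBy_eq_card_orbits_mul_card_group G P
  have h2 := sum_card_fixedBy_eq_card_orbits_mul_card_group G L
  have e : ∀ g : G, Fintype.card (fixedBy P g) = Fintype.card (fixedBy L g) := fun g => by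
    have := ncard_fixed_eq (L := L) (P := P) g
    rwa [← Nat.card_coe_set_eq, ← Nat.card_coe_set_eq, Nat.card_eq_fintype_card, Nat.card_eq_fintype_card] at this
  rw [Finset.sum_congr rfl fun g _ => e g] at h1
  rw [Nat.card_eq_fintype_card, Nat.card_eq_fintype_card]
  exact Nat.eq_of_mul_eq_mul_right Fintype.card_pos (h1.symm.trans h2)

end Action

end CfsgLib.OstromWagner
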