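import Cfsg.Agent.Lib.OstromWagner.Basic

/-!
# Planes with homogeneous coordinates
-/

set_option autoImplicit false

namespace CfsgLib.OstromWagner

open Configuration Configuration.ProjectivePlane

variable {P L : Type*} [Membership P L] [ProjectivePlane P L] [Finite P] [Finite L]

variable (P L) in
/-- The plane is the projective plane over `F`. -/
def IsCoordinatized (F : Type) [Field F] : Prop :=
  ∃ φ : P ≃ Projectivization F (Fin 3 → F),
    (∀ l : L, ∃ W : Submodule F (Fin 3 → F), Module.finrank F W = 2 ∧ ∀ p : P, p ∈ l ↔ (φ p).submodule ≤ W) ∧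
    (∀ W : Submodule F (Fin 3 → F), Module.finrank F W = 2 → ∃ l : L, ∀ p : P, p ∈ l ↔ (φ p).submodule ≤ W)

theorem finrank_ker_of_ne_zero {F : Type*} [Field F] {V : Type*} [AddCommGroup V] [Module F V]
    [FiniteDimensional F V] {f : V →ₗ[F] F} (hf : f ≠ 0) :
    Module.finrank F (LinearMap.ker f) + 1 = Module.finrank F V := by
  rw [← LinearMap.finrank_range_add_finrank_ker f, LinearMap.range_eq_top.2 (LinearMap.surjective hf), finrank_top,
    Module.finrank_self, add_comm]

theorem isCoordinatized_of_coords {F : Type} [Field F] [Finite F] (hcard : Nat.card F = ord P L)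
    (v : P → Fin 3 → F) (hv : ∀ p, v p ≠ 0)
    (hl : ∀ l : L, ∃ u : Fin 3 → F, u ≠ 0 ∧ ∀ p : P, p ∈ l ↔ dotProduct u (v p) = 0) :
    IsCoordinatized P L F := by
  choose u hu hinc using hl
  let f : L → (Fin 3 → F) →ₗ[F] F := fun l =>
    { toFun := fun x => dotProduct (u l) x
      map_add' := fun x y => dotProduct_add _ x y
      map_smul' := fun c x => by simp [dotProduct_smul] }
  have hfne : ∀ l, f l ≠ 0 := fun l e => hu l (funext fun i => by
    simpa [f, dotProduct_single] using LinearMap.congr_fun e (Pi.single i 1))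
  have hker : ∀ l, Module.finrank F (LinearMap.ker (f l)) = 2 := fun l => by
    have h3 := finrank_ker_of_ne_zero (hfne l)
    rw [Module.finrank_fin_fun] at h3
    omega
  have hsub : ∀ (p : P) (l : L),
      (Projectivization.mk F (v p) (hv p)).submodule ≤ LinearMap.ker (f l) ↔ p ∈ l := fun p l => by
    rw [Projectivization.submodule_mk, Submodule.span_singleton_le_iff_mem, LinearMap.mem_ker, hinc]
    rfl
  have hinj : Function.Injective fun p => Projectivization.mk F (v p) (hv p) := by
    intro p q hpq
    by_contra hne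
    obtain ⟨l, hpl, hql⟩ := exists_line (L := L) hne
    obtain ⟨m, hpm, hml, -⟩ := exists_through_ne_ne p l l
    have hqm : q ∈ m := (hsub q m).1 (le_of_eq_of_le (congrArg Projectivization.submodule hpq).symm ((hsub p m).2 hpm))
    exact hml (line_eq hne hpm hqm hpl hql)
  have hbij : Function.Bijective fun p => Projectivization.mk F (v p) (hv p) := by
    refine (Nat.bijective_iff_injective_and_card _).2 ⟨hinj, ?_⟩
    rw [Projectivization.card_of_finrank F (Fin 3 → F) (Module.finrank_fin_fun F), card_pts (L := L), hcard]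
    simp [Finset.sum_range_succ]
    ring
  refine ⟨Equiv.ofBijective _ hbij, fun l => ⟨_, hker l, fun p => (hsub p l).symm⟩, fun W hW => ?_⟩
  let b := Module.finBasisOfFinrankEq F W hW
  have hne : ∀ i, (b i : Fin 3 → F) ≠ 0 := fun i e => b.ne_zero i (Subtype.ext e)
  obtain ⟨p, hp⟩ := hbij.2 (Projectivization.mk F _ (hne 0))
  obtain ⟨q, hq⟩ := hbij.2 (Projectivization.mk F _ (hne 1))
  have hpq : p ≠ q := fun e => by
    subst e
    obtain ⟨c, hc⟩ := (Projectivization.mk_eq_mk_iff F _ _ (hne 0) (hne 1)).1 (hp.symm.trans hq)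
    have h1 : c • b 1 = b 0 := Subtype.ext hc
    have h2 := congrArg (fun x => b.repr x 0) h1
    simp [Units.smul_def] at h2
  obtain ⟨l, hpl, hql⟩ := exists_line (L := L) hpq
  have hb : ∀ i, (b i : Fin 3 → F) ∈ LinearMap.ker (f l) := by
    rw [Fin.forall_fin_two]
    constructor
    · have h := (hsub p l).2 hpl
      rw [show Projectivization.mk F (v p) (hv p) = _ from hp, Projectivization.submodule_mk, Submodule.span_singleton_le_iff_mem] at h
      exact h
    · have h := (hsub q l).2 hql
      rw [show Projectivization.mk F (v q) (hv q) = _ from hq, Projectivization.submodule_mk, Submodule.span_singleton_le_iff_mem] at h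
      exact h
  have hWl : W = LinearMap.ker (f l) := by
    refine Submodule.eq_of_le_of_finrank_eq (fun x hx => ?_) (hW.trans (hker l).symm)
    have hx' := congrArg Subtype.val (b.sum_repr ⟨x, hx⟩)
    rw [Submodule.coe_sum] at hx'
    dsimp only at hx'
    rw [← hx']
    exact Submodule.sum_mem _ fun i _ => Submodule.smul_mem _ _ (hb i)
  exact ⟨l, fun r => hWl ▸ (hsub r l).symm⟩

end CfsgLib.OstromWagner
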