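import Cfsg.Agent.Lib.OstromWagner.Spread
import Cfsg.Agent.Lib.OstromWagner.Hua
import Cfsg.Agent.Lib.OstromWagner.JordanField
import Cfsg.Agent.Lib.OstromWagner.Projective

/-!
# Coordinates of a plane with full groups of elations
-/

set_option autoImplicit false
set_option linter.unusedSectionVars false

namespace CfsgLib.OstromWagner

open Configuration MulAction

variable {G P L : Type*} [Group G] [MulAction G P] [MulAction G L] [Membership P L] [IsPlaneAction G P L]
  [ProjectivePlane P L] [Finite P] [Finite L] [Finite G] {p k : ℕ}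

variable (G P L) in
/-- Translations of the affine plane as pairs of coordinates. -/
structure Coords (F : Type) [Field F] (a : L) (X : P) where
  pt : F → F → G
  sl : F → P
  pt_mem : ∀ x y, pt x y ∈ elGroup G a
  pt_div : ∀ x y x' y', pt x y * (pt x' y')⁻¹ = pt (x - x') (y - y')
  pt_surj : ∀ e ∈ elGroup G a, ∃ x y, pt x y = e
  sl_mem : ∀ f, sl f ∈ a
  sl_ne : ∀ f, sl f ≠ X
  sl_surj : ∀ z, z ∈ a → z ≠ X → ∃ f, sl f = z
  mem_X : ∀ x y, pt x y ∈ elCentre G X a ↔ x = 0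
  mem_sl : ∀ f x y, pt x y ∈ elCentre G (sl f) a ↔ y = f * x

theorem Full.exists_coords (h : Full G P L p k) {a : L} {O X Y U : P} (hO : O ∉ a) (hX : X ∈ a) (hY : Y ∈ a)
    (hU : U ∈ a) (hXY : X ≠ Y) (hUX : U ≠ X) (hUY : U ≠ Y) :
    ∃ (F : Type) (_ : Field F) (_ : Fintype F), Nat.card F = ord P L ∧ Nonempty (Coords G P L F a X) := by
  classical
  haveI := Fact.mk h.prime
  set A := elCentre G Y a
  set B := elCentre G X a
  letI : CommGroup A := { (inferInstance : Group A) with mul_comm := fun u v => Subtype.ext (h.comm a u.2.1 v.2.1) }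
  haveI : Finite (Additive A) := inferInstanceAs (Finite A)
  haveI : Finite (AddMonoid.End (Additive A)) := Finite.of_injective (fun f => (f : Additive A → Additive A))
    DFunLike.coe_injective
  let R := AddMonoid.End (Additive A)
  obtain ⟨μ, hμ⟩ := h.exists_slope (Y := Y) hX hY hU hUX
  have hμinj : Function.Injective μ := fun u u' huu =>
    Subtype.ext (elCentre_cancel_right hUY u.2 u'.2 (hμ u) (by rw [huu]; exact hμ u'))
  have hμbij : Function.Bijective μ := (Nat.bijective_iff_injective_and_card _).2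
    ⟨hμinj, by rw [h.card Y a hY, h.card X a hX]⟩
  let μe : A ≃* B := MulEquiv.ofBijective μ hμbij
  let ev : R → A → A := fun r u => Additive.toMul (r (Additive.ofMul u))
  have hev_add : ∀ r r' : R, ∀ u, ev (r + r') u = ev r u * ev r' u := fun r r' u => rfl
  have hev_mul : ∀ r r' : R, ∀ u, ev (r * r') u = ev r (ev r' u) := fun r r' u => rfl
  have hev_one : ∀ u, ev 1 u = u := fun u => rfl
  have hev_zero : ∀ u, ev 0 u = 1 := fun u => rfl
  have hev_ext : ∀ r r' : R, (∀ u, ev r u = ev r' u) → r = r' := fun r r' hrr =>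
    AddMonoidHom.ext fun w => hrr (Additive.toMul w)
  -- the exponent
  have hchar : (p : R) = 0 := hev_ext _ _ fun u => by
    have hpow : u ^ p = 1 := Subtype.ext (h.exponent a u u.2.1)
    rw [hev_zero, ← hpow]
    have : ∀ m : ℕ, ev (m : R) u = u ^ m := fun m => by
      induction m with
      | zero => rw [Nat.cast_zero, hev_zero, pow_zero]
      | succ m ih => rw [Nat.cast_succ, hev_add, ih, hev_one, pow_succ]
    exact this p
  have hneg : ∀ {S : Set R}, (0 : R) ∈ S → (∀ r ∈ S, ∀ r' ∈ S, r + r' ∈ S) → ∀ r ∈ S, -r ∈ S := by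
    intro S h0 hadd r hr
    have hsmul : ∀ m : ℕ, m • r ∈ S := fun m => by
      induction m with
      | zero => rwa [zero_nsmul]
      | succ m ih => rw [succ_nsmul]; exact hadd _ ih _ hr
    have : -r = (p - 1) • r := by
      rw [neg_eq_iff_add_eq_zero, ← succ_nsmul', Nat.sub_add_cancel h.prime.one_lt.le, nsmul_eq_mul, hchar, zero_mul]
    exact this ▸ hsmul _
  -- the spread set and the set of inverses
  let Ms : Set R := {r | ∃ z, z ∈ a ∧ z ≠ X ∧ ∀ u : A, (u : G) * μ (ev r u) ∈ elCentre G z a}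
  let Is : Set R := {r | ∃ z, z ∈ a ∧ z ≠ Y ∧ ∀ u : A, (μ u : G) * ev r u ∈ elCentre G z a}
  have hE : ∀ z, z ∈ a → z ≠ X → ∃ r : R, ∀ u : A, (u : G) * μ (ev r u) ∈ elCentre G z a := fun z hz hzX => by
    obtain ⟨f, hf⟩ := h.exists_slope (Y := Y) hX hY hz hzX
    refine ⟨MonoidHom.toAdditive (μe.symm.toMonoidHom.comp f), fun u => ?_⟩
    show (u : G) * μe (μe.symm (f u)) ∈ _
    rw [MulEquiv.apply_symm_apply]
    exact hf u
  have hE' : ∀ z, z ∈ a → z ≠ Y → ∃ r : R, ∀ u : A, (μ u : G) * ev r u ∈ elCentre G z a := fun z hz hzY => by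
    obtain ⟨f, hf⟩ := h.exists_slope (Y := X) hY hX hz hzY
    exact ⟨MonoidHom.toAdditive (f.comp μ), fun u => hf (μ u)⟩
  have hMadd : ∀ r ∈ Ms, ∀ r' ∈ Ms, r + r' ∈ Ms := by
    rintro r ⟨z, hz, hzX, hr⟩ r' ⟨x, hx, hxX, hr'⟩
    obtain ⟨w, hw, hwX, hsum⟩ := h.slope_add hO hX hY hXY hz hzX hx hxX
    refine ⟨w, hw, hwX, fun u => ?_⟩
    rw [hev_add, map_mul]
    exact hsum u _ _ u.2 (μ (ev r u)).2 (μ (ev r' u)).2 (hr u) (hr' u)
  have hM0 : (0 : R) ∈ Ms := ⟨Y, hY, hXY.symm, fun u => by rw [hev_zero, map_one, Subgroup.coe_one, mul_one]; exact u.2⟩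
  have hIadd : ∀ r ∈ Is, ∀ r' ∈ Is, r + r' ∈ Is := by
    rintro r ⟨z, hz, hzY, hr⟩ r' ⟨x, hx, hxY, hr'⟩
    obtain ⟨w, hw, hwY, hsum⟩ := h.slope_add hO hY hX hXY.symm hz hzY hx hxY
    refine ⟨w, hw, hwY, fun u => ?_⟩
    rw [hev_add, Subgroup.coe_mul]
    exact hsum _ _ _ (μ u).2 (ev r u).2 (ev r' u).2 (hr u) (hr' u)
  have hI0 : (0 : R) ∈ Is := ⟨X, hX, hXY, fun u => by rw [hev_zero, Subgroup.coe_one, mul_one]; exact (μ u).2⟩
  let M : AddSubgroup R :=
    { carrier := Ms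
      add_mem' := fun {r r'} hr hr' => hMadd r hr r' hr'
      zero_mem' := hM0
      neg_mem' := fun {r} hr => hneg hM0 hMadd r hr }
  let I : AddSubgroup R :=
    { carrier := Is
      add_mem' := fun {r r'} hr hr' => hIadd r hr r' hr'
      zero_mem' := hI0
      neg_mem' := fun {r} hr => hneg hI0 hIadd r hr }
  have h1 : (1 : R) ∈ M := ⟨U, hU, hUX, fun u => by rw [hev_one]; exact hμ u⟩
  have hI1 : (1 : R) ∈ I := ⟨U, hU, hUY, fun u => by rw [hev_one, h.comm a (μ u).2.1 u.2.1]; exact hμ u⟩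
  have hinvpair : ∀ r r' : R, ∀ z, z ≠ X → z ≠ Y → (∀ u : A, (u : G) * μ (ev r u) ∈ elCentre G z a) →
      (∀ u : A, (μ u : G) * ev r' u ∈ elCentre G z a) → r' * r = 1 ∧ r * r' = 1 := by
    intro r r' z hzX hzY hr hr'
    constructor <;> refine hev_ext _ _ fun u => ?_ <;> rw [hev_mul, hev_one]
    · have h2 := hr' (ev r u)
      rw [h.comm a (μ (ev r u)).2.1 (ev r' (ev r u)).2.1] at h2
      exact (Subtype.ext (elCentre_cancel_right hzY u.2 (ev r' (ev r u)).2 (hr u) h2)).symm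
    · have h2 := hr' u
      rw [h.comm a (μ u).2.1 (ev r' u).2.1] at h2
      exact hμinj (Subtype.ext (elCentre_cancel_left hzX (μ (ev r (ev r' u))).2 (μ u).2 (hr (ev r' u)) h2))
  have hMI : ∀ r ∈ M, r ≠ 0 → ∃ r' ∈ I, r' * r = 1 ∧ r * r' = 1 := by
    rintro r ⟨z, hz, hzX, hr⟩ hr0
    have hzY : z ≠ Y := fun e => hr0 (hev_ext _ _ fun u => by
      subst e
      rw [hev_zero]
      exact hμinj (Subtype.ext (elCentre_cancel_left hzX (μ (ev r u)).2 (μ 1).2 (hr u)
        (by rw [map_one, Subgroup.coe_one, mul_one]; exact u.2))))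
    obtain ⟨r', hr'⟩ := hE' z hz hzY
    exact ⟨r', ⟨z, hz, hzY, hr'⟩, hinvpair r r' z hzX hzY hr hr'⟩
  have hIM : ∀ r' ∈ I, r' ≠ 0 → ∃ r ∈ M, r' * r = 1 ∧ r * r' = 1 := by
    rintro r' ⟨z, hz, hzY, hr'⟩ hr0
    have hzX : z ≠ X := fun e => hr0 (hev_ext _ _ fun u => by
      subst e
      rw [hev_zero]
      exact Subtype.ext (elCentre_cancel_left hzY (ev r' u).2 (one_mem _) (hr' u) (by rw [Subgroup.coe_one, mul_one]; exact (μ u).2)))
    obtain ⟨r, hr⟩ := hE z hz hzX
    exact ⟨r, ⟨z, hz, hzX, hr⟩, hinvpair r r' z hzX hzY hr hr'⟩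
  have hjordan : ∀ x ∈ M, ∀ y ∈ M, x * y * x ∈ M := fun x hx y hy => Jordan.mul_mul_mem h1 hI1 hMI hIM hx hy
  have hunit : ∀ r ∈ M, r ≠ 0 → IsUnit r := fun r hr hr0 => by
    obtain ⟨r', -, e1, e2⟩ := hMI r hr hr0
    exact ⟨⟨r, r', e2, e1⟩, rfl⟩
  let S : Subring R :=
    { carrier := M
      one_mem' := h1
      mul_mem' := fun {x y} hx hy => Jordan.mul_mem h1 hjordan h.prime hchar hunit hx hy
      add_mem' := fun {x y} hx hy => M.add_mem hx hy
      zero_mem' := M.zero_mem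
      neg_mem' := fun {x} hx => M.neg_mem hx }
  obtain ⟨u₁, hu₁m, hu₁⟩ := h.exists_ne_one Y a hY
  let a₀ : A := ⟨u₁, hu₁m⟩
  have ha₀ : a₀ ≠ 1 := fun e => hu₁ (congrArg Subtype.val e)
  let E : S → A := fun r => ev (r : R) a₀
  have hEinj : Function.Injective E := fun r r' hrr => by
    by_contra hne
    obtain ⟨v, hv⟩ := hunit _ (M.sub_mem r.2 r'.2) (fun e => hne (Subtype.ext (sub_eq_zero.1 e)))
    have h2 : ev ((r : R) - r') a₀ = 1 := by
      show ev (r : R) a₀ / ev (r' : R) a₀ = 1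
      exact div_eq_one.2 hrr
    have h3 : ev ((↑v⁻¹ : R) * ((r : R) - r')) a₀ = 1 := by
      rw [hev_mul, h2]
      exact map_zero (↑v⁻¹ : R)
    rw [← hv, Units.inv_mul, hev_one] at h3
    exact ha₀ h3
  have hEsurj : Function.Surjective E := fun c => by
    have hmem : (a₀ : G) * μ c ∈ elGroup G a := mul_mem a₀.2.1 (μ c).2.1
    obtain ⟨z, hz, hzm⟩ := exists_component a hO hmem
    have hzX : z ≠ X := fun e => ha₀ (Subtype.ext (elCentre_cancel_right hXY a₀.2 (one_mem _)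
      (e ▸ hzm) (by rw [Subgroup.coe_one, one_mul]; exact (μ c).2)))
    obtain ⟨r, hr⟩ := hE z hz hzX
    exact ⟨⟨r, z, hz, hzX, hr⟩, hμinj (Subtype.ext (elCentre_cancel_left hzX (μ _).2 (μ c).2 (hr a₀) hzm))⟩
  have hScard : Nat.card S = ord P L := by
    rw [Nat.card_congr (Equiv.ofBijective E ⟨hEinj, hEsurj⟩), h.card Y a hY]
  haveI : Finite S := Subtype.finite
  haveI : Nontrivial S := Finite.one_lt_card_iff_nontrivial.1 (hScard ▸ one_lt_ord)
  haveI : NoZeroDivisors S := ⟨fun {x y} hxy => by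
    by_contra hcon
    push Not at hcon
    obtain ⟨v, hv⟩ := hunit _ x.2 (fun e => hcon.1 (Subtype.ext e))
    have h2 : (x : R) * y = 0 := congrArg Subtype.val hxy
    rw [← hv] at h2
    exact hcon.2 (Subtype.ext ((Units.mul_right_eq_zero v).1 h2))⟩
  haveI : IsDomain S := NoZeroDivisors.to_isDomain _
  letI : Field S := (Finite.isDomain_to_isField S).toField
  letI : Fintype S := Fintype.ofFinite S
  letI : Fintype (GaloisField p k) := Fintype.ofFinite _
  have hGcard : Nat.card (GaloisField p k) = ord P L := by rw [GaloisField.card p k h.pos.ne', h.ord_eq]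
  let ι : GaloisField p k ≃+* S := FiniteField.ringEquivOfCardEq (by
    rw [← Nat.card_eq_fintype_card, ← Nat.card_eq_fintype_card, hScard, hGcard])
  let c : GaloisField p k → A := fun x => E (ι x)
  have hcadd : ∀ x y, c (x + y) = c x * c y := fun x y => by
    show ev (ι (x + y) : R) a₀ = _
    rw [RingEquiv.map_add ι]
    exact hev_add _ _ _
  have hc0 : c 0 = 1 := by
    show ev (ι 0 : R) a₀ = _
    rw [RingEquiv.map_zero ι]
    exact hev_zero _
  have hcinj : Function.Injective c := hEinj.comp ι.injective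
  have hcsurj : Function.Surjective c := hEsurj.comp ι.surjective
  have hcmul : ∀ f x, ev (ι f : R) (c x) = c (f * x) := fun f x => by
    show _ = ev (ι (f * x) : R) a₀
    rw [RingEquiv.map_mul ι]
    exact (hev_mul _ _ _).symm
  choose sl hslm hslX hsl using fun f => (ι f).2
  let pt : GaloisField p k → GaloisField p k → G := fun x y => (c x : G) * μ (c y)
  have hmem_sl : ∀ f x y, pt x y ∈ elCentre G (sl f) a ↔ y = f * x := fun f x y => by
    refine ⟨fun hm => hcinj (hμinj (Subtype.ext ?_)), fun e => ?_⟩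
    · rw [← hcmul f x]
      exact elCentre_cancel_left (hslX f) (μ _).2 (μ _).2 hm (hsl f (c x))
    · show (c x : G) * μ (c y) ∈ _
      rw [e, ← hcmul]
      exact hsl f (c x)
  have hmem_X : ∀ x y, pt x y ∈ elCentre G X a ↔ x = 0 := fun x y => by
    refine ⟨fun hm => hcinj ?_, fun e => ?_⟩
    · rw [hc0]
      exact Subtype.ext (elCentre_cancel_right hXY (c x).2 (one_mem _) hm (by rw [Subgroup.coe_one, one_mul]; exact (μ (c y)).2))
    · show (c x : G) * μ (c y) ∈ _
      rw [e, hc0, Subgroup.coe_one, one_mul]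
      exact (μ (c y)).2
  refine ⟨GaloisField p k, inferInstance, inferInstance, hGcard,
    ⟨⟨pt, sl, fun x y => mul_mem (c x).2.1 (μ (c y)).2.1, fun x y x' y' => ?_, fun e he => ?_, hslm, hslX,
      fun z hz hzX => ?_, hmem_X, hmem_sl⟩⟩⟩
  · rw [mul_inv_eq_iff_eq_mul]
    show (c x : G) * μ (c y) = (c (x - x') : G) * μ (c (y - y')) * ((c x' : G) * μ (c y'))
    conv_lhs => rw [← sub_add_cancel x x', ← sub_add_cancel y y', hcadd, hcadd, map_mul, Subgroup.coe_mul,
      Subgroup.coe_mul]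
    rw [mul_assoc, mul_assoc, ← mul_assoc (c x' : G), h.comm a (c x').2.1 (μ (c (y - y'))).2.1, mul_assoc]
  · obtain ⟨u, hu, v, hv, huv⟩ := h.exists_decomp hY hX hXY.symm he
    obtain ⟨x, hx⟩ := hcsurj ⟨u, hu⟩
    obtain ⟨u', hu'⟩ := hμbij.2 ⟨v, hv⟩
    obtain ⟨y, hy⟩ := hcsurj u'
    exact ⟨x, y, by show (c x : G) * μ (c y) = e; rw [hx, hy, hu', ← huv]⟩
  · obtain ⟨r, hr⟩ := hE z hz hzX
    obtain ⟨f, hf⟩ := ι.surjective ⟨r, z, hz, hzX, hr⟩
    refine ⟨f, by_contra fun hne => ha₀ ?_⟩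
    have h2 := hsl f a₀
    rw [hf] at h2
    have h3 := elCentre_inf hne h2 (hr a₀)
    exact Subtype.ext (elCentre_cancel_right hXY a₀.2 (one_mem _) (h3 ▸ one_mem _)
      (by rw [Subgroup.coe_one, one_mul]; exact (μ (ev r a₀)).2))

theorem Coords.isCoordinatized {F : Type} [Field F] [Finite F] (hcard : Nat.card F = ord P L) {a : L} {X O : P}
    (h : Full G P L p k) (hO : O ∉ a) (hX : X ∈ a) (C : Coords G P L F a X) : IsCoordinatized P L F := by
  classical
  have hslinj : Function.Injective C.sl := fun f f' hff => by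
    have h1 := (C.mem_sl f 1 f).2 (mul_one f).symm
    rw [hff, C.mem_sl, mul_one] at h1
    exact h1
  have hco : ∀ q : P, q ∉ a → ∃ x y, C.pt x y • O = q := fun q hq => by
    obtain ⟨e, he, heq⟩ := h.exists_translation hO hq
    obtain ⟨x, y, hxy⟩ := C.pt_surj e he
    exact ⟨x, y, hxy ▸ heq⟩
  choose cx cy hcxy using hco
  choose cf hcf using C.sl_surj
  let v : P → Fin 3 → F := fun q =>
    if hq : q ∈ a then (if hqX : q = X then ![0, 1, 0] else ![1, cf q hq hqX, 0]) else ![cx q hq, cy q hq, 1]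
  have hv : ∀ q, v q ≠ 0 := by
    intro q hvq
    simp only [v] at hvq
    split_ifs at hvq
    · exact one_ne_zero (congrFun hvq 1)
    · exact one_ne_zero (congrFun hvq 0)
    · exact one_ne_zero (congrFun hvq 2)
  refine isCoordinatized_of_coords hcard v hv fun l => ?_
  by_cases hla : l = a
  · subst hla
    refine ⟨![0, 0, 1], fun e => one_ne_zero (congrFun e 2), fun q => ?_⟩
    simp only [v]
    split_ifs with hq hqX <;> simp [dotProduct, Fin.sum_univ_three, hq]
  obtain ⟨z, hzl, hza⟩ := exists_meet (P := P) hla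
  obtain ⟨q₀, hq₀l, hq₀z, -⟩ := exists_on_ne_ne l z z
  have hq₀a : q₀ ∉ a := fun e => hq₀z (point_eq hla hq₀l e hzl hza)
  have hmem : ∀ q (hq : q ∉ a), q ∈ l ↔ C.pt (cx q hq - cx q₀ hq₀a) (cy q hq - cy q₀ hq₀a) ∈ elCentre G z a := by
    intro q hq
    set e₀ := C.pt (cx q₀ hq₀a) (cy q₀ hq₀a) with he₀
    have he₀m : e₀ ∈ elGroup G a := C.pt_mem _ _
    have hz : e₀⁻¹ • z = z := inv_smul_eq_iff.2 (he₀m.1 z hza).symm
    rw [← C.pt_div, h.comm a (C.pt_mem _ _) (inv_mem he₀m),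
      ← mem_elCentre_iff (l := e₀⁻¹ • l) hO hza ?_ ?_ (mul_mem (inv_mem he₀m) (C.pt_mem _ _)), mul_smul,
      smul_mem_iff, hcxy q hq]
    · have := (smul_mem_iff e₀⁻¹ q₀ l).2 hq₀l
      nth_rw 1 [← hcxy q₀ hq₀a] at this
      rwa [← he₀, inv_smul_smul] at this
    · have := (smul_mem_iff e₀⁻¹ z l).2 hzl
      rwa [hz] at this
  have hinf : ∀ q, q ∈ a → (q ∈ l ↔ q = z) := fun q hq =>
    ⟨fun e => point_eq hla e hq hzl hza, fun e => e ▸ hzl⟩
  by_cases hzX : z = X
  · refine ⟨![1, 0, -cx q₀ hq₀a], fun e => one_ne_zero (congrFun e 0), fun q => ?_⟩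
    simp only [v]
    split_ifs with hq hqX
    · rw [hinf q hq, hzX]
      simp [dotProduct, Fin.sum_univ_three, hqX]
    · rw [hinf q hq, hzX]
      simp [dotProduct, Fin.sum_univ_three, hqX]
    · rw [hmem q hq, hzX, C.mem_X]
      simp [dotProduct, Fin.sum_univ_three, sub_eq_add_neg]
  · obtain ⟨f, rfl⟩ := C.sl_surj z hza hzX
    refine ⟨![-f, 1, f * cx q₀ hq₀a - cy q₀ hq₀a], fun e => one_ne_zero (congrFun e 1), fun q => ?_⟩
    simp only [v]
    split_ifs with hq hqX
    · rw [hinf q hq]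
      simp [dotProduct, Fin.sum_univ_three, hqX, (C.sl_ne f).symm]
    · rw [hinf q hq]
      have h1 := hcf q hq hqX
      simp [dotProduct, Fin.sum_univ_three]
      exact ⟨fun e => by rw [hslinj (h1.trans e), neg_add_cancel],
        fun e => h1.symm.trans (congrArg C.sl (eq_of_neg_add_eq_zero e).symm)⟩
    · rw [hmem q hq, C.mem_sl]
      simp [dotProduct, Fin.sum_univ_three]
      constructor <;> intro e <;> linear_combination e

/-- A plane with full groups of elations is a projective plane over a field. -/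
theorem Full.isCoordinatized (h : Full G P L p k) :
    ∃ (F : Type) (_ : Field F) (_ : Fintype F), IsCoordinatized P L F := by
  obtain ⟨O, -, -, a, -⟩ := ProjectivePlane.exists_config (P := P) (L := L)
  obtain ⟨O, hO⟩ := Nondegenerate.exists_point (P := P) a
  obtain ⟨X, hX, -⟩ := exists_on_ne_ne a O O
  obtain ⟨Y, hY, hYX, -⟩ := exists_on_ne_ne a X X
  obtain ⟨U, hU, hUX, hUY⟩ := exists_on_ne_ne a X Y
  obtain ⟨F, i1, i2, hcard, ⟨C⟩⟩ := h.exists_coords hO hX hY hU hYX.symm hUX hUY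
  exact ⟨F, i1, i2, C.isCoordinatized hcard h hO hX⟩

end CfsgLib.OstromWagner
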