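import Cfsg.Agent.Lib.OstromWagner.Perspectivity

/-!
# Counting in the group of perspectivities with a given axis
-/

set_option autoImplicit false
set_option linter.unusedSectionVars false

namespace CfsgLib.OstromWagner

open Configuration MulAction

section Free

variable {G X : Type*} [Group G] [MulAction G X]

theorem card_dvd_ncard_of_free [Finite G] [Finite X] (H : Subgroup G) (S : Set X)
    (hinv : ∀ h ∈ H, ∀ x ∈ S, h • x ∈ S) (hfree : ∀ h ∈ H, ∀ x ∈ S, h • x = x → h = 1) :
    Nat.card H ∣ S.ncard := by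
  classical
  letI : MulAction H S :=
    { smul := fun h x => ⟨(h : G) • (x : X), hinv h h.2 x x.2⟩
      one_smul := fun x => Subtype.ext (one_smul G (x : X))
      mul_smul := fun g h x => Subtype.ext (mul_smul (g : G) (h : G) (x : X)) }
  cases nonempty_fintype (orbitRel.Quotient H S)
  rw [← Nat.card_coe_set_eq, Nat.card_congr (selfEquivSigmaOrbitsQuotientStabilizer H S), Nat.card_sigma]
  refine Finset.dvd_sum fun ω _ => ?_
  have hbot : stabilizer H ω.out = ⊥ := (Subgroup.eq_bot_iff_forall _).2 fun h hh =>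
    Subtype.ext (hfree h h.2 ω.out ω.out.2 (congrArg Subtype.val (mem_stabilizer_iff.1 hh)))
  exact dvd_of_eq (by rw [← Subgroup.index, hbot, Subgroup.index_bot])

theorem ncard_orbit_of_free [Finite G] (H : Subgroup G) (x : X) (hfree : ∀ h ∈ H, h • x = x → h = 1) :
    (orbit H x).ncard = Nat.card H := by
  have hbot : stabilizer H x = ⊥ := (Subgroup.eq_bot_iff_forall _).2 fun h hh =>
    Subtype.ext (hfree h h.2 (mem_stabilizer_iff.1 hh))
  rw [← Nat.card_coe_set_eq, Nat.card_congr (orbitEquivQuotientStabilizer H x), ← Subgroup.index, hbot,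
    Subgroup.index_bot]

end Free

variable {G P L : Type*} [Group G] [MulAction G P] [MulAction G L] [Membership P L] [IsPlaneAction G P L]
  [ProjectivePlane P L] [Finite P] [Finite L]

theorem smul_off {g : G} {a : L} (hg : IsAxis g a) {p : P} (hp : p ∉ a) : g • p ∉ a :=
  fun h => hp ((smul_mem_of_fix hg.smul_axis).1 h)

theorem elGroup_le (a : L) : elGroup G a ≤ axisGroup G a := fun _ h => h.1

theorem ncard_orbit_elGroup [Finite G] {a : L} {p : P} (hp : p ∉ a) :
    (orbit (elGroup G a) p).ncard = Nat.card (elGroup G a) :=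
  ncard_orbit_of_free _ p fun _ he hfix => he.2 p hp hfix

theorem card_elGroup_dvd [Finite G] (a : L) : Nat.card (elGroup G a) ∣ ord P L ^ 2 := by
  rw [← ncard_off a]
  exact card_dvd_ncard_of_free _ _ (fun h hh x hx => smul_off hh.1 hx) fun h hh x hx => hh.2 x hx

variable [Finite G]

open scoped Classical in
/-- The centres of the homologies with axis `a` form one orbit of the elations with axis `a`. -/
theorem exists_elation_smul {a : L} {C D : P} (hC : C ∉ a) (hD : D ∉ a) {g h : G} (hg : IsAxis g a)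
    (hg1 : g ≠ 1) (hgC : g • C = C) (hh : IsAxis h a) (hh1 : h ≠ 1) (hhD : h • D = D) :
    ∃ e ∈ elGroup G a, e • C = D := by
  cases nonempty_fintype (axisGroup G a)
  cases nonempty_fintype P
  set H := axisGroup G a with hH
  let B : P → Finset H := fun p => Finset.univ.filter fun x : H => x ≠ 1 ∧ (x : G) • p = p
  let T : Finset H := Finset.univ.filter fun x : H => (x : G) ∉ elGroup G a
  have hoff : ∀ c, c ∉ a → ∀ p ∈ orbit H c, p ∉ a := fun c hc p hp => by
    obtain ⟨x, rfl⟩ := hp
    exact smul_off x.2 hc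
  have hBT : ∀ p, p ∉ a → B p ⊆ T := fun p hp x hx => by
    simp only [B, Finset.mem_filter, Finset.mem_univ, true_and] at hx
    simp only [T, Finset.mem_filter, Finset.mem_univ, true_and]
    exact fun he => hx.1 (Subtype.ext (he.2 p hp hx.2))
  have hdisj : ∀ p q, p ∉ a → q ∉ a → p ≠ q → Disjoint (B p) (B q) := fun p q hp hq hpq =>
    Finset.disjoint_left.2 fun x hxp hxq => by
      simp only [B, Finset.mem_filter, Finset.mem_univ, true_and] at hxp hxq
      have hx : (x : G) ≠ 1 := fun e => hxp.1 (Subtype.ext e)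
      exact hpq ((IsAxis.isCentre_of_fix x.2 hp hxp.2).unique (IsAxis.isCentre_of_fix x.2 hq hxq.2) hx)
  have hB : ∀ c p, p ∈ orbit H c → (orbit H c).ncard * ((B p).card + 1) = Nat.card H := fun c p hp => by
    rw [← orbit_eq_iff.2 hp, ← Nat.card_coe_set_eq]
    have e : (B p).card + 1 = Nat.card (stabilizer H p) := by
      rw [Nat.card_eq_fintype_card, ← Finset.card_univ,
        ← Finset.card_erase_add_one (Finset.mem_univ (1 : stabilizer H p))]
      congr 1
      refine Finset.card_bij (fun x hx => ⟨x, ?_⟩) (fun x hx => ?_) (fun x _ y _ e => ?_) fun y hy => ?_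
      · simp only [B, Finset.mem_filter, Finset.mem_univ, true_and] at hx
        exact mem_stabilizer_iff.2 hx.2
      · simp only [B, Finset.mem_filter, Finset.mem_univ, true_and] at hx
        exact Finset.mem_erase.2 ⟨fun e => hx.1 (congrArg Subtype.val e), Finset.mem_univ _⟩
      · exact congrArg Subtype.val e
      · refine ⟨y, ?_, rfl⟩
        simp only [B, Finset.mem_filter, Finset.mem_univ, true_and]
        exact ⟨fun e => (Finset.mem_erase.1 hy).1 (Subtype.ext e), mem_stabilizer_iff.1 y.2⟩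
    rw [e, Nat.card_eq_fintype_card, Nat.card_eq_fintype_card, Nat.card_eq_fintype_card]
    exact card_orbit_mul_card_stabilizer_eq_card_group H p
  have hsum : ∀ c, c ∉ a → ((orbit H c).toFinset.biUnion B).card + (orbit H c).ncard = Nat.card H := by
    intro c hc
    rw [Finset.card_biUnion fun p hp q hq hpq => hdisj p q (hoff c hc p (Set.mem_toFinset.1 hp))
      (hoff c hc q (Set.mem_toFinset.1 hq)) hpq]
    have hcB : ∀ p ∈ (orbit H c).toFinset, (B p).card = (B c).card := fun p hp => by
      have h1 := (hB c p (Set.mem_toFinset.1 hp)).trans (hB c c (mem_orbit_self c)).symm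
      have h2 : 0 < (orbit H c).ncard := (Set.ncard_pos (Set.toFinite _)).2 ⟨c, mem_orbit_self c⟩
      have h3 := Nat.eq_of_mul_eq_mul_left h2 h1
      omega
    rw [Finset.sum_congr rfl hcB, Finset.sum_const, smul_eq_mul, ← Set.ncard_eq_toFinset_card',
      ← hB c c (mem_orbit_self c), Nat.mul_add, Nat.mul_one]
  have hsubT : ∀ c, c ∉ a → (orbit H c).toFinset.biUnion B ⊆ T := fun c hc =>
    Finset.biUnion_subset.2 fun p hp => hBT p (hoff c hc p (Set.mem_toFinset.1 hp))
  have hET : Nat.card (elGroup G a) + T.card = Nat.card H := by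
    have h1 := Finset.card_filter_add_card_filter_not (s := (Finset.univ : Finset H))
      (p := fun x : H => (x : G) ∉ elGroup G a)
    have h2 : (Finset.univ.filter fun x : H => ¬ ((x : G) ∉ elGroup G a)).card = Nat.card (elGroup G a) := by
      rw [← Nat.card_congr (Subgroup.subgroupOfEquivOfLe (elGroup_le (G := G) a)).toEquiv,
        Nat.card_eq_fintype_card, Fintype.card_subtype]
      congr 1
      ext x
      simp [Subgroup.mem_subgroupOf]
    rw [Nat.card_eq_fintype_card (α := H), ← Finset.card_univ, ← h1, h2, add_comm]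
  have hE0 : 0 < Nat.card (elGroup G a) := Nat.card_pos
  have htwo : ∀ c, c ∉ a → (∃ x : G, IsAxis x a ∧ x ≠ 1 ∧ x • c = c) →
      2 * (orbit H c).ncard ≤ Nat.card H := by
    rintro c hc ⟨x, hx, hx1, hxc⟩
    have h1 : 0 < (B c).card := Finset.card_pos.2 ⟨⟨x, hx⟩, by
      simp only [B, Finset.mem_filter, Finset.mem_univ, true_and]
      exact ⟨fun e => hx1 (congrArg Subtype.val e), hxc⟩⟩
    rw [← hB c c (mem_orbit_self c), mul_comm 2]
    exact Nat.mul_le_mul_left _ (by omega)
  -- all centres are in one orbit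
  have hone : ∀ c, c ∉ a → (∃ x : G, IsAxis x a ∧ x ≠ 1 ∧ x • c = c) → c ∈ orbit H C := fun c hc hx => by
    by_contra hcC
    have hdd : Disjoint ((orbit H C).toFinset.biUnion B) ((orbit H c).toFinset.biUnion B) := by
      simp only [Finset.disjoint_biUnion_left, Finset.disjoint_biUnion_right, Set.mem_toFinset]
      refine fun p hp q hq => hdisj q p (hoff C hC q hq) (hoff c hc p hp) fun e => hcC ?_
      subst e
      exact orbit_eq_iff.1 ((orbit_eq_iff.2 hp).symm.trans (orbit_eq_iff.2 hq))
    have := Finset.card_le_card (Finset.union_subset (hsubT C hC) (hsubT c hc))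
    rw [Finset.card_union_of_disjoint hdd] at this
    have := htwo C hC ⟨g, hg, hg1, hgC⟩
    have := htwo c hc hx
    have := hsum C hC
    have := hsum c hc
    omega
  have hT : T ⊆ (orbit H C).toFinset.biUnion B := fun x hx => by
    simp only [T, Finset.mem_filter, Finset.mem_univ, true_and] at hx
    have : ¬ ∀ p : P, p ∉ a → (x : G) • p = p → (x : G) = 1 := fun h => hx ⟨x.2, h⟩
    push Not at this
    obtain ⟨p, hp, hfix, hne⟩ := this
    refine Finset.mem_biUnion.2 ⟨p, Set.mem_toFinset.2 (hone p hp ⟨x, x.2, hne, hfix⟩), ?_⟩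
    simp only [B, Finset.mem_filter, Finset.mem_univ, true_and]
    exact ⟨fun e => hne (congrArg Subtype.val e), hfix⟩
  have hle := Finset.card_le_card hT
  have hge := Finset.card_le_card (hsubT C hC)
  have hs := hsum C hC
  have hsub : orbit (elGroup G a) C ⊆ orbit H C := by
    rintro _ ⟨e, rfl⟩
    exact ⟨⟨e, elGroup_le a e.2⟩, rfl⟩
  have heq := Set.eq_of_subset_of_ncard_le hsub (by rw [ncard_orbit_elGroup hC]; omega) (Set.toFinite _)
  obtain ⟨e, he⟩ := heq.symm.subset (hone D hD ⟨h, hh, hh1, hhD⟩)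
  exact ⟨e, e.2, he⟩

/-- An involutory homology inverts every elation with its axis. -/
theorem inv_of_involution {a : L} {C : P} (hC : C ∉ a) {h : G} (hh : IsAxis h a) (h2 : h * h = 1) (h1 : h ≠ 1)
    (hfix : h • C = C) {e : G} (he : e ∈ elGroup G a) : h * e * h⁻¹ = e⁻¹ := by
  have hha : h • a = a := hh.smul_axis
  have hmap : ∀ x ∈ elGroup G a, h * x * h⁻¹ ∈ elGroup G a := fun x hx => by
    have := IsElation.conj hx h
    rwa [hha] at this
  let φ : elGroup G a →* elGroup G a :=
    { toFun := fun x => ⟨h * x * h⁻¹, hmap x x.2⟩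
      map_one' := Subtype.ext (by simp)
      map_mul' := fun x y => Subtype.ext (by simp [mul_assoc]) }
  have hfpf : MonoidHom.FixedPointFree φ := fun x hx => by
    have hx' : h * (x : G) * h⁻¹ = x := congrArg Subtype.val hx
    have hfx : h • ((x : G) • C) = (x : G) • C := by
      rw [← mul_smul, mul_inv_eq_iff_eq_mul.1 hx', mul_smul, hfix]
    refine Subtype.ext (x.2.2 C hC ?_)
    exact (hh.mem_of_fix (hh.isCentre_of_fix hC hfix) h1 hfx).resolve_left (smul_off x.2.1 hC)
  have hinv : Function.Involutive φ := fun x => Subtype.ext (by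
    show h * (h * (x : G) * h⁻¹) * h⁻¹ = x
    have hhi : h⁻¹ = h := inv_eq_of_mul_eq_one_right h2
    rw [hhi]
    calc h * (h * (x : G) * h) * h = (h * h) * x * (h * h) := by group
      _ = x := by rw [h2, one_mul, mul_one])
  exact congrArg Subtype.val (congrFun (hfpf.coe_eq_inv_of_involutive hinv) ⟨e, he⟩)

theorem comm_of_involution {a : L} {C : P} (hC : C ∉ a) {h : G} (hh : IsAxis h a) (h2 : h * h = 1) (h1 : h ≠ 1)
    (hfix : h • C = C) {e f : G} (he : e ∈ elGroup G a) (hf : f ∈ elGroup G a) : e * f = f * e := by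
  have he' := inv_of_involution hC hh h2 h1 hfix he
  have hf' := inv_of_involution hC hh h2 h1 hfix hf
  have hef := inv_of_involution hC hh h2 h1 hfix (mul_mem he hf)
  have : h * (e * f) * h⁻¹ = (h * e * h⁻¹) * (h * f * h⁻¹) := by group
  rw [hef, he', hf', mul_inv_rev] at this
  simpa using (congrArg (·⁻¹) this).trans (by group)

/-- A commutative group of elations with two centres has prime exponent. -/
theorem exists_prime_exponent {a : L} (hcomm : ∀ e ∈ elGroup G a, ∀ f ∈ elGroup G a, e * f = f * e)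
    {e₀ f₀ : G} (he₀ : e₀ ∈ elGroup G a) (hf₀ : f₀ ∈ elGroup G a) (hne : e₀ ≠ 1) (hnf : f₀ ≠ 1)
    {x y : P} (hx : IsCentre L e₀ x) (hy : IsCentre L f₀ y) (hxy : x ≠ y) :
    ∃ p : ℕ, p.Prime ∧ ∀ z ∈ elGroup G a, z ^ p = 1 := by
  have key : ∀ e ∈ elGroup G a, ∀ f ∈ elGroup G a, e ≠ 1 → f ≠ 1 → ∀ x y : P,
      IsCentre L e x → IsCentre L f y → x ≠ y → ∀ k : ℕ, e ^ k = 1 → f ^ k = 1 := by
    intro e he f hf hne hnf x y hx hy hxy k hk
    by_contra hfk
    have hef1 : e * f ≠ 1 := fun h => hxy <| IsCentre.unique hx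
      (eq_inv_of_mul_eq_one_left h ▸ hy.inv) hne
    obtain ⟨z, hz⟩ := (mul_mem he hf : e * f ∈ elGroup G a).1.exists_centre
    have hzy : z = y := by
      have h1 : IsCentre L ((e * f) ^ k) z := (centreGroup G L z).pow_mem hz k
      rw [Commute.mul_pow (hcomm e he f hf), hk, one_mul] at h1
      exact h1.unique ((centreGroup G L y).pow_mem hy k) hfk
    subst hzy
    have h2 := hz.mul hy.inv
    rw [mul_inv_cancel_right] at h2
    exact hxy (hx.unique h2 hne)
  obtain ⟨p, hp, hdvd⟩ := Nat.exists_prime_and_dvd (n := orderOf e₀) (by simpa using hne)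
  haveI : Fact p.Prime := ⟨hp⟩
  obtain ⟨k, hk⟩ := hdvd
  set e₁ := e₀ ^ k with he₁
  have he₁p : e₁ ^ p = 1 := by rw [he₁, ← pow_mul, mul_comm, ← hk, pow_orderOf_eq_one]
  have hk0 : k ≠ 0 := fun h => (orderOf_pos e₀).ne' (by rw [hk, h, mul_zero])
  have he₁1 : e₁ ≠ 1 := pow_ne_one_of_lt_orderOf hk0 (by
    have := orderOf_pos e₀
    rw [hk] at this ⊢
    exact lt_mul_left (Nat.pos_of_ne_zero hk0) hp.one_lt)
  have he₁m : e₁ ∈ elGroup G a := pow_mem he₀ k
  have he₁x : IsCentre L e₁ x := (centreGroup G L x).pow_mem hx k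
  have hfp : f₀ ^ p = 1 := key e₁ he₁m f₀ hf₀ he₁1 hnf x y he₁x hy hxy p he₁p
  refine ⟨p, hp, fun z hz => ?_⟩
  by_cases hz1 : z = 1
  · rw [hz1, one_pow]
  obtain ⟨w, hw⟩ := hz.1.exists_centre
  by_cases hwx : w = x
  · exact key f₀ hf₀ z hz hnf hz1 y w hy hw (hwx ▸ hxy.symm) p hfp
  · exact key e₁ he₁m z hz he₁1 hz1 x w he₁x hw (Ne.symm hwx) p he₁p

end CfsgLib.OstromWagner
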