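import Cfsg.Agent.Lib.OstromWagner.HomLine

/-!
# Every line is an axis and every point a centre
-/

set_option autoImplicit false
set_option linter.unusedSectionVars false

namespace CfsgLib.OstromWagner

open Configuration MulAction

variable {G P L : Type*} [Group G] [MulAction G P] [MulAction G L] [Membership P L] [ProjectivePlane P L]
  [IsPlaneAction G P L] [Finite P] [Finite L] [Finite G]

theorem odd_centres (hs : HomSetting G P L) {m : L} {C : P} (hC : Hom G C m) :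
    Odd {X : P | Hom G X m}.ncard := by
  obtain ⟨h, hh⟩ := hC
  have hset : {X : P | Hom G X m} = orbit (elGroup G m) C := Set.ext fun X => ⟨fun ⟨k, hk⟩ => by
      obtain ⟨e, he, heX⟩ := exists_elation_smul hh.2.2.2.2 hk.2.2.2.2 hh.2.2.1 hh.2.1 hh.smul_centre
        hk.2.2.1 hk.2.1 hk.smul_centre
      exact ⟨⟨e, he⟩, heX⟩, fun ⟨e, he⟩ => by
      subst he
      have := Hom.conj ⟨h, hh⟩ (e : G)
      rwa [e.2.1.smul_axis] at this⟩
  rw [hset, ncard_orbit_elGroup hh.2.2.2.2]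
  exact (Odd.pow hs.odd).of_dvd_nat (card_elGroup_dvd m)

/-- A centre on the axis of one of its centres' homologies. -/
theorem exists_triangle (hs : HomSetting G P L) {p : P} {b m : L} (hp : Hom G p b) (hpm : p ∈ m)
    (hm : ∃ C : P, Hom G C m) : ∃ C : P, Hom G C m ∧ C ∈ b := by
  obtain ⟨h, hh⟩ := hp
  obtain ⟨C₀, hC₀⟩ := hm
  have hhm : h • m = m := hh.2.2.2.1 m hpm
  obtain ⟨C, hC, hfix⟩ := exists_fixed_of_odd hh.1 (S := {X : P | Hom G X m})
    (fun X hX => by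
      have h' := Hom.conj (show Hom G X m from hX) h
      rwa [hhm] at h') (odd_centres hs hC₀)
  refine ⟨C, hC, (hh.fix_pt hfix).resolve_right ?_⟩
  rintro rfl
  obtain ⟨k, hk⟩ := hC
  exact hk.2.2.2.2 hpm

/-- The relation given by incidence with the axes of a centre is symmetric along a line. -/
theorem exists_partner (hs : HomSetting G P L) {p r : P} {b m : L} (hp : Hom G p b) (hpm : p ∈ m)
    (hrb : r ∈ b) (hrm : r ∈ m) (hm : ∃ C : P, Hom G C m) : ∃ c : L, Hom G r c ∧ p ∈ c := by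
  obtain ⟨C, hC, hCb⟩ := exists_triangle hs hp hpm hm
  obtain ⟨h, hh⟩ := hp
  obtain ⟨k, hk, hcomm⟩ := Hom.exists_comm hC hh.1 (hh.2.2.1 C hCb) (hh.2.2.2.1 m hpm)
  obtain ⟨c, hpc, hCc⟩ := exists_line (L := L) (show p ≠ C from fun e => hh.2.2.2.2 (e ▸ hCb))
  exact ⟨c, ⟨_, IsHom.mul hs hh hk hpm hCb hcomm hrb hrm hpc hCc⟩, hpc⟩

theorem exists_elation (hs : HomSetting G P L) (hc : ∀ p : P, ∃ b : L, Hom G p b) (ha : ∀ m : L, ∃ C : P, Hom G C m) :
    ∃ (m : L) (e : G), IsElation e m ∧ e ≠ 1 := by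
  by_contra hno
  push Not at hno
  have huC : ∀ (C D : P) (m : L), Hom G C m → Hom G D m → C = D := by
    rintro C D m ⟨h, hh⟩ ⟨k, hk⟩
    obtain ⟨e, he, heD⟩ := exists_elation_smul hh.2.2.2.2 hk.2.2.2.2 hh.2.2.1 hh.2.1 hh.smul_centre
      hk.2.2.1 hk.2.1 hk.smul_centre
    rw [← heD, hno m e he, one_smul]
  have hub : ∀ (C : P) (b c : L), Hom G C b → Hom G C c → b = c := by
    intro C b c hb hc'
    obtain ⟨e, he, hec⟩ := cenEl_exists_smul hb hc'
    by_cases h1 : e = 1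
    · rw [← hec, h1, one_smul]
    · obtain ⟨a, -, ha'⟩ := dual_elation he h1
      exact absurd (hno a e ha') h1
  choose π hπ using hc
  refine no_polarity π ⟨fun p q e => huC p q (π p) (hπ p) (e ▸ hπ q), fun m => ?_⟩ (fun x y hxy => ?_)
    fun p hp => ?_
  · obtain ⟨C, hC⟩ := ha m
    exact ⟨C, hub C _ _ (hπ C) hC⟩
  · obtain ⟨C, hC, hCb⟩ := exists_triangle hs (hπ x) hxy (ha (π y))
    exact huC C y (π y) hC (hπ y) ▸ hCb
  · obtain ⟨h, hh⟩ := hπ p
    exact hh.2.2.2.2 hp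

/-- One elation with axis `m` gives elations with axis `m` and any centre, or the prime. -/
theorem goal_or_centres (hs : HomSetting G P L) (hc : ∀ p : P, ∃ b : L, Hom G p b)
    (ha : ∀ m : L, ∃ C : P, Hom G C m) {x : P} {m : L} (hxm : x ∈ m) {e : G} (he : e ∈ elCentre G x m)
    (he1 : e ≠ 1) (hgoal : ¬ Goal G P L) : ∀ p : P, p ∈ m → ∃ f ∈ elCentre G p m, f ≠ 1 := by
  -- a centre on `m` with an axis not through the centre of an elation
  have hstep : ∀ (y : P) (f : G), y ∈ m → f ∈ elCentre G y m → f ≠ 1 → ∀ (p : P) (b : L), p ∈ m → p ≠ y →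
      Hom G p b → y ∉ b → ∃ g ∈ elCentre G p m, g ≠ 1 := by
    intro y f hym hf hf1 p b hpm hpy hb hyb
    obtain ⟨h, hh⟩ := hb
    have hbm : b ≠ m := fun e' => hh.2.2.2.2 (e' ▸ hpm)
    have hfb : f • b ≠ b := fun hfix => by
      rcases hf.1.1.mem_of_fix_line (mem_centreGroup.1 hf.2) hf1 hfix with h' | h'
      · exact hyb h'
      · exact hbm h'
    have hfp : f • p = p := hf.1.1 p hpm
    have hb' : Hom G p (f • b) := by
      have := Hom.conj (show Hom G p b from ⟨h, hh⟩) f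
      rwa [hfp] at this
    obtain ⟨g, hg, hgb⟩ := cenEl_exists_smul ⟨h, hh⟩ hb'
    have hg1 : g ≠ 1 := fun e' => hfb (by rw [← hgb, e', one_smul])
    obtain ⟨r, hrb, hrm⟩ := exists_meet (P := P) hbm
    have hrp : r ≠ p := fun e' => hh.2.2.2.2 (e' ▸ hrb)
    have hgr : g • r = r := point_eq (show f • b ≠ m from fun e' => hbm (smul_left_cancel f
      (e'.trans hf.1.1.smul_axis.symm))) (hgb ▸ (smul_mem_iff g r b).2 hrb)
      ((smul_mem_of_fix (cenEl_isCentre hg m hpm)).2 hrm)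
      ((mem_of_fix (hf.1.1 r hrm)).2 hrb) hrm
    have hcen : IsCentre L g p := cenEl_isCentre hg
    exact ⟨g, ⟨isElation_of_centre_mem (cenEl_mem_of_fix hg hpm hrm hrp hgr) hcen hpm,
      hcen⟩, hg1⟩
  by_cases hexc : ∃ (p : P) (b : L), p ∈ m ∧ p ≠ x ∧ Hom G p b ∧ x ∉ b
  · obtain ⟨y, b, hym, hyx, hb, hxb⟩ := hexc
    obtain ⟨f, hf, hf1⟩ := hstep x e hxm he he1 y b hym hyx hb hxb
    intro p hpm
    by_cases hpx : p = x
    · exact hpx ▸ ⟨e, he, he1⟩
    by_cases hpy : p = y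
    · exact hpy ▸ ⟨f, hf, hf1⟩
    obtain ⟨c, ⟨h, hh⟩⟩ := hc p
    by_cases hxc : x ∈ c
    · refine hstep y f hym hf hf1 p c hpm hpy ⟨h, hh⟩ fun hyc => hh.2.2.2.2 ?_
      exact line_eq hyx hym hxm hyc hxc ▸ hpm
    · exact hstep x e hxm he he1 p c hpm hpx ⟨h, hh⟩ hxc
  push Not at hexc
  -- all axes of the points of `m` pass through `x`
  exfalso
  have hax : ∀ p : P, p ∈ m → p ≠ x → ∃ c : L, Hom G x c ∧ p ∈ c := fun p hpm hpx => by
    obtain ⟨b, hb⟩ := hc p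
    exact exists_partner hs hb hpm (hexc p b hpm hpx hb) hxm (ha m)
  obtain ⟨q, hqm, hqx, -⟩ := exists_on_ne_ne m x x
  obtain ⟨c₀, ⟨h₀, hh₀⟩, hqc₀⟩ := hax q hqm hqx
  have horb : ∀ p : P, p ∈ m → p ≠ x → ∃ f ∈ cenElGroup G L x, f • q = p := fun p hpm hpx => by
    obtain ⟨c, ⟨h, hh⟩, hpc⟩ := hax p hpm hpx
    obtain ⟨f, hf, hfc⟩ := cenEl_exists_smul (⟨h₀, hh₀⟩ : Hom G x c₀) ⟨h, hh⟩
    exact ⟨f, hf, point_eq (show m ≠ c from fun e' => hh.2.2.2.2 (e' ▸ hxm))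
      (cenEl_smul_on hf hxm ⟨hqm, hqx⟩).1 (hfc ▸ (smul_mem_iff f q c₀).2 hqc₀) hpm hpc⟩
  have hfull : (orbit (cenElGroup G L x) q).ncard = ProjectivePlane.order P L := by
    rw [show orbit (cenElGroup G L x) q = {r : P | r ∈ m ∧ r ≠ x} from Set.ext fun r => ⟨?_, fun hr => ?_⟩,
      ncard_on_ne m hxm]
    · rfl
    · rintro ⟨f, rfl⟩
      exact cenEl_smul_on (G := G) (e := (f : G)) f.2 hxm ⟨hqm, hqx⟩
    · obtain ⟨f, hf, hfq⟩ := horb r hr.1 hr.2
      exact ⟨⟨f, hf⟩, hfq⟩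
  obtain ⟨p, hpm, hpx, hpq⟩ := exists_on_ne_ne m x q
  obtain ⟨f, hf, hfq⟩ := horb p hpm hpx
  have hf1 : f ≠ 1 := fun e' => hpq (by rw [← hfq, e', one_smul])
  obtain ⟨a, -, haf⟩ := dual_elation hf hf1
  have he' : e ∈ cenElGroup G L x := IsElation.dual he.1 (mem_centreGroup.1 he.2)
  exact hgoal (goal_of_two_axes (⟨h₀, hh₀⟩ : Hom G x c₀) hxm hqm hqx hfull he' hf he1 hf1 he.1.1 haf.1
    fun e' => hpq (by rw [← hfq]; exact (haf.1 q (e' ▸ hqm))))

/-- Every flag carries an elation, unless the order is known to be a prime power. -/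
theorem goal_or_all_flags (hs : HomSetting G P L) (hc : ∀ p : P, ∃ b : L, Hom G p b)
    (ha : ∀ m : L, ∃ C : P, Hom G C m) (hgoal : ¬ Goal G P L) :
    ∀ (x : P) (m : L), x ∈ m → ∃ f ∈ elCentre G x m, f ≠ 1 := by
  obtain ⟨m₀, e₀, he₀, he₀1⟩ := exists_elation hs hc ha
  obtain ⟨x₀, hx₀⟩ := he₀.1.exists_centre
  have hrow : ∀ (x : P) (m : L), x ∈ m → (∃ f ∈ elCentre G x m, f ≠ 1) →
      ∀ p : P, p ∈ m → ∃ f ∈ elCentre G p m, f ≠ 1 :=
    fun x m hxm ⟨f, hf, hf1⟩ => goal_or_centres hs hc ha hxm hf hf1 hgoal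
  have hcol : ∀ (x : P) (m : L), x ∈ m → (∃ f ∈ elCentre G x m, f ≠ 1) →
      ∀ b : L, x ∈ b → ∃ f ∈ elCentre G x b, f ≠ 1 := by
    intro x m hxm ⟨f, hf, hf1⟩ b hxb
    have hd := goal_or_centres (P := Configuration.Dual L) (L := Configuration.Dual P) hs.dual
      (fun l => let ⟨C, k, hk⟩ := ha l; ⟨C, k, hk.dual⟩) (fun p => let ⟨c, k, hk⟩ := hc p; ⟨c, k, hk.dual⟩)
      (x := m) (m := x) hxm (e := f)
      ⟨IsElation.dual hf.1 (mem_centreGroup.1 hf.2), hf.1.1⟩ hf1 (fun h => hgoal h.of_dual) b hxb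
    obtain ⟨g, hg, hg1⟩ := hd
    have hgb : IsAxis g b := hg.2
    have hgx : IsCentre L g x := hg.1.1
    exact ⟨g, ⟨isElation_of_centre_mem hgb hgx hxb, hgx⟩, hg1⟩
  intro x m hxm
  have h₀ : ∀ p : P, p ∈ m₀ → ∃ f ∈ elCentre G p m₀, f ≠ 1 :=
    hrow x₀ m₀ (he₀.centre_mem hx₀ he₀1) ⟨e₀, ⟨he₀, hx₀⟩, he₀1⟩
  by_cases hm : m = m₀
  · exact hm ▸ h₀ x (hm ▸ hxm)
  · obtain ⟨y, hym, hym₀⟩ := exists_meet (P := P) hm
    exact hrow y m hym (hcol y m₀ hym₀ (h₀ y hym₀) m hym) x hxm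

/-- Elations at every flag make the group transitive on flags. -/
theorem flagTrans_of_all (hall : ∀ (x : P) (m : L), x ∈ m → ∃ f ∈ elCentre G x m, f ≠ 1) :
    FlagTrans G P L := by
  have hexp : ∀ m : L, ∃ p : ℕ, p.Prime ∧ ∀ z ∈ elGroup G m, z ^ p = 1 := fun m => by
    obtain ⟨p₀, -⟩ := Nondegenerate.exists_point (P := P) m
    obtain ⟨x, hxm, -, -⟩ := exists_on_ne_ne m p₀ p₀
    obtain ⟨y, hym, hyx, -⟩ := exists_on_ne_ne m x x
    obtain ⟨e, he, he1⟩ := hall x m hxm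
    obtain ⟨f, hf, hf1⟩ := hall y m hym
    exact exists_prime_exponent (comm_of_flag hall m) he.1 hf.1 he1 hf1 (mem_centreGroup.1 he.2)
      (mem_centreGroup.1 hf.2) hyx.symm
  have hsame : ∀ (m m' : L) (p q : ℕ), p.Prime → q.Prime → (∀ z ∈ elGroup G m, z ^ p = 1) →
      (∀ z ∈ elGroup G m', z ^ q = 1) → ∀ x : P, x ∈ m → x ∈ m' → p = q := by
    intro m m' p q hp hq hmp hmq x hxm hxm'
    -- two elations with centre `x`
    obtain ⟨e, he, he1⟩ := hall x m hxm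
    obtain ⟨f, hf, hf1⟩ := hall x m' hxm'
    have hall' : ∀ (l : Configuration.Dual L) (y : Configuration.Dual P), l ∈ y →
        ∃ g ∈ elCentre G l y, g ≠ 1 := fun (l : L) (y : P) (hly : y ∈ l) => by
      obtain ⟨g, hg, hg1⟩ := hall y l hly
      exact ⟨g, ⟨IsElation.dual hg.1 (mem_centreGroup.1 hg.2), hg.1.1⟩, hg1⟩
    obtain ⟨r, hr, hexp'⟩ : ∃ r : ℕ, r.Prime ∧ ∀ z ∈ cenElGroup G L x, z ^ r = 1 := by
      obtain ⟨a, hxa, ham, -⟩ := exists_through_ne_ne x m m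
      obtain ⟨g, hg, hg1⟩ := hall x a hxa
      exact exists_prime_exponent (P := Configuration.Dual L) (L := Configuration.Dual P) (comm_of_flag hall' x)
        (IsElation.dual he.1 (mem_centreGroup.1 he.2)) (IsElation.dual hg.1 (mem_centreGroup.1 hg.2)) he1 hg1
        (x := m) (y := a) he.1.1 hg.1.1 (Ne.symm ham)
    haveI := Fact.mk hp
    haveI := Fact.mk hq
    haveI := Fact.mk hr
    rw [← orderOf_eq_prime (hmp e he.1) he1,
      orderOf_eq_prime (hexp' e (IsElation.dual he.1 (mem_centreGroup.1 he.2))) he1,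
      ← orderOf_eq_prime (hexp' f (IsElation.dual hf.1 (mem_centreGroup.1 hf.2))) hf1,
      orderOf_eq_prime (hmq f hf.1) hf1]
  -- transitivity on the points of each line
  have hline : ∀ (a : L) (x y : P), x ∈ a → y ∈ a → ∃ g : G, g • a = a ∧ g • x = y := by
    intro a x y hx hy
    by_cases hO : y ∈ orbit (stabilizer G a) x
    · obtain ⟨g, hg⟩ := hO
      exact ⟨g, mem_stabilizer_iff.1 g.2, hg⟩
    exfalso
    obtain ⟨p, hp, hpa⟩ := hexp a
    set O := orbit (stabilizer G a) x with hOdef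
    have hOa : ∀ z ∈ O, z ∈ a := by
      rintro _ ⟨g, rfl⟩
      exact (smul_mem_of_fix (g := (g : G)) (mem_stabilizer_iff.1 g.2)).2 hx
    have hmod : ∀ z : P, z ∈ a → p ∣ {w ∈ O | w ≠ z}.ncard := fun z hz => by
      obtain ⟨b, hzb, hba, -⟩ := exists_through_ne_ne z a a
      obtain ⟨g, hg, hg1⟩ := hall z b hzb
      obtain ⟨q, hq, hqb⟩ := hexp b
      obtain rfl := hsame a b p q hp hq hpa hqb z hz hzb
      have hga : g • a = a := (mem_centreGroup.1 hg.2) a hz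
      refine dvd_ncard_of_moved hp (hqb g hg.1) (fun w hw => ⟨?_, fun e' => hw.2 ?_⟩) fun w hw hfix => hw.2 ?_
      · obtain ⟨k, hk⟩ := hw.1
        exact ⟨⟨g, mem_stabilizer_iff.2 hga⟩ * k, by
          show (g * (k : G)) • x = g • w
          rw [mul_smul]; exact congrArg (g • ·) hk⟩
      · exact smul_left_cancel g (e'.trans (mem_centreGroup.1 hg.2).smul_centre.symm)
      · rcases hg.1.1.mem_of_fix (mem_centreGroup.1 hg.2) hg1 hfix with h | h
        · exact point_eq hba h (hOa w hw.1) hzb hz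
        · exact h
    have h1 := hmod x hx
    have h2 := hmod y hy
    rw [show {w ∈ O | w ≠ y} = O from Set.ext fun w => ⟨fun h => h.1, fun h => ⟨h, fun e' => hO (e' ▸ h)⟩⟩] at h2
    rw [show {w ∈ O | w ≠ x} = O \ {x} from rfl,
      Set.ncard_sdiff_singleton_of_mem (show x ∈ O from mem_orbit_self x)] at h1
    have hpos : 0 < O.ncard := (Set.ncard_pos (Set.toFinite _)).2 ⟨x, mem_orbit_self x⟩
    have := Nat.dvd_sub h2 h1
    rw [show O.ncard - (O.ncard - 1) = 1 by omega] at this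
    exact hp.one_lt.ne' (Nat.dvd_one.1 this)
  have hP : ∀ p q : P, ∃ g : G, g • p = q := fun p q => by
    by_cases hpq : p = q
    · exact ⟨1, hpq ▸ one_smul G p⟩
    · obtain ⟨l, hpl, hql⟩ := exists_line (L := L) hpq
      obtain ⟨g, -, hg⟩ := hline l p q hpl hql
      exact ⟨g, hg⟩
  intro p p' l l' hpl hpl'
  obtain ⟨g, hg⟩ := line_transitive hP l l'
  obtain ⟨k, hk, hkp⟩ := hline l' (g • p) p' (hg ▸ (smul_mem_iff g p l).2 hpl) hpl'
  exact ⟨k * g, by rw [mul_smul, hkp], by rw [mul_smul, hg, hk]⟩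

/-- In this setting the order is a prime power and there is an elation of that prime order. -/
theorem goal_of_homSetting (hs : HomSetting G P L) : Goal G P L := by
  by_contra hgoal
  have ha : ∀ m : L, ∃ C : P, Hom G C m := fun m => by
    by_contra h
    push Not at h
    exact hgoal (goal_of_nonAxis hs h)
  have hc : ∀ p : P, ∃ b : L, Hom G p b := fun p => by
    by_contra h
    push Not at h
    refine hgoal (Goal.of_dual (goal_of_nonAxis (P := Configuration.Dual L) (L := Configuration.Dual P) (m := p)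
      hs.dual ?_))
    rintro (l : L) ⟨k, hk⟩
    exact h l ⟨k, hk.dual⟩
  have hall := goal_or_all_flags hs hc ha hgoal
  obtain ⟨x, -, -, l, -⟩ := ProjectivePlane.exists_config (P := P) (L := L)
  obtain ⟨y, hy, -, -⟩ := exists_on_ne_ne l x x
  obtain ⟨f, hf, hf1⟩ := hall y l hy
  obtain ⟨p, k, hfull⟩ := full_of_flagTrans (flagTrans_of_all hall) hf.1 hf1
  exact hgoal ⟨p, k, hfull.prime, hfull.ord_eq, l, f, hf.1, hf1, hfull.exponent l f hf.1⟩

end CfsgLib.OstromWagner
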