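import Cfsg.Agent.Lib.OstromWagner.Maximal
import Cfsg.Agent.Lib.OstromWagner.HomAxes

/-!
# A two-transitive collineation group contains a perspectivity
-/

set_option autoImplicit false
set_option linter.unusedSectionVars false

namespace CfsgLib.OstromWagner

open Configuration MulAction

variable {G P L : Type*} [Group G] [MulAction G P] [MulAction G L] [Membership P L] [ProjectivePlane P L]
  [IsPlaneAction G P L] [Finite P] [Finite L] [Finite G]

theorem AntiTrans.affine_transitive (h : AntiTrans G P L) {l : L} {x y : P} (hx : x ∉ l) (hy : y ∉ l) :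
    ∃ g ∈ stabilizer G l, g • x = y :=
  let ⟨g, hg, hgl⟩ := h x y l l hx hy
  ⟨g, mem_stabilizer_iff.2 hgl, hg⟩

theorem orbit_stab_line (h : AntiTrans G P L) {l : L} {x : P} (hx : x ∉ l) :
    orbit (stabilizer G l) x = {p : P | p ∉ l} := by
  refine Set.ext fun y => ⟨?_, fun hy => ?_⟩
  · rintro ⟨g, rfl⟩
    exact fun hy => hx ((smul_mem_of_fix (mem_stabilizer_iff.1 g.2)).1 hy)
  · obtain ⟨g, hg, hgy⟩ := h.affine_transitive hx hy
    exact ⟨⟨g, hg⟩, hgy⟩

theorem orbit_sylow_dvd (h : AntiTrans G P L) {p i : ℕ} [Fact p.Prime] {l : L} {T : Subgroup G}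
    (hT : IsSylowIn p T (stabilizer G l)) {x : P} (hx : x ∉ l) (hi : p ^ i ∣ ord P L ^ 2) :
    p ^ i ∣ (orbit T x).ncard :=
  hT.orbit_dvd x (by rwa [orbit_stab_line h hx, ncard_off])

theorem mem_orbit_affine {l : L} {T : Subgroup G} (hTl : T ≤ stabilizer G l) {x y : P} (hx : x ∉ l)
    (hy : y ∈ orbit T x) : y ∉ l := by
  obtain ⟨g, rfl⟩ := hy
  exact fun hy => hx ((smul_mem_of_fix (mem_stabilizer_iff.1 (hTl g.2))).1 hy)

/-- A Sylow subgroup of a line stabiliser is transitive off the line if the order is a prime power. -/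
theorem sylow_transitive (h : AntiTrans G P L) {p i : ℕ} [Fact p.Prime] {l : L} {T : Subgroup G}
    (hT : IsSylowIn p T (stabilizer G l)) (hi : ord P L = p ^ i) {x y : P} (hx : x ∉ l) (hy : y ∉ l) :
    ∃ t ∈ T, t • x = y := by
  have hd : ord P L ^ 2 ∣ (orbit T x).ncard := by
    have := orbit_sylow_dvd h hT hx (i := i * 2) (by rw [hi, pow_mul])
    rwa [pow_mul, ← hi] at this
  have hsub : orbit T x ⊆ {p : P | p ∉ l} := fun z hz => mem_orbit_affine hT.1 hx hz
  have heq : orbit T x = {p : P | p ∉ l} := by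
    refine Set.eq_of_subset_of_ncard_le hsub ?_ (Set.toFinite _)
    rw [ncard_off]
    exact Nat.le_of_dvd (Set.ncard_pos (Set.toFinite _) |>.2 ⟨x, mem_orbit_self x⟩) hd
  obtain ⟨t, ht⟩ : y ∈ orbit T x := heq ▸ hy
  exact ⟨t, t.2, ht⟩

/-- Without perspectivities, the order is odd. -/
theorem odd_ord (h : TwoTrans G P) (hno : NoPersp G P L) : Odd (ord P L) := by
  haveI : Fact (Nat.Prime 2) := ⟨Nat.prime_two⟩
  by_contra hodd
  rw [Nat.not_odd_iff_even] at hodd
  obtain ⟨l⟩ : Nonempty L := ⟨(ProjectivePlane.exists_config (P := P) (L := L)).choose_spec.choose_spec.choose_spec.choose⟩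
  have hanti := (h.flag_anti (L := L)).2
  have hn0 : ord P L ≠ 0 := ord_pos.ne'
  obtain ⟨a, r, hr, hnr⟩ := Nat.exists_eq_pow_mul_and_not_dvd hn0 2 (by norm_num)
  have ha : 1 ≤ a := Nat.one_le_iff_ne_zero.2 fun e => by
    rw [e, pow_zero, one_mul] at hnr
    exact hr (hnr ▸ hodd.two_dvd)
  have h22 : 2 ^ (2 * a) ∣ ord P L ^ 2 := by
    rw [mul_comm, pow_mul]
    exact pow_dvd_pow_of_dvd (Dvd.intro r hnr.symm) 2
  obtain ⟨T, hT⟩ := exists_sylowIn (p := 2) (stabilizer G l)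
  obtain ⟨x, hx⟩ := Nondegenerate.exists_point (P := P) l
  have hTne : T ≠ ⊥ := fun e => by
    have hd := orbit_sylow_dvd hanti hT hx h22
    have hle : (orbit T x).ncard ≤ Nat.card T := by
      rw [← card_orbit_stab (H := T) x]
      exact Nat.le_mul_of_pos_right _ Nat.card_pos
    rw [Subgroup.card_eq_one.2 e] at hle
    have h1 := Nat.le_of_dvd (Set.ncard_pos (Set.toFinite _) |>.2 ⟨x, mem_orbit_self x⟩) hd
    have h2 : 2 ^ 1 ≤ 2 ^ (2 * a) := Nat.pow_le_pow_right (by norm_num) (by omega)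
    omega
  obtain ⟨z, hzT, hz1, hz2, hzc⟩ := exists_central hT.2.1 hTne
  rw [pow_two] at hz2
  have hzl : z • l = l := mem_stabilizer_iff.1 (hT.1 hzT)
  have hq := quad_of_involution hno hz2 hz1 (P := P) (L := L)
  letI := fixedPlane hq
  have hn := baer (P := P) (L := L) hz2 hz1
  set m := ord (fixedPoints (Subgroup.zpowers z) P) (fixedPoints (Subgroup.zpowers z) L) with hm
  have hlU : l ∈ fixedPoints (Subgroup.zpowers z) L :=
    mem_fixed_iff.2 fun u hu => mem_stabilizer_iff.1 ((Subgroup.zpowers_le).2 (mem_stabilizer_iff.2 hzl) hu)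
  have hcount : {p : P | p ∉ l ∧ z • p = p}.ncard = ord P L := by
    have hset : {p : P | p ∉ l ∧ z • p = p} =
        fixedPoints (Subgroup.zpowers z) P \ {p : P | p ∈ l ∧ p ∈ fixedPoints (Subgroup.zpowers z) P} := by
      ext p
      constructor
      · rintro ⟨hpl, hp⟩
        exact ⟨mem_fixed_iff.2 fun u hu =>
          mem_stabilizer_iff.1 ((Subgroup.zpowers_le).2 (mem_stabilizer_iff.2 hp) hu), fun h' => hpl h'.1⟩
      · rintro ⟨hp, hp'⟩
        exact ⟨fun h' => hp' ⟨h', hp⟩, mem_fixed_iff.1 hp z (Subgroup.mem_zpowers z)⟩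
    rw [hset, Set.ncard_sdiff (fun p hp => hp.2) (Set.toFinite _), ncard_fixedPoints (L := L),
      ncard_fixed_on (⟨l, hlU⟩ : fixedPoints (Subgroup.zpowers z) L), hn, ← hm]
    omega
  have hd : 2 ^ (2 * a) ∣ {p : P | p ∉ l ∧ z • p = p}.ncard := by
    refine dvd_ncard_of_orbits T {p : P | p ∉ l ∧ z • p = p} ?_ fun p hp =>
      orbit_sylow_dvd hanti hT hp.1 h22
    rintro t ht p ⟨hp1, hp2⟩
    refine ⟨fun h' => hp1 ((smul_mem_of_fix (mem_stabilizer_iff.1 (hT.1 ht))).1 h'), ?_⟩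
    rw [← mul_smul, ← hzc t ht, mul_smul, hp2]
  rw [hcount, hnr] at hd
  have hco : Nat.Coprime (2 ^ (2 * a)) r :=
    Nat.Coprime.pow_left _ ((Nat.prime_two.coprime_iff_not_dvd).2 hr)
  have := (Nat.pow_dvd_pow_iff_le_right (x := 2) (by norm_num)).1 (hco.dvd_of_dvd_mul_right hd)
  omega

/-- Without perspectivities, the order is congruent to one modulo four. -/
theorem ord_mod_four (h : TwoTrans G P) (hno : NoPersp G P L) : ord P L % 4 = 1 := by
  have hodd := odd_ord h hno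
  obtain ⟨a, b, -, hab⟩ : ∃ a b : P, ∃ _ : True, a ≠ b := by
    obtain ⟨l, -⟩ : ∃ l : L, True := ⟨(ProjectivePlane.exists_config (P := P) (L := L)).choose_spec.choose_spec.choose_spec.choose, trivial⟩
    obtain ⟨p, hp⟩ := Nondegenerate.exists_point (P := P) l
    obtain ⟨q, hq, -⟩ := exists_on_ne_ne l p p
    exact ⟨p, q, trivial, fun e => hp (e ▸ hq)⟩
  obtain ⟨g, h2, h1⟩ := exists_involution h hab
  letI := fixedPlane (quad_of_involution hno h2 h1 (P := P) (L := L))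
  have hn := baer (P := P) (L := L) h2 h1
  rw [hn] at hodd ⊢
  obtain ⟨j, hj⟩ := (Nat.odd_pow_iff (by norm_num)).1 hodd
  rw [hj, Nat.pow_mod]
  have : (2 * j + 1) % 4 = 1 ∨ (2 * j + 1) % 4 = 3 := by omega
  rcases this with h' | h' <;> rw [h']

/-- An elation of the subplane lifts to a `p`-element fixing a given antiflag. -/
theorem exists_lift {U : Subgroup G} [ProjectivePlane (fixedPoints U P) (fixedPoints U L)] {p : ℕ} [Fact p.Prime]
    {x : Ind G P L U} (h1 : x ≠ 1) (hp : x ^ p = 1) {o : fixedPoints U P} {m : fixedPoints U L}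
    (ho : x • o = o) (hm : x • m = m) :
    ∃ g ∈ nrm G U, g • (o : P) = o ∧ g • (m : L) = m ∧ IsPGroup p (Subgroup.zpowers g) ∧
      ∃ r ∈ fixedPoints U P, g • r ≠ r := by
  obtain ⟨g₀, hg₀⟩ := toInd_surjective x
  obtain ⟨g, hgz, hgp, hg1⟩ := exists_p_lift (p := p) (indMap G P L U).rangeRestrict g₀
    (fun e => h1 (hg₀.symm.trans e)) (i := 1)
    (by rw [pow_one]; exact (congrArg (· ^ p) hg₀).trans hp)
  obtain ⟨j, rfl⟩ := Subgroup.mem_zpowers_iff.1 hgz
  have hx : toInd P L (g₀ ^ j) = x ^ j := by rw [← hg₀]; exact map_zpow _ _ _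
  refine ⟨(g₀ ^ j : nrm G U), (g₀ ^ j).2, ?_, ?_, ?_, ?_⟩
  · have h3 : toInd P L (g₀ ^ j) • o = o :=
      hx ▸ mem_stabilizer_iff.1 ((stabilizer _ o).zpow_mem (mem_stabilizer_iff.2 ho) j)
    exact congrArg Subtype.val h3
  · have h3 : toInd P L (g₀ ^ j) • m = m :=
      hx ▸ mem_stabilizer_iff.1 ((stabilizer _ m).zpow_mem (mem_stabilizer_iff.2 hm) j)
    exact congrArg Subtype.val h3
  · have := hgp.map (nrm G U).subtype
    rwa [MonoidHom.map_zpowers] at this
  · by_contra hall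
    push Not at hall
    exact hg1 ((toInd_eq_one_iff _).2 hall)

theorem sylow_lift_mem {E K : Subgroup G} {p : ℕ} [Fact p.Prime] (hE : IsSylowIn p E K) {g : G}
    (hg : g ∈ nrm G E) (hgK : g ∈ K) (hgp : IsPGroup p (Subgroup.zpowers g)) : g ∈ E := by
  have hle : E ⊔ Subgroup.zpowers g ≤ K := sup_le hE.1 ((Subgroup.zpowers_le).2 hgK)
  have := hE.le_of_le le_sup_left hle (IsPGroup.to_sup_of_normal_left' hE.2.1 hgp ((Subgroup.zpowers_le).2 hg))
  exact this ▸ Subgroup.mem_sup_right (Subgroup.mem_zpowers g)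

/-- A prime power order, and a prime dividing an antiflag stabiliser. -/
theorem exists_prime_data (h : TwoTrans G P) (hno : NoPersp G P L) :
    ∃ p k : ℕ, p.Prime ∧ ord P L = p ^ k ∧ ∃ (O : P) (m : L), O ∉ m ∧
      p ∣ Nat.card ↥(stabilizer G O ⊓ stabilizer G m) := by
  obtain ⟨a, b, hab⟩ : ∃ a b : P, a ≠ b := by
    obtain ⟨l⟩ : Nonempty L := ⟨(ProjectivePlane.exists_config (P := P) (L := L)).choose_spec.choose_spec.choose_spec.choose⟩
    obtain ⟨p, hp⟩ := Nondegenerate.exists_point (P := P) l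
    obtain ⟨q, hq, -⟩ := exists_on_ne_ne l p p
    exact ⟨p, q, fun e => hp (e ▸ hq)⟩
  obtain ⟨g, hg2, hg1⟩ := exists_involution h hab
  obtain ⟨U, hU, -⟩ := exists_maxQuad hno hg2 hg1 (P := P) (L := L)
  letI := fixedPlane hU.quad
  haveI := isPlaneAction_ind (P := P) (L := L) U
  obtain ⟨p, c, hp, hu, a₀, e, he, he1, hep⟩ := goal_of_homSetting (homSetting_ind h (ord_mod_four h hno) hU)
  obtain ⟨k, hk⟩ := ord_eq_pow (P := P) (L := L) U hU.two
  haveI := Fact.mk hp
  obtain ⟨x, hx⟩ := he.1.exists_centre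
  have hxa := he.centre_mem hx he1
  obtain ⟨o, hoa, hox, -⟩ := exists_on_ne_ne a₀ x x
  obtain ⟨m, hxm, hma, -⟩ := exists_through_ne_ne x a₀ a₀
  have hom : (o : P) ∉ (m : L) := fun hom => hox (point_eq hma hom hoa hxm hxa)
  obtain ⟨g', -, hgo, hgm, hgp, r, -, hr⟩ := exists_lift he1 hep (he.1 o hoa) (hx m hxm)
  refine ⟨p, c * 2 ^ k, hp, by rw [hk, pow_mul]; exact congrArg (· ^ 2 ^ k) hu, o, m, hom, ?_⟩
  obtain ⟨i, hi⟩ := IsPGroup.iff_card.1 hgp
  have hle : Subgroup.zpowers g' ≤ stabilizer G (o : P) ⊓ stabilizer G (m : L) :=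
    (Subgroup.zpowers_le).2 ⟨mem_stabilizer_iff.2 hgo, mem_stabilizer_iff.2 hgm⟩
  have hi0 : i ≠ 0 := fun e' => by
    rw [e', pow_zero, Subgroup.card_eq_one, Subgroup.zpowers_eq_bot] at hi
    exact hr (by rw [hi, one_smul])
  exact ((dvd_pow_self p hi0).trans hi.symm.dvd).trans (Subgroup.card_dvd_of_le hle)

/-- A Sylow subgroup of an antiflag stabiliser fixes a quadrangle. -/
theorem quad_sylow (h : TwoTrans G P) (hno : NoPersp G P L) {p k : ℕ} [Fact p.Prime] (hn : ord P L = p ^ k)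
    {O : P} {m : L} (hOm : O ∉ m) {E : Subgroup G} (hE : IsSylowIn p E (stabilizer G O ⊓ stabilizer G m))
    (hE1 : E ≠ ⊥) : Quad L (fixedPoints E P) := by
  have hanti := (h.flag_anti (L := L)).2
  have hk : k ≠ 0 := fun e => by
    have := one_lt_ord (P := P) (L := L)
    rw [hn, e, pow_zero] at this
    omega
  have hpn : p ∣ ord P L := hn ▸ dvd_pow_self p hk
  have hpn1 : ¬ p ∣ ord P L + 1 := fun hd => (Fact.out : p.Prime).not_dvd_one ((Nat.dvd_add_right hpn).1 hd)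
  obtain ⟨P₀, hP₀, hEP⟩ := exists_sylowIn_ge hE.2.1 (hE.1.trans inf_le_right)
  obtain ⟨X, hX, hXfix⟩ := exists_fixed hP₀.2.1 {x : P | x ∈ m}
    (fun t ht x hx => (smul_mem_of_fix (mem_stabilizer_iff.1 (hP₀.1 ht))).2 hx) (by rwa [ncard_on])
  obtain ⟨z, hzP, hz1, -, hzc⟩ := exists_central hP₀.2.1 (fun e => hE1 (le_bot_iff.1 (e ▸ hEP)))
  have hXO : X ≠ O := fun e => hOm (e ▸ hX)
  obtain ⟨b, hOb, hXb⟩ := exists_line (L := L) (Ne.symm hXO)
  have hbm : b ≠ m := fun e => hOm (e ▸ hOb)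
  have hzb : z • b ≠ b := by
    intro hzb
    have hc : IsCentre L z X := by
      intro l hXl
      by_cases hlm : l = m
      · exact hlm ▸ mem_stabilizer_iff.1 (hP₀.1 hzP)
      obtain ⟨y, hyl, hyX, -⟩ := exists_on_ne_ne l X X
      have hym : y ∉ m := fun e => hyX (point_eq hlm hyl e hXl hX)
      obtain ⟨t, ht, htO⟩ := sylow_transitive hanti hP₀ hn hOm hym
      have htb : t • b = l := line_eq hyX (htO ▸ (smul_mem_iff t O b).2 hOb)
        (by have := (smul_mem_iff t X b).2 hXb; rwa [hXfix t ht] at this) hyl hXl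
      rw [← htb, ← mul_smul, ← hzc t ht, mul_smul, hzb]
    obtain ⟨a, ha⟩ := hc.exists_axis
    exact hz1 (hno z a ha)
  have hEO : ∀ t ∈ E, t • O = O := fun t ht => mem_stabilizer_iff.1 (hE.1 ht).1
  have hEX : ∀ t ∈ E, t • X = X := fun t ht => hXfix t (hEP ht)
  have hEb : ∀ t ∈ E, t • b = b := fun t ht => smul_line_eq (Ne.symm hXO) (hEO t ht) (hEX t ht) hOb hXb
  obtain ⟨O', ⟨hO'b, hO'X⟩, hO'fix, hO'O⟩ :
      ∃ O' ∈ {q : P | q ∈ b ∧ q ≠ X}, (∀ t ∈ E, t • O' = O') ∧ O' ≠ O := by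
    have hmod := modEq_fixed hE.2.1 {q : P | q ∈ b ∧ q ≠ X} fun t ht q hq =>
      ⟨(smul_mem_of_fix (hEb t ht)).2 hq.1, fun e => hq.2 (smul_left_cancel t (e.trans (hEX t ht).symm))⟩
    rw [ncard_on_ne b hXb] at hmod
    by_contra hall
    push Not at hall
    have hsing : {q ∈ {q : P | q ∈ b ∧ q ≠ X} | ∀ t ∈ E, t • q = q} = {O} :=
      Set.eq_singleton_iff_unique_mem.2 ⟨⟨⟨hOb, Ne.symm hXO⟩, hEO⟩, fun q hq => hall q hq.1 hq.2⟩
    rw [hsing, Set.ncard_singleton] at hmod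
    exact (Fact.out : p.Prime).not_dvd_one
      (Nat.modEq_zero_iff_dvd.1 (hmod.symm.trans (Nat.modEq_zero_iff_dvd.2 hpn)))
  have hzX : z • X = X := hXfix z hzP
  have hzfix : ∀ q : P, (∀ t ∈ E, t • q = q) → ∀ t ∈ E, t • z • q = z • q := fun q hq t ht => by
    rw [← mul_smul, hzc t (hEP ht), mul_smul, hq t ht]
  have hXzb : X ∈ z • b := by
    have := (smul_mem_iff z X b).2 hXb
    rwa [hzX] at this
  refine quad_of_two_sides (A := O) (B := X) (C := z • O) (D := O') (E := z • O') (lAB := b) (lBC := z • b)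
    hOb hXb hXzb ((smul_mem_iff z O b).2 hOb)
    (fun e => hzb (line_eq (Ne.symm hXO) e hXzb hOb hXb))
    (fun e => hzb (line_eq (fun e' => hXO (smul_left_cancel z (hzX.trans e'.symm))) ((smul_mem_iff z O b).2 hOb)
      hXzb e hXb))
    hO'b ((smul_mem_iff z O' b).2 hO'b) hO'O hO'X
    (fun e => hO'X (smul_left_cancel z (e.trans hzX.symm))) (fun e => hO'O (smul_left_cancel z e))
    ?_ ?_ ?_ ?_
  all_goals refine mem_fixed_iff.2 ?_
  · exact hEO
  · exact hzfix O hEO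
  · exact hO'fix
  · exact hzfix O' hO'fix

/-- The group induced on the fixed subplane of a Sylow subgroup of an antiflag stabiliser is two-transitive. -/
theorem twoTrans_ind (h : TwoTrans G P) {p : ℕ} [Fact p.Prime] {O : P} {m : L} (hOm : O ∉ m) {E : Subgroup G}
    (hE : IsSylowIn p E (stabilizer G O ⊓ stabilizer G m))
    [ProjectivePlane (fixedPoints E P) (fixedPoints E L)] :
    TwoTrans (Ind G P L E) (fixedPoints E P) := by
  haveI := isPlaneAction_ind (P := P) (L := L) E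
  have hO : O ∈ fixedPoints E P := mem_fixed_iff.2 fun t ht => mem_stabilizer_iff.1 (hE.1 ht).1
  have hm : m ∈ fixedPoints E L := mem_fixed_iff.2 fun t ht => mem_stabilizer_iff.1 (hE.1 ht).2
  have key : ∀ (q : fixedPoints E P) (l : fixedPoints E L), q ∉ l →
      ∃ x : Ind G P L E, x • ⟨O, hO⟩ = q ∧ x • ⟨m, hm⟩ = l := by
    intro q l hql
    obtain ⟨g, hgq, hgl⟩ := (h.flag_anti (L := L)).2 O (q : P) m (l : L) hOm hql
    obtain ⟨x, hx, hxg⟩ := IsSylowIn.witt (K := stabilizer G (q : P) ⊓ stabilizer G (l : L)) (g := g)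
      (fun t ht => ⟨mem_stabilizer_iff.2 (by
          rw [← hgq, mul_smul, mul_smul, inv_smul_smul, mem_stabilizer_iff.1 (hE.1 ht).1]),
        mem_stabilizer_iff.2 (by
          rw [← hgl, mul_smul, mul_smul, inv_smul_smul, mem_stabilizer_iff.1 (hE.1 ht).2])⟩)
      (fun t ht => ⟨mem_stabilizer_iff.2 (mem_fixed_iff.1 q.2 t ht), mem_stabilizer_iff.2 (mem_fixed_iff.1 l.2 t ht)⟩)
      hE.2.1 (by rw [hE.2.2, ← hgq, ← hgl, card_stab_conj])
    exact ⟨toInd P L ⟨x * g, hxg⟩,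
      Subtype.ext (by rw [toInd_smul_pt, mul_smul, hgq, mem_stabilizer_iff.1 hx.1]),
      Subtype.ext (by rw [toInd_smul_ln, mul_smul, hgl, mem_stabilizer_iff.1 hx.2])⟩
  refine AntiTrans.twoTrans (L := fixedPoints E L) fun q q' l l' hq hq' => ?_
  obtain ⟨x, hxq, hxl⟩ := key q l hq
  obtain ⟨y, hyq, hyl⟩ := key q' l' hq'
  exact ⟨y * x⁻¹, by rw [mul_smul, ← hxq, inv_smul_smul, hyq], by rw [mul_smul, ← hxl, inv_smul_smul, hyl]⟩

theorem not_full_ind {p k : ℕ} [Fact p.Prime] (hn : ord P L = p ^ k) {O : P} {m : L} (hOm : O ∉ m)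
    {E : Subgroup G} (hE : IsSylowIn p E (stabilizer G O ⊓ stabilizer G m))
    [ProjectivePlane (fixedPoints E P) (fixedPoints E L)] [IsPlaneAction (Ind G P L E) (fixedPoints E P) (fixedPoints E L)]
    {q j : ℕ} (hfull : Full (Ind G P L E) (fixedPoints E P) (fixedPoints E L) q j) : False := by
  have hO : O ∈ fixedPoints E P := mem_fixed_iff.2 fun t ht => mem_stabilizer_iff.1 (hE.1 ht).1
  have hm : m ∈ fixedPoints E L := mem_fixed_iff.2 fun t ht => mem_stabilizer_iff.1 (hE.1 ht).2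
  obtain ⟨a, hOa, -⟩ := exists_through_ne_ne (L := fixedPoints E L) (⟨O, hO⟩ : fixedPoints E P)
    (⟨m, hm⟩ : fixedPoints E L) (⟨m, hm⟩ : fixedPoints E L)
  have ham : a ≠ (⟨m, hm⟩ : fixedPoints E L) := fun e => hOm (e ▸ hOa :)
  obtain ⟨x, hxa, hxm⟩ := exists_meet (P := fixedPoints E P) ham
  have hqp : q = p := by
    have hmod := modEq_fixed hE.2.1 {r : P | r ∈ (a : L)} fun t ht r hr =>
      (smul_mem_of_fix (mem_fixed_iff.1 a.2 t ht)).2 hr
    have hset : {r ∈ {r : P | r ∈ (a : L)} | ∀ t ∈ E, t • r = r} =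
        {r : P | r ∈ (a : L) ∧ r ∈ fixedPoints E P} :=
      Set.ext fun r => and_congr_right fun _ => mem_fixed_iff.symm
    rw [ncard_on, hset, ncard_fixed_on a, hfull.ord_eq, hn] at hmod
    have hk : k ≠ 0 := fun e => by
      have := one_lt_ord (P := P) (L := L)
      rw [hn, e, pow_zero] at this
      omega
    have h0 : q ^ j ≡ 0 [MOD p] :=
      (Nat.ModEq.add_right_cancel' 1 hmod).symm.trans (Nat.modEq_zero_iff_dvd.2 (dvd_pow_self p hk))
    exact (((Nat.prime_dvd_prime_iff_eq Fact.out hfull.prime).1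
      ((Fact.out : p.Prime).dvd_of_dvd_pow (Nat.modEq_zero_iff_dvd.1 h0))).symm)
  subst hqp
  obtain ⟨e, he, he1⟩ : ∃ e ∈ elCentre (Ind G P L E) x a, e ≠ 1 := by
    by_contra hall
    push Not at hall
    have := hfull.card x a hxa
    rw [Subgroup.card_eq_one.2 ((Subgroup.eq_bot_iff_forall _).2 hall)] at this
    have := one_lt_ord (P := fixedPoints E P) (L := fixedPoints E L)
    omega
  obtain ⟨g, hgn, hgO, hgm, hgp, r, hr, hgr⟩ :=
    exists_lift he1 (hfull.exponent a e he.1) (he.1.1 ⟨O, hO⟩ hOa) (he.2 ⟨m, hm⟩ hxm)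
  exact hgr (mem_fixed_iff.1 hr g (sylow_lift_mem hE hgn ⟨mem_stabilizer_iff.2 hgO, mem_stabilizer_iff.2 hgm⟩ hgp))

universe v w

theorem exists_perspectivity_aux (n : ℕ) : ∀ (G : Type (max v w)) (P : Type v) (L : Type w) [Group G] [MulAction G P]
    [MulAction G L] [Membership P L] [ProjectivePlane P L] [IsPlaneAction G P L] [Finite P] [Finite L] [Finite G],
    ord P L = n → TwoTrans G P → ∃ (g : G) (a : L), IsAxis g a ∧ g ≠ 1 := by
  induction n using Nat.strong_induction_on with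
  | _ n ih =>
    intro G P L _ _ _ _ _ _ _ _ _ hn h
    by_contra hall
    have hno : NoPersp G P L := fun g a ha => by_contra fun h1 => hall ⟨g, a, ha, h1⟩
    obtain ⟨p, k, hp, hk, O, m, hOm, hpK⟩ := exists_prime_data h hno
    haveI := Fact.mk hp
    obtain ⟨E, hE⟩ := exists_sylowIn (p := p) (stabilizer G O ⊓ stabilizer G m)
    have hE1 : E ≠ ⊥ := fun e => by
      have := hE.pow_dvd (i := 1) (by rwa [pow_one])
      rw [Subgroup.card_eq_one.2 e, pow_one] at this
      exact hp.not_dvd_one this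
    letI := fixedPlane (quad_sylow h hno hk hOm hE hE1)
    haveI := isPlaneAction_ind (P := P) (L := L) E
    have h2 := twoTrans_ind h hOm hE
    obtain ⟨x, a, hxa, hx1⟩ := ih _ (hn ▸ ord_fixed_lt hE1) (Ind G P L E) (fixedPoints E P) (fixedPoints E L) rfl h2
    obtain ⟨q, j, hfull⟩ := full_of_perspectivity h2 hxa hx1
    exact not_full_ind hk hOm hE hfull

/-- A finite plane with a two-transitive collineation group has all groups of elations full. -/
theorem exists_full {G : Type (max v w)} {P : Type v} {L : Type w} [Group G] [MulAction G P]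
    [MulAction G L] [Membership P L] [ProjectivePlane P L] [IsPlaneAction G P L] [Finite P] [Finite L] [Finite G]
    (h : TwoTrans G P) : ∃ p k, Full G P L p k := by
  obtain ⟨g, a, ha, hg⟩ := exists_perspectivity_aux.{v, w} _ G P L rfl h
  exact full_of_perspectivity h ha hg

end CfsgLib.OstromWagner
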