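import Cfsg.Agent.Lib.OstromWagner.Involution

/-!
# The subplane fixed by a subgroup and the group induced on it by the normaliser
-/

set_option autoImplicit false
set_option linter.unusedSectionVars false

namespace CfsgLib.OstromWagner

open Configuration MulAction

variable {G P L : Type*} [Group G] [MulAction G P] [MulAction G L] [Membership P L]

theorem mem_fixed_iff {X : Type*} [MulAction G X] {U : Subgroup G} {x : X} :
    x ∈ fixedPoints U X ↔ ∀ u ∈ U, u • x = x :=
  ⟨fun h u hu => h ⟨u, hu⟩, fun h u => h u u.2⟩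

instance instMembershipFixed (U : Subgroup G) : Membership (fixedPoints U P) (fixedPoints U L) :=
  ⟨fun l p => (p : P) ∈ (l : L)⟩

theorem mem_fixed_def {U : Subgroup G} (p : fixedPoints U P) (l : fixedPoints U L) : p ∈ l ↔ (p : P) ∈ (l : L) :=
  Iff.rfl

variable [ProjectivePlane P L] [IsPlaneAction G P L]

theorem fixed_join {U : Subgroup G} {p q : P} (hp : p ∈ fixedPoints U P) (hq : q ∈ fixedPoints U P) (hpq : p ≠ q)
    {l : L} (hpl : p ∈ l) (hql : q ∈ l) : l ∈ fixedPoints U L :=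
  mem_fixed_iff.2 fun u hu => smul_line_eq hpq (mem_fixed_iff.1 hp u hu) (mem_fixed_iff.1 hq u hu) hpl hql

theorem fixed_meet {U : Subgroup G} {l m : L} (hl : l ∈ fixedPoints U L) (hm : m ∈ fixedPoints U L) (hlm : l ≠ m)
    {p : P} (hpl : p ∈ l) (hpm : p ∈ m) : p ∈ fixedPoints U P :=
  mem_fixed_iff.2 fun u hu => smul_point_eq hlm (mem_fixed_iff.1 hl u hu) (mem_fixed_iff.1 hm u hu) hpl hpm

/-- The fixed subplane. -/
@[reducible] noncomputable def fixedPlane {U : Subgroup G} (hq : Quad L (fixedPoints U P)) :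
    ProjectivePlane (fixedPoints U P) (fixedPoints U L) where
  exists_point l := by
    obtain ⟨a, ha, b, hb, c, hc, d, hd, hab, hac, had, hbc, hbd, hcd, h⟩ := hq
    have := (h (l : L)).1
    by_cases h1 : a ∈ (l : L)
    · by_cases h2 : b ∈ (l : L)
      · exact ⟨⟨c, hc⟩, fun e => this ⟨h1, h2, e⟩⟩
      · exact ⟨⟨b, hb⟩, h2⟩
    · exact ⟨⟨a, ha⟩, h1⟩
  exists_line p := by
    obtain ⟨a, ha, b, hb, c, hc, d, hd, hab, hac, had, hbc, hbd, hcd, h⟩ := hq
    obtain ⟨l₁, ha₁, hb₁⟩ := exists_line (L := L) hab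
    obtain ⟨l₂, ha₂, hc₂⟩ := exists_line (L := L) hac
    obtain ⟨l₃, hb₃, hc₃⟩ := exists_line (L := L) hbc
    by_contra hall
    push Not at hall
    have h₁ : (p : P) ∈ l₁ := hall ⟨l₁, fixed_join ha hb hab ha₁ hb₁⟩
    have h₂ : (p : P) ∈ l₂ := hall ⟨l₂, fixed_join ha hc hac ha₂ hc₂⟩
    have h₃ : (p : P) ∈ l₃ := hall ⟨l₃, fixed_join hb hc hbc hb₃ hc₃⟩
    have hpa : (p : P) = a := point_eq (fun e : l₁ = l₂ => (h l₁).1 ⟨ha₁, hb₁, e ▸ hc₂⟩) h₁ h₂ ha₁ ha₂
    exact (h l₃).1 ⟨hpa ▸ h₃, hb₃, hc₃⟩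
  eq_or_eq {p₁ p₂ l₁ l₂} h₁ h₂ h₃ h₄ :=
    (Nondegenerate.eq_or_eq (P := P) (L := L) (p₁ := (p₁ : P)) (p₂ := (p₂ : P)) (l₁ := (l₁ : L)) (l₂ := (l₂ : L))
      h₁ h₂ h₃ h₄).imp Subtype.ext Subtype.ext
  mkPoint {l₁ l₂} h := ⟨HasPoints.mkPoint (fun e => h (Subtype.ext e) : (l₁ : L) ≠ l₂),
    fixed_meet l₁.2 l₂.2 (fun e => h (Subtype.ext e)) (HasPoints.mkPoint_ax _).1 (HasPoints.mkPoint_ax _).2⟩
  mkPoint_ax {l₁ l₂} h := HasPoints.mkPoint_ax (P := P) (L := L) (fun e => h (Subtype.ext e) : (l₁ : L) ≠ l₂)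
  mkLine {p₁ p₂} h := ⟨HasLines.mkLine (fun e => h (Subtype.ext e) : (p₁ : P) ≠ p₂),
    fixed_join p₁.2 p₂.2 (fun e => h (Subtype.ext e)) (HasLines.mkLine_ax _).1 (HasLines.mkLine_ax _).2⟩
  mkLine_ax {p₁ p₂} h := HasLines.mkLine_ax (P := P) (L := L) (fun e => h (Subtype.ext e) : (p₁ : P) ≠ p₂)
  exists_config := by
    obtain ⟨a, ha, b, hb, c, hc, d, hd, hab, hac, had, hbc, hbd, hcd, h⟩ := hq
    obtain ⟨l₁, ha₁, hd₁⟩ := exists_line (L := L) had
    obtain ⟨l₂, hb₂, hc₂⟩ := exists_line (L := L) hbc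
    obtain ⟨l₃, hb₃, hd₃⟩ := exists_line (L := L) hbd
    exact ⟨⟨a, ha⟩, ⟨b, hb⟩, ⟨c, hc⟩, ⟨l₁, fixed_join ha hd had ha₁ hd₁⟩, ⟨l₂, fixed_join hb hc hbc hb₂ hc₂⟩,
      ⟨l₃, fixed_join hb hd hbd hb₃ hd₃⟩, fun e => (h l₂).1 ⟨e, hb₂, hc₂⟩, fun e => (h l₃).2.1 ⟨e, hb₃, hd₃⟩,
      fun e => (h l₁).2.1 ⟨ha₁, e, hd₁⟩, hb₂, hb₃, fun e => (h l₁).2.2.1 ⟨ha₁, e, hd₁⟩, hc₂,
      fun e => (h l₃).2.2.2 ⟨hb₃, e, hd₃⟩⟩

variable [Finite P] [Finite L]

theorem exists_quad : Quad L (Set.univ : Set P) := by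
  obtain ⟨A, B, C, l₁, b, l₃, hAb, _, _, hBb, hB₃, _, hCb, hC₃⟩ := ProjectivePlane.exists_config (P := P) (L := L)
  have hABne : A ≠ B := fun e => hAb (e ▸ hBb)
  have hACne : A ≠ C := fun e => hAb (e ▸ hCb)
  obtain ⟨lAB, hA₁, hB₁⟩ := exists_line (L := L) (show A ≠ B from fun e => hAb (e ▸ hBb))
  obtain ⟨lAC, hA₂, hC₂⟩ := exists_line (L := L) (show A ≠ C from fun e => hAb (e ▸ hCb))
  obtain ⟨m, hAm, hm₁, hm₂⟩ := exists_through_ne_ne A lAB lAC
  obtain ⟨x, hxm, hxb⟩ := exists_meet (P := P) (show m ≠ b from fun e => hAb (e ▸ hAm))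
  obtain ⟨D, hDm, hDA, hDx⟩ := exists_on_ne_ne m A x
  have hBC : B ≠ C := by
    rintro rfl
    exact hC₃ hB₃
  have hDb : D ∉ b := fun h => hDx (point_eq (show m ≠ b from fun e => hAb (e ▸ hAm)) hDm h hxm hxb)
  have hD₁ : D ∉ lAB := fun h => hDA (point_eq hm₁ hDm h hAm hA₁)
  have hD₂ : D ∉ lAC := fun h => hDA (point_eq hm₂ hDm h hAm hA₂)
  refine ⟨A, trivial, B, trivial, C, trivial, D, trivial, fun e => hAb (e ▸ hBb), fun e => hAb (e ▸ hCb), hDA.symm,
    hBC, fun e => hDb (e ▸ hBb), fun e => hDb (e ▸ hCb), fun l => ⟨?_, ?_, ?_, ?_⟩⟩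
  · rintro ⟨h1, h2, h3⟩; exact hAb (line_eq hBC h2 h3 hBb hCb ▸ h1)
  · rintro ⟨h1, h2, h3⟩; exact hD₁ (line_eq hABne h1 h2 hA₁ hB₁ ▸ h3)
  · rintro ⟨h1, h2, h3⟩; exact hD₂ (line_eq hACne h1 h2 hA₂ hC₂ ▸ h3)
  · rintro ⟨h1, h2, h3⟩; exact hDb (line_eq hBC h1 h2 hBb hCb ▸ h3)

/-- A fixed subplane contains a quadrangle of the plane. -/
theorem quad_of_fixed (U : Subgroup G) [ProjectivePlane (fixedPoints U P) (fixedPoints U L)] :
    Quad L (fixedPoints U P) := by
  obtain ⟨a, -, b, -, c, -, d, -, hab, hac, had, hbc, hbd, hcd, h⟩ :=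
    exists_quad (P := fixedPoints U P) (L := fixedPoints U L)
  refine ⟨a, a.2, b, b.2, c, c.2, d, d.2, fun e => hab (Subtype.ext e), fun e => hac (Subtype.ext e),
    fun e => had (Subtype.ext e), fun e => hbc (Subtype.ext e), fun e => hbd (Subtype.ext e),
    fun e => hcd (Subtype.ext e), fun l => ⟨?_, ?_, ?_, ?_⟩⟩
  · rintro ⟨h1, h2, h3⟩
    exact (h ⟨l, fixed_join a.2 b.2 (fun e => hab (Subtype.ext e)) h1 h2⟩).1 ⟨h1, h2, h3⟩
  · rintro ⟨h1, h2, h3⟩
    exact (h ⟨l, fixed_join a.2 b.2 (fun e => hab (Subtype.ext e)) h1 h2⟩).2.1 ⟨h1, h2, h3⟩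
  · rintro ⟨h1, h2, h3⟩
    exact (h ⟨l, fixed_join a.2 c.2 (fun e => hac (Subtype.ext e)) h1 h2⟩).2.2.1 ⟨h1, h2, h3⟩
  · rintro ⟨h1, h2, h3⟩
    exact (h ⟨l, fixed_join b.2 c.2 (fun e => hbc (Subtype.ext e)) h1 h2⟩).2.2.2 ⟨h1, h2, h3⟩

theorem ncard_fixed_on {U : Subgroup G} [ProjectivePlane (fixedPoints U P) (fixedPoints U L)]
    (l : fixedPoints U L) :
    {p : P | p ∈ (l : L) ∧ p ∈ fixedPoints U P}.ncard = ord (fixedPoints U P) (fixedPoints U L) + 1 := by
  rw [← ncard_on l, ← Set.ncard_image_of_injective _ Subtype.val_injective]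
  congr 1
  ext p
  simp [mem_fixed_def, and_comm]

omit [IsPlaneAction G P L] in
theorem ncard_fixedPoints {U : Subgroup G} [ProjectivePlane (fixedPoints U P) (fixedPoints U L)] :
    (fixedPoints U P).ncard =
      ord (fixedPoints U P) (fixedPoints U L) ^ 2 + ord (fixedPoints U P) (fixedPoints U L) + 1 := by
  rw [← Nat.card_coe_set_eq, card_pts (L := fixedPoints U L)]

/-- A fixed subplane of a non-trivial subgroup is proper. -/
theorem ord_fixed_lt {U : Subgroup G} [ProjectivePlane (fixedPoints U P) (fixedPoints U L)] (hU : U ≠ ⊥) :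
    ord (fixedPoints U P) (fixedPoints U L) < ord P L := by
  have hle : ord (fixedPoints U P) (fixedPoints U L) ≤ ord P L := by
    obtain ⟨-, -, -, l, -⟩ := ProjectivePlane.exists_config (P := fixedPoints U P) (L := fixedPoints U L)
    have hsub : {p : P | p ∈ (l : L) ∧ p ∈ fixedPoints U P} ⊆ {p : P | p ∈ (l : L)} := fun p hp => hp.1
    have := Set.ncard_le_ncard hsub (Set.toFinite _)
    have e1 := ncard_fixed_on (P := P) (L := L) l
    have e2 := ncard_on (P := P) (l : L)
    omega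
  refine lt_of_le_of_ne hle fun e => hU ((Subgroup.eq_bot_iff_forall _).2 fun u hu => ?_)
  have hall : fixedPoints U P = Set.univ := Set.eq_of_subset_of_ncard_le (Set.subset_univ _)
    (by rw [Set.ncard_univ, card_pts (L := L), ncard_fixedPoints (L := L), e]) (Set.toFinite _)
  exact IsPlaneAction.eq_one (P := P) (L := L) u fun p =>
    mem_fixed_iff.1 (by rw [hall]; trivial : p ∈ fixedPoints U P) u hu

variable (G P L) in
/-- Elements preserving the set of fixed points of `U`. -/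
abbrev nrm (U : Subgroup G) : Subgroup G := Subgroup.normalizer (U : Set G)

omit [ProjectivePlane P L] [IsPlaneAction G P L] [Finite P] [Finite L] [Membership P L] [MulAction G L] in
theorem smul_fixed {X : Type*} [MulAction G X] {U : Subgroup G} {g : G} (hg : g ∈ nrm G U) {x : X}
    (hx : x ∈ fixedPoints U X) : g • x ∈ fixedPoints U X :=
  mem_fixed_iff.2 fun u hu => by
    have h1 : g⁻¹ * u * g ∈ U := (Subgroup.mem_normalizer_iff''.1 hg u).1 hu
    rw [← mul_smul, show u * g = g * (g⁻¹ * u * g) by group, mul_smul, mem_fixed_iff.1 hx _ h1]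

instance instMulActionFixed {X : Type*} [MulAction G X] (U : Subgroup G) :
    MulAction (nrm G U) (fixedPoints U X) where
  smul g x := ⟨(g : G) • (x : X), smul_fixed g.2 x.2⟩
  one_smul x := Subtype.ext (one_smul G (x : X))
  mul_smul g h x := Subtype.ext (mul_smul (g : G) (h : G) (x : X))

variable (G P L) in
/-- The homomorphism to the permutations of the fixed subplane. -/
def indMap (U : Subgroup G) : nrm G U →* Equiv.Perm (fixedPoints U P) × Equiv.Perm (fixedPoints U L) :=
  (MulAction.toPermHom _ _).prod (MulAction.toPermHom _ _)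

variable (G P L) in
/-- The group induced on the fixed subplane. -/
abbrev Ind (U : Subgroup G) : Type _ := (indMap G P L U).range

instance instMulActionIndP (U : Subgroup G) : MulAction (Ind G P L U) (fixedPoints U P) where
  smul g x := g.1.1 x
  one_smul _ := rfl
  mul_smul _ _ _ := rfl

instance instMulActionIndL (U : Subgroup G) : MulAction (Ind G P L U) (fixedPoints U L) where
  smul g x := g.1.2 x
  one_smul _ := rfl
  mul_smul _ _ _ := rfl

variable (P L) in
/-- The induced element. -/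
def toInd {U : Subgroup G} (g : nrm G U) : Ind G P L U := (indMap G P L U).rangeRestrict g

theorem toInd_surjective {U : Subgroup G} (x : Ind G P L U) : ∃ g : nrm G U, toInd P L g = x :=
  MonoidHom.rangeRestrict_surjective _ x

@[simp] theorem toInd_smul_pt {U : Subgroup G} (g : nrm G U) (x : fixedPoints U P) :
    ((toInd P L g • x : fixedPoints U P) : P) = (g : G) • (x : P) := rfl

@[simp] theorem toInd_smul_ln {U : Subgroup G} (g : nrm G U) (x : fixedPoints U L) :
    ((toInd P L g • x : fixedPoints U L) : L) = (g : G) • (x : L) := rfl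

theorem isPlaneAction_ind (U : Subgroup G) [ProjectivePlane (fixedPoints U P) (fixedPoints U L)] :
    IsPlaneAction (Ind G P L U) (fixedPoints U P) (fixedPoints U L) where
  smul_mem_smul x p l := by
    obtain ⟨g, rfl⟩ := toInd_surjective x
    rw [mem_fixed_def, mem_fixed_def, toInd_smul_pt, toInd_smul_ln, smul_mem_iff]
  eq_one x hx := by
    obtain ⟨g, rfl⟩ := toInd_surjective x
    have hp : ∀ p : fixedPoints U P, (g : G) • (p : P) = p := fun p => congrArg Subtype.val (hx p)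
    refine Subtype.ext (Prod.ext (Equiv.ext hx) (Equiv.ext fun l => Subtype.ext ?_))
    show (g : G) • (l : L) = l
    obtain ⟨p₀, -⟩ := Nondegenerate.exists_point (P := fixedPoints U P) l
    obtain ⟨p, hp', -, -⟩ := exists_on_ne_ne l p₀ p₀
    obtain ⟨q, hq', hqp, -⟩ := exists_on_ne_ne l p p
    exact smul_line_eq (fun e => hqp (Subtype.ext e)) (hp q) (hp p) hq' hp'

theorem toInd_eq_one_iff {U : Subgroup G} [ProjectivePlane (fixedPoints U P) (fixedPoints U L)] (g : nrm G U) :
    toInd P L g = 1 ↔ ∀ p ∈ fixedPoints U P, (g : G) • p = p := by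
  haveI := isPlaneAction_ind (P := P) (L := L) U
  constructor
  · intro h p hp
    have := toInd_smul_pt (P := P) (L := L) g ⟨p, hp⟩
    rw [h, one_smul] at this
    exact this.symm
  · intro h
    refine IsPlaneAction.eq_one (P := fixedPoints U P) (L := fixedPoints U L) _ fun p => Subtype.ext ?_
    rw [toInd_smul_pt, h p p.2]

theorem toInd_mul {U : Subgroup G} (g h : nrm G U) : toInd P L (g * h) = toInd P L g * toInd P L h :=
  map_mul _ g h

section Order

variable [Finite G]

open scoped Classical in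
/-- An involution fixing a quadrangle fixes a subplane whose order is a square root of the order of the plane. -/
theorem baer {g : G} (h2 : g * g = 1) (h1 : g ≠ 1)
    [ProjectivePlane (fixedPoints (Subgroup.zpowers g) P) (fixedPoints (Subgroup.zpowers g) L)] :
    ord P L = ord (fixedPoints (Subgroup.zpowers g) P) (fixedPoints (Subgroup.zpowers g) L) ^ 2 := by
  have hlt := ord_fixed_lt (P := P) (L := L) (U := Subgroup.zpowers g) (fun e => h1 ((Subgroup.zpowers_eq_bot).1 e))
  set m := ord (fixedPoints (Subgroup.zpowers g) P) (fixedPoints (Subgroup.zpowers g) L) with hm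
  set n := ord P L with hn
  have hfix' : ∀ x : P, g • x = x → x ∈ fixedPoints (Subgroup.zpowers g) P := fun x hx => mem_fixed_iff.2 fun u hu => by
    obtain ⟨k, rfl⟩ := Subgroup.mem_zpowers_iff.1 hu
    exact (stabilizer G x).zpow_mem (mem_stabilizer_iff.2 hx) k
  have hfixL : ∀ x : L, g • x = x → x ∈ fixedPoints (Subgroup.zpowers g) L := fun x hx => mem_fixed_iff.2 fun u hu => by
    obtain ⟨k, rfl⟩ := Subgroup.mem_zpowers_iff.1 hu
    exact (stabilizer G x).zpow_mem (mem_stabilizer_iff.2 hx) k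
  cases nonempty_fintype P
  cases nonempty_fintype L
  have hgg : ∀ p : P, g • g • p = p := fun p => by rw [← mul_smul, h2, one_smul]
  have key := Finset.sum_card_bipartiteAbove_eq_sum_card_bipartiteBelow
    (r := fun (p : P) (l : L) => p ∈ l) (s := Finset.univ) (t := (fixedPoints (Subgroup.zpowers g) L).toFinset)
  have hP : ∀ p : P, ((fixedPoints (Subgroup.zpowers g) L).toFinset.bipartiteAbove (fun p l => p ∈ l) p).card =
      1 + if p ∈ fixedPoints (Subgroup.zpowers g) P then m else 0 := fun p => by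
    rw [show (fixedPoints (Subgroup.zpowers g) L).toFinset.bipartiteAbove (fun p l => p ∈ l) p =
      {l : L | p ∈ l ∧ l ∈ fixedPoints (Subgroup.zpowers g) L}.toFinset by
        ext; simp [Finset.bipartiteAbove, and_comm], ← Set.ncard_eq_toFinset_card']
    split_ifs with hp
    · rw [add_comm, hm, ← ncard_through (⟨p, hp⟩ : fixedPoints (Subgroup.zpowers g) P),
        ← Set.ncard_image_of_injective _ Subtype.val_injective]
      congr 1
      ext l
      simp [mem_fixed_def, and_comm]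
    · have hgp : g • p ≠ p := fun e => hp (hfix' p e)
      obtain ⟨l, hpl, hgl⟩ := exists_line (L := L) (Ne.symm hgp)
      have hl : g • l = l := line_eq hgp ((smul_mem_iff g p l).2 hpl)
        (by have := (smul_mem_iff g (g • p) l).2 hgl; rwa [hgg] at this) hgl hpl
      rw [Nat.add_zero, Set.ncard_eq_one]
      refine ⟨l, Set.eq_singleton_iff_unique_mem.2 ⟨⟨hpl, hfixL l hl⟩, fun k hk => ?_⟩⟩
      by_contra hkl
      exact hp (fixed_meet hk.2 (hfixL l hl) hkl hk.1 hpl)
  have hL : ∀ l ∈ (fixedPoints (Subgroup.zpowers g) L).toFinset,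
      ((Finset.univ : Finset P).bipartiteBelow (fun p l => p ∈ l) l).card = n + 1 := fun l _ => by
    rw [show (Finset.univ : Finset P).bipartiteBelow (fun p l => p ∈ l) l = {p : P | p ∈ l}.toFinset by
        ext; simp [Finset.bipartiteBelow], ← Set.ncard_eq_toFinset_card', ncard_on]
  rw [Finset.sum_congr rfl fun p _ => hP p, Finset.sum_congr rfl hL, Finset.sum_add_distrib, ← Finset.sum_filter,
    Finset.sum_const, Finset.sum_const, Finset.sum_const, smul_eq_mul, smul_eq_mul, smul_eq_mul,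
    Finset.card_univ, ← Nat.card_eq_fintype_card, card_pts (L := L),
    show (Finset.univ.filter fun p : P => p ∈ fixedPoints (Subgroup.zpowers g) P) = (fixedPoints (Subgroup.zpowers g) P).toFinset by ext; simp,
    ← Set.ncard_eq_toFinset_card', ← Set.ncard_eq_toFinset_card', ncard_fixedPoints (L := L), ← hm, ← hn,
    ← Nat.card_coe_set_eq, card_lns (P := fixedPoints (Subgroup.zpowers g) P), ← hm] at key
  zify at key hlt ⊢
  have : ((n : ℤ) - m) * ((n : ℤ) - (m : ℤ) ^ 2) = 0 := by linear_combination key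
  rcases mul_eq_zero.1 this with h | h <;> linarith

/-- The order of a plane is a power of two power of the order of a subplane fixed by a two-group. -/
theorem ord_eq_pow : ∀ (U : Subgroup G), IsPGroup 2 U →
    ∀ [ProjectivePlane (fixedPoints U P) (fixedPoints U L)],
      ∃ k : ℕ, ord P L = ord (fixedPoints U P) (fixedPoints U L) ^ (2 ^ k) := by
  intro U
  induction hcard : Nat.card U using Nat.strong_induction_on generalizing U with | _ N ih => ?_
  intro hU hplane
  haveI : Fact (Nat.Prime 2) := ⟨Nat.prime_two⟩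
  obtain ⟨e, he⟩ := IsPGroup.iff_card.1 hU
  rcases e with - | e
  · have hbot : U = ⊥ := Subgroup.eq_bot_of_card_eq U (by rw [he, pow_zero])
    refine ⟨0, ?_⟩
    rw [pow_zero, pow_one]
    have h1 : (fixedPoints U P) = Set.univ := Set.eq_univ_of_forall fun p => mem_fixed_iff.2 fun u hu => by
      rw [hbot, Subgroup.mem_bot] at hu
      rw [hu, one_smul]
    have h2 := ncard_fixedPoints (L := L) (U := U) (P := P)
    rw [(congrArg Set.ncard h1).trans (Set.ncard_univ P), card_pts (L := L)] at h2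
    nlinarith
  obtain ⟨V, hV⟩ := Sylow.exists_subgroup_card_pow_prime (G := U) 2 (n := e)
    (by rw [he]; exact pow_dvd_pow 2 (Nat.le_succ e))
  have hidx : V.index = 2 := by
    have h := V.index_mul_card
    rw [hV, he, pow_succ'] at h
    exact Nat.eq_of_mul_eq_mul_right (pow_pos (by norm_num) e) h
  have hVn : V.Normal := Subgroup.normal_of_index_eq_two hidx
  set W := V.map U.subtype with hW
  have hWU : W ≤ U := fun x hx => by
    obtain ⟨y, -, rfl⟩ := hx
    exact y.2
  have hWc : Nat.card W = 2 ^ e := by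
    rw [hW, Subgroup.card_map_of_injective U.subtype_injective, hV]
  obtain ⟨g, hgU, hgW⟩ : ∃ g ∈ U, g ∉ W := by
    by_contra h
    push Not at h
    have := Subgroup.card_le_of_le h
    rw [hWc, he, pow_succ'] at this
    have := pow_pos (show 0 < 2 by norm_num) e
    omega
  have hgn : g ∈ nrm G W := Subgroup.mem_normalizer_iff''.2 fun x => by
    constructor
    · rintro ⟨y, hy, rfl⟩
      exact ⟨⟨g, hgU⟩⁻¹ * y * ⟨g, hgU⟩, hVn.conj_mem' y hy _, rfl⟩
    · rintro ⟨y, hy, hyx⟩
      refine ⟨⟨g, hgU⟩ * y * ⟨g, hgU⟩⁻¹, hVn.conj_mem y hy _, ?_⟩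
      show g * (y : G) * g⁻¹ = x
      rw [show (y : G) = g⁻¹ * x * g from hyx]
      group
  have hgg : g * g ∈ W := ⟨⟨g, hgU⟩ * ⟨g, hgU⟩, by
    have := Subgroup.mul_mem_iff_of_index_two hidx (a := ⟨g, hgU⟩) (b := ⟨g, hgU⟩)
    exact this.2 Iff.rfl, rfl⟩
  have hqW : Quad L (fixedPoints W P) := by
    obtain ⟨p₁, p₂, p₃, l₁, l₂, l₃, h⟩ := ProjectivePlane.exists_config (P := fixedPoints U P) (L := fixedPoints U L)
    haveI := hplane
    refine Quad.mono ?_ (fun p hp => mem_fixed_iff.2 fun u hu => mem_fixed_iff.1 hp u (hWU hu) : fixedPoints U P ⊆ _)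
    exact quad_of_fixed U
  letI := fixedPlane hqW
  obtain ⟨k, hk⟩ := @ih (Nat.card W) (by
    rw [← hcard, hWc, he, pow_succ']
    have := pow_pos (show 0 < 2 by norm_num) e
    omega) W rfl (hU.to_le hWU) this
  haveI := isPlaneAction_ind (P := P) (L := L) W
  set x := toInd P L (⟨g, hgn⟩ : nrm G W) with hx
  have hsub : ∀ p : P, p ∈ fixedPoints U P ↔ p ∈ fixedPoints W P ∧ g • p = p := fun p => by
    constructor
    · exact fun h => ⟨mem_fixed_iff.2 fun u hu => mem_fixed_iff.1 h u (hWU hu), mem_fixed_iff.1 h g hgU⟩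
    · rintro ⟨h1, h2⟩
      refine mem_fixed_iff.2 fun u hu => ?_
      have hle : U ≤ stabilizer G p := by
        have h3 : V ≤ (stabilizer G p).subgroupOf U := fun y hy =>
          mem_stabilizer_iff.2 (mem_fixed_iff.1 h1 y ⟨y, hy, rfl⟩)
        have h4 : (⟨g, hgU⟩ : U) ∈ (stabilizer G p).subgroupOf U := mem_stabilizer_iff.2 h2
        intro z hz
        by_cases hzV : (⟨z, hz⟩ : U) ∈ V
        · exact h3 hzV
        · have h5 : (⟨g, hgU⟩ : U)⁻¹ * ⟨z, hz⟩ ∈ V := by
            refine (Subgroup.mul_mem_iff_of_index_two hidx).2 ⟨fun h => ?_, fun h => absurd h hzV⟩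
            exact absurd ⟨_, (inv_mem_iff.1 h), rfl⟩ hgW
          have := mul_mem h4 (h3 h5)
          rwa [mul_inv_cancel_left] at this
      exact hle hu
  by_cases hx1 : x = 1
  · refine ⟨k, ?_⟩
    have heq : fixedPoints U P = fixedPoints W P := Set.ext fun p => by
      rw [hsub p]
      exact and_iff_left_of_imp fun h => (toInd_eq_one_iff _).1 hx1 p h
    have h3 := ncard_fixedPoints (L := L) (U := U) (P := P)
    have h4 := ncard_fixedPoints (L := L) (U := W) (P := P)
    rw [congrArg Set.ncard heq, h4] at h3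
    rw [hk, show ord (fixedPoints U P) (fixedPoints U L) = ord (fixedPoints W P) (fixedPoints W L) by nlinarith]
  · refine ⟨k + 1, ?_⟩
    have hxx : x * x = 1 := by
      rw [hx, ← toInd_mul, toInd_eq_one_iff]
      exact fun p hp => mem_fixed_iff.1 hp _ hgg
    have himg : Subtype.val '' fixedPoints (Subgroup.zpowers x) (fixedPoints W P) = fixedPoints U P := by
      ext p
      rw [hsub p]
      constructor
      · rintro ⟨y, hy, rfl⟩
        refine ⟨y.2, ?_⟩
        exact congrArg Subtype.val (mem_fixed_iff.1 hy x (Subgroup.mem_zpowers x))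
      · rintro ⟨h1, h2⟩
        refine ⟨⟨p, h1⟩, mem_fixed_iff.2 fun u hu => ?_, rfl⟩
        obtain ⟨i, rfl⟩ := Subgroup.mem_zpowers_iff.1 hu
        exact (stabilizer (Ind G P L W) (⟨p, h1⟩ : fixedPoints W P)).zpow_mem
          (mem_stabilizer_iff.2 (Subtype.ext h2)) i
    have hq : Quad (fixedPoints W L) (fixedPoints (Subgroup.zpowers x) (fixedPoints W P)) := by
      obtain ⟨a, ha, b, hb, c, hc, d, hd, hab, hac, had, hbc, hbd, hcd, h⟩ := quad_of_fixed (P := P) (L := L) U
      obtain ⟨a, ha', rfl⟩ := himg ▸ ha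
      obtain ⟨b, hb', rfl⟩ := himg ▸ hb
      obtain ⟨c, hc', rfl⟩ := himg ▸ hc
      obtain ⟨d, hd', rfl⟩ := himg ▸ hd
      exact ⟨a, ha', b, hb', c, hc', d, hd', fun e => hab (congrArg _ e), fun e => hac (congrArg _ e),
        fun e => had (congrArg _ e), fun e => hbc (congrArg _ e), fun e => hbd (congrArg _ e),
        fun e => hcd (congrArg _ e), fun l => h (l : L)⟩
    letI := fixedPlane hq
    have h5 := baer (G := Ind G P L W) (P := fixedPoints W P) (L := fixedPoints W L) hxx hx1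
    have h6 := ncard_fixedPoints (U := Subgroup.zpowers x) (P := fixedPoints W P) (L := fixedPoints W L)
    have h7 := ncard_fixedPoints (U := U) (P := P) (L := L)
    rw [← Set.ncard_image_of_injective _ Subtype.val_injective, himg, h7] at h6
    rw [hk, h5, ← pow_mul, show 2 * 2 ^ k = 2 ^ (k + 1) by ring]
    congr 1
    nlinarith

end Order

end CfsgLib.OstromWagner
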