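import Cfsg.Agent.Lib.OstromWagner.Parity

/-!
# Involutory homologies
-/

set_option autoImplicit false
set_option linter.unusedSectionVars false

namespace CfsgLib.OstromWagner

open Configuration MulAction

section General

variable {G X : Type*} [Group G] [MulAction G X]

theorem ncard_orbit_dvd [Finite G] [Finite X] (H : Subgroup G) (S : Set X) (hinv : ∀ h ∈ H, ∀ x ∈ S, h • x ∈ S)
    (hstab : ∀ x ∈ S, ∀ y ∈ S, ∀ h ∈ H, h • x = x → h • y = y) {x₀ : X} (hx₀ : x₀ ∈ S) :
    (orbit H x₀).ncard ∣ S.ncard ∧ (orbit H x₀).ncard ∣ Nat.card H := by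
  classical
  have hc : (orbit H x₀).ncard = (stabilizer H x₀).index := by
    rw [← Nat.card_coe_set_eq, Nat.card_congr (orbitEquivQuotientStabilizer H x₀), Subgroup.index]
  refine ⟨?_, hc ▸ Subgroup.index_dvd_card _⟩
  letI : MulAction H S :=
    { smul := fun h x => ⟨(h : G) • (x : X), hinv h h.2 x x.2⟩
      one_smul := fun x => Subtype.ext (one_smul G (x : X))
      mul_smul := fun g h x => Subtype.ext (mul_smul (g : G) (h : G) (x : X)) }
  cases nonempty_fintype (orbitRel.Quotient H S)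
  rw [hc, ← Nat.card_coe_set_eq, Nat.card_congr (selfEquivSigmaOrbitsQuotientStabilizer H S), Nat.card_sigma]
  refine Finset.dvd_sum fun ω _ => dvd_of_eq ?_
  rw [← Subgroup.index]
  congr 1
  ext h
  refine ⟨fun hh => mem_stabilizer_iff.2 (Subtype.ext ?_), fun hh => mem_stabilizer_iff.2 ?_⟩
  · exact hstab x₀ hx₀ ω.out ω.out.2 h h.2 (mem_stabilizer_iff.1 hh)
  · exact hstab ω.out ω.out.2 x₀ hx₀ h h.2 (congrArg Subtype.val (mem_stabilizer_iff.1 hh))

end General

variable {G P L : Type*} [Group G] [MulAction G P] [MulAction G L] [Membership P L]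

/-- An involutory homology. -/
def IsHom (h : G) (C : P) (a : L) : Prop := h * h = 1 ∧ h ≠ 1 ∧ IsAxis h a ∧ IsCentre L h C ∧ C ∉ a

variable [ProjectivePlane P L]

variable (G) in
/-- `a` is the axis of an involutory homology with centre `C`. -/
def Hom (C : P) (a : L) : Prop := ∃ h : G, IsHom h C a

variable (G P L) in
/-- Every pair of points and every pair of lines is fixed by an involution, and involutions are homologies. -/
structure HomSetting : Prop where
  odd : Odd (ProjectivePlane.order P L)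
  pts : ∀ p q : P, p ≠ q → ∃ h : G, h * h = 1 ∧ h ≠ 1 ∧ h • p = p ∧ h • q = q
  lns : ∀ l m : L, l ≠ m → ∃ h : G, h * h = 1 ∧ h ≠ 1 ∧ h • l = l ∧ h • m = m
  inv : ∀ h : G, h * h = 1 → h ≠ 1 → ∃ (C : P) (a : L), IsAxis h a ∧ IsCentre L h C ∧ C ∉ a

variable (G P L) in
/-- The order is a power of a prime `p` and there is an elation of order `p`. -/
def Goal : Prop :=
  ∃ p c : ℕ, p.Prime ∧ ProjectivePlane.order P L = p ^ c ∧ ∃ (a : L) (e : G), IsElation e a ∧ e ≠ 1 ∧ e ^ p = 1

variable [IsPlaneAction G P L] [Finite P] [Finite L]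

theorem IsHom.smul_centre {h : G} {C : P} {a : L} (hh : IsHom h C a) : h • C = C := hh.2.2.2.1.smul_centre

theorem IsHom.smul_axis {h : G} {C : P} {a : L} (hh : IsHom h C a) : h • a = a := hh.2.2.1.smul_axis

theorem IsHom.fix_pt {h : G} {C p : P} {a : L} (hh : IsHom h C a) (hp : h • p = p) : p ∈ a ∨ p = C :=
  hh.2.2.1.mem_of_fix hh.2.2.2.1 hh.2.1 hp

theorem IsHom.fix_ln {h : G} {C : P} {a l : L} (hh : IsHom h C a) (hl : h • l = l) : C ∈ l ∨ l = a :=
  hh.2.2.1.mem_of_fix_line hh.2.2.2.1 hh.2.1 hl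

theorem IsHom.dual {h : G} {C : P} {a : L} (hh : IsHom h C a) :
    IsHom (P := Configuration.Dual L) (L := Configuration.Dual P) h a C :=
  ⟨hh.1, hh.2.1, hh.2.2.2.1, hh.2.2.1, hh.2.2.2.2⟩

theorem IsHom.conj {h : G} {C : P} {a : L} (hh : IsHom h C a) (g : G) : IsHom (g * h * g⁻¹) (g • C) (g • a) :=
  ⟨by rw [show g * h * g⁻¹ * (g * h * g⁻¹) = g * (h * h) * g⁻¹ by group, hh.1, mul_one, mul_inv_cancel],
    fun e => hh.2.1 (conj_eq_one_iff.1 e), hh.2.2.1.conj g, hh.2.2.2.1.conj g,
    fun e => hh.2.2.2.2 ((smul_mem_iff g C a).1 e)⟩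

theorem Hom.conj {C : P} {a : L} (hh : Hom G C a) (g : G) : Hom G (g • C) (g • a) :=
  let ⟨_, h⟩ := hh
  ⟨_, h.conj g⟩

theorem HomSetting.dual (hs : HomSetting G P L) :
    HomSetting G (Configuration.Dual L) (Configuration.Dual P) where
  odd := by
    have h := hs.odd
    rwa [← ProjectivePlane.Dual.order P L] at h
  pts := hs.lns
  lns := hs.pts
  inv h h2 h1 := by
    obtain ⟨C, a, ha, hC, hCa⟩ := hs.inv h h2 h1
    exact ⟨a, C, show IsCentre L h C from hC, show IsAxis h a from ha, show C ∉ a from hCa⟩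

theorem dual_elation {e : G} {x : P} (he : IsElation (P := Configuration.Dual L) (L := Configuration.Dual P) e x)
    (h1 : e ≠ 1) : ∃ a : L, x ∈ a ∧ IsElation e a := by
  obtain ⟨a, ha⟩ : ∃ a : L, IsAxis e a :=
    IsAxis.exists_centre (P := Configuration.Dual L) (L := Configuration.Dual P) he.1
  have hxa : x ∈ a := IsElation.centre_mem (P := Configuration.Dual L) (L := Configuration.Dual P) he ha h1
  exact ⟨a, hxa, isElation_of_centre_mem ha he.1 hxa⟩

theorem Goal.of_dual (h : Goal G (Configuration.Dual L) (Configuration.Dual P)) : Goal G P L := by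
  obtain ⟨p, c, hp, hc, x, e, he, h1, hpow⟩ := h
  obtain ⟨a, -, ha⟩ := dual_elation (P := P) (L := L) he h1
  exact ⟨p, c, hp, by rw [← hc, ProjectivePlane.Dual.order], a, e, ha, h1, hpow⟩

theorem Hom.mem_or (hs : HomSetting G P L) {p q : P} {m : L} (hpq : p ≠ q) (hpm : p ∈ m) (hqm : q ∈ m) :
    (∃ C : P, Hom G C m) ∨ (∃ b : L, Hom G p b ∧ q ∈ b) ∨ ∃ b : L, Hom G q b ∧ p ∈ b := by
  obtain ⟨h, h2, h1, hp, hq⟩ := hs.pts p q hpq
  obtain ⟨C, a, ha, hC, hCa⟩ := hs.inv h h2 h1
  have hh : IsHom h C a := ⟨h2, h1, ha, hC, hCa⟩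
  rcases hh.fix_pt hp with hpa | rfl
  · rcases hh.fix_pt hq with hqa | rfl
    · exact Or.inl ⟨C, h, line_eq hpq hpm hqm hpa hqa ▸ hh⟩
    · exact Or.inr (Or.inr ⟨a, ⟨h, hh⟩, hpa⟩)
  · rcases hh.fix_pt hq with hqa | rfl
    · exact Or.inr (Or.inl ⟨a, ⟨h, hh⟩, hqa⟩)
    · exact absurd rfl hpq

variable [Finite G]

theorem Hom.comm {C : P} {a : L} (hh : Hom G C a) {e f : G} (he : e ∈ elGroup G a) (hf : f ∈ elGroup G a) :
    e * f = f * e :=
  let ⟨_, h⟩ := hh
  comm_of_involution h.2.2.2.2 h.2.2.1 h.1 h.2.1 h.smul_centre he hf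

/-- An involution fixing centre and axis commutes with some involutory homology having them. -/
theorem Hom.exists_comm {C : P} {a : L} (hh : Hom G C a) {k : G} (hk : k * k = 1) (hkC : k • C = C)
    (hka : k • a = a) : ∃ x : G, IsHom x C a ∧ k * x = x * k := by
  classical
  haveI : Finite (ConjAct G) := Finite.of_equiv G ConjAct.toConjAct.toEquiv
  obtain ⟨h, hh⟩ := hh
  let K : Subgroup G := axisGroup G a ⊓ centreGroup G L C
  have hhK : h ∈ K := ⟨hh.2.2.1, hh.2.2.2.1⟩
  have hsq : Odd {x : G | IsHom x C a}.ncard := by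
    have hK2 : 2 ∣ Nat.card K := by
      have := orderOf_dvd_natCard (⟨h, hhK⟩ : K)
      rwa [Subgroup.orderOf_mk, orderOf_eq_prime (p := 2) (by rw [pow_two, hh.1]) hh.2.1] at this
    have hpar := odd_iff_fixed (G := Equiv.Perm K) (X := K) (g := Equiv.inv K) (S := Set.univ)
      (Equiv.ext fun x => inv_inv x) fun _ _ => trivial
    rw [Set.ncard_univ] at hpar
    have hset : {x : K | x ∈ (Set.univ : Set K) ∧ Equiv.inv K • x = x} =
        (Subtype.val ⁻¹' insert (1 : G) {x : G | IsHom x C a}) := by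
      ext x
      simp only [Set.mem_univ, true_and, Set.mem_ofPred_eq, Equiv.Perm.smul_def, Equiv.inv_apply,
        Set.mem_preimage, Set.mem_insert_iff]
      constructor
      · intro hx
        by_cases hx1 : (x : G) = 1
        · exact Or.inl hx1
        · refine Or.inr ⟨?_, hx1, x.2.1, x.2.2, hh.2.2.2.2⟩
          have := congrArg Subtype.val (inv_eq_iff_mul_eq_one.1 hx)
          simpa using this
      · intro hx
        refine inv_eq_iff_mul_eq_one.2 (Subtype.ext ?_)
        rcases hx with hx | hx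
        · simp [hx]
        · simpa using hx.1
    rw [hset, Set.ncard_preimage_of_injective_subset_range Subtype.val_injective, Set.ncard_insert_of_notMem,
      Nat.odd_add_one] at hpar
    · by_contra hne
      have := Nat.odd_iff.1 (hpar.2 hne)
      omega
    · exact fun e => e.2.1 rfl
    · intro x hx
      rw [Subtype.range_coe_subtype]
      rcases hx with rfl | hx
      · exact K.one_mem
      · exact ⟨hx.2.2.1, hx.2.2.2.1⟩
  obtain ⟨x, hx, hfix⟩ := exists_fixed_of_odd (G := ConjAct G) (X := G) (g := ConjAct.toConjAct k)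
    (by rw [← map_mul, hk, map_one]) (S := {x : G | IsHom x C a}) (fun x hx => by
      rw [ConjAct.toConjAct_smul]
      have := IsHom.conj hx k
      rwa [hkC, hka] at this) hsq
  refine ⟨x, hx, ?_⟩
  rw [ConjAct.toConjAct_smul] at hfix
  exact mul_inv_eq_iff_eq_mul.1 hfix

/-- Two commuting homologies, each centre on the other axis, give a third. -/
theorem IsHom.mul (hs : HomSetting G P L) {h k : G} {p r z : P} {b c m : L} (hh : IsHom h p b) (hk : IsHom k r c)
    (hpc : p ∈ c) (hrb : r ∈ b) (hcomm : h * k = k * h) (hzb : z ∈ b) (hzc : z ∈ c) (hpm : p ∈ m) (hrm : r ∈ m) :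
    IsHom (h * k) z m := by
  have hne : h * k ≠ 1 := fun e => by
    have hkh : k = h := (eq_inv_of_mul_eq_one_right e).trans (inv_eq_of_mul_eq_one_right hh.1)
    have := (hkh ▸ hk.2.2.2.1).unique hh.2.2.2.1 hh.2.1
    exact hh.2.2.2.2 (this ▸ hrb)
  have h2 : h * k * (h * k) = 1 := by
    calc h * k * (h * k) = h * k * (k * h) := by rw [← hcomm]
      _ = h * (k * k) * h := by group
      _ = 1 := by rw [hk.1, mul_one, hh.1]
  obtain ⟨c', a, ha, hc', hca⟩ := hs.inv _ h2 hne
  have hg : IsHom (h * k) c' a := ⟨h2, hne, ha, hc', hca⟩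
  have hkz : k • z = z := hk.2.2.1 z hzc
  have hgp : (h * k) • p = p := by rw [mul_smul, hk.2.2.1 p hpc, hh.smul_centre]
  have hgr : (h * k) • r = r := by rw [mul_smul, hk.smul_centre, hh.2.2.1 r hrb]
  have hgz : (h * k) • z = z := by rw [mul_smul, hkz, hh.2.2.1 z hzb]
  have hpr : p ≠ r := fun e => hh.2.2.2.2 (e ▸ hrb)
  have hzp : z ≠ p := fun e => hh.2.2.2.2 (e ▸ hzb)
  have hzr : z ≠ r := fun e => hk.2.2.2.2 (e ▸ hzc)
  have hbc : b ≠ c := fun e => hh.2.2.2.2 (e ▸ hpc)
  have hab : a ≠ b := fun e => by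
    obtain ⟨x, hxb, hxr, hxz⟩ := exists_on_ne_ne b r z
    have hkx : k • x ∈ b := (smul_mem_of_fix (hk.2.2.2.1 b hrb)).2 hxb
    have hfix : k • x = x := by
      have := ha x (e ▸ hxb)
      rwa [mul_smul, hh.2.2.1 _ hkx] at this
    rcases hk.fix_pt hfix with h' | h'
    · exact hxz (point_eq hbc hxb h' hzb hzc)
    · exact hxr h'
  have hac : a ≠ c := fun e => by
    obtain ⟨x, hxc, hxp, hxz⟩ := exists_on_ne_ne c p z
    have hfix : h • x = x := by
      have := ha x (e ▸ hxc)
      rwa [mul_smul, hk.2.2.1 x hxc] at this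
    rcases hh.fix_pt hfix with h' | h'
    · exact hxz (point_eq hbc h' hxc hzb hzc)
    · exact hxp h'
  have hza : z ∉ a := fun hza => by
    rcases hg.fix_pt hgp with h' | h'
    · exact hac (line_eq hzp hza h' hzc hpc)
    rcases hg.fix_pt hgr with h'' | h''
    · exact hab (line_eq hzr hza h'' hzb hrb)
    · exact hpr (h'.trans h''.symm)
  have hzc' : z = c' := (hg.fix_pt hgz).resolve_left hza
  have hpa : p ∈ a := (hg.fix_pt hgp).resolve_right fun e => hzp (hzc'.trans e.symm)
  have hra : r ∈ a := (hg.fix_pt hgr).resolve_right fun e => hzr (hzc'.trans e.symm)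
  exact hzc'.symm ▸ (line_eq hpr hpa hra hpm hrm ▸ hg)

end CfsgLib.OstromWagner
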