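import Cfsg.Agent.Lib.OstromWagner.HomBasic

/-!
# A line that is not the axis of an involutory homology
-/

set_option autoImplicit false
set_option linter.unusedSectionVars false

namespace CfsgLib.OstromWagner

open Configuration MulAction

variable {G P L : Type*} [Group G] [MulAction G P] [MulAction G L] [Membership P L] [ProjectivePlane P L]
  [IsPlaneAction G P L] [Finite P] [Finite L] [Finite G]

/-- The group of elations with centre `x`. -/
abbrev cenElGroup (G : Type*) {P : Type*} (L : Type*) [Group G] [MulAction G P] [MulAction G L] [Membership P L]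
    [ProjectivePlane P L] [IsPlaneAction G P L] [Finite P] [Finite L] (x : P) : Subgroup G :=
  elGroup G (P := Configuration.Dual L) (L := Configuration.Dual P) x

omit [Finite G] in
theorem cenEl_isCentre {e : G} {x : P} (he : e ∈ cenElGroup G L x) : IsCentre L e x := he.1

omit [Finite G] in
theorem cenEl_mem_of_fix {e : G} {x q : P} {m : L} (he : e ∈ cenElGroup G L x) (hxm : x ∈ m) (hqm : q ∈ m)
    (hqx : q ≠ x) (hfix : e • q = q) : IsAxis e m := by
  by_cases h1 : e = 1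
  · exact h1 ▸ isAxis_one m
  obtain ⟨a, hxa, ha⟩ := dual_elation he h1
  rcases ha.1.mem_of_fix (cenEl_isCentre he) h1 hfix with h | h
  · exact line_eq hqx hqm hxm h hxa ▸ ha.1
  · exact absurd h hqx

theorem cenEl_exists_smul {x : P} {b b' : L} (hb : Hom G x b) (hb' : Hom G x b') :
    ∃ e ∈ cenElGroup G L x, e • b = b' := by
  obtain ⟨h, hh⟩ := hb
  obtain ⟨k, hk⟩ := hb'
  exact exists_elation_smul (P := Configuration.Dual L) (L := Configuration.Dual P) hh.2.2.2.2 hk.2.2.2.2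
    hh.2.2.2.1 hh.2.1 hh.smul_axis hk.2.2.2.1 hk.2.1 hk.smul_axis

theorem cenEl_comm {x : P} {b : L} (hb : Hom G x b) :
    ∀ e ∈ cenElGroup G L x, ∀ f ∈ cenElGroup G L x, e * f = f * e := fun e he f hf =>
  let ⟨h, hh⟩ := hb
  Hom.comm (P := Configuration.Dual L) (L := Configuration.Dual P) (C := b) (a := x) ⟨h, hh.dual⟩ he hf

omit [Finite G] in
theorem cenEl_smul_on {e : G} {x q : P} {m : L} (he : e ∈ cenElGroup G L x) (hxm : x ∈ m)
    (hq : q ∈ m ∧ q ≠ x) : e • q ∈ m ∧ e • q ≠ x :=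
  ⟨(smul_mem_of_fix (cenEl_isCentre he m hxm)).2 hq.1,
    fun e' => hq.2 (smul_left_cancel e (e'.trans (cenEl_isCentre he).smul_centre.symm))⟩

theorem cenEl_orbit_dvd {x q : P} {m : L} (hxm : x ∈ m) (hqm : q ∈ m) (hqx : q ≠ x) :
    (orbit (cenElGroup G L x) q).ncard ∣ ProjectivePlane.order P L ∧
      (orbit (cenElGroup G L x) q).ncard ∣ Nat.card (cenElGroup G L x) := by
  have h := ncard_orbit_dvd (cenElGroup G L x) {r : P | r ∈ m ∧ r ≠ x}
    (fun e he r hr => cenEl_smul_on he hxm hr)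
    (fun r hr s hs e he hfix => cenEl_mem_of_fix he hxm hr.1 hr.2 hfix s hs.1) (x₀ := q) ⟨hqm, hqx⟩
  rwa [ncard_on_ne m hxm] at h

/-- Two elations with one centre and different axes give the prime. -/
theorem goal_of_two_axes {x q : P} {m b : L} (hb : Hom G x b) (hxm : x ∈ m) (hqm : q ∈ m) (hqx : q ≠ x)
    (hfull : (orbit (cenElGroup G L x) q).ncard = ProjectivePlane.order P L)
    {e f : G} (he : e ∈ cenElGroup G L x) (hf : f ∈ cenElGroup G L x) (h1 : e ≠ 1) (hf1 : f ≠ 1) {a c : L}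
    (ha : IsAxis e a) (hc : IsAxis f c) (hac : a ≠ c) : Goal G P L := by
  obtain ⟨p, hp, hexp⟩ := exists_prime_exponent (P := Configuration.Dual L) (L := Configuration.Dual P)
    (cenEl_comm hb) he hf h1 hf1 (x := a) (y := c) ha hc hac
  haveI : Fact p.Prime := ⟨hp⟩
  obtain ⟨j, hj⟩ := IsPGroup.iff_card.1 (fun z : cenElGroup G L x =>
    ⟨1, Subtype.ext (by rw [pow_one]; exact hexp z z.2)⟩ : IsPGroup p (cenElGroup G L x))
  have hd := (cenEl_orbit_dvd (G := G) hxm hqm hqx).2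
  rw [hfull, hj] at hd
  obtain ⟨c', -, hc'⟩ := (Nat.dvd_prime_pow hp).1 hd
  obtain ⟨a', -, ha'⟩ := dual_elation he h1
  exact ⟨p, c', hp, hc', a', e, ha', h1, hexp e he⟩

variable {m : L} (hs : HomSetting G P L) (hm : ∀ C : P, ¬ Hom G C m)

include hs hm

theorem pair_on {x y : P} (hxy : x ≠ y) (hx : x ∈ m) (hy : y ∈ m) :
    (∃ b : L, Hom G x b ∧ y ∈ b) ∨ ∃ b : L, Hom G y b ∧ x ∈ b :=
  (Hom.mem_or hs hxy hx hy).resolve_left fun ⟨C, hC⟩ => hm C hC

theorem exists_inv_fixing {x y : P} (hxy : x ≠ y) (hx : x ∈ m) (hy : y ∈ m) :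
    ∃ h : G, h * h = 1 ∧ h • m = m ∧ h • x = x ∧ h • y = y ∧ ∀ z : P, z ∈ m → h • z = z → z = x ∨ z = y := by
  have key : ∀ x y : P, x ≠ y → x ∈ m → y ∈ m → ∀ b : L, Hom G x b → y ∈ b →
      ∃ h : G, h * h = 1 ∧ h • m = m ∧ h • x = x ∧ h • y = y ∧ ∀ z : P, z ∈ m → h • z = z → z = x ∨ z = y := by
    rintro x y hxy hx hy b ⟨h, hh⟩ hyb
    refine ⟨h, hh.1, hh.2.2.2.1 m hx, hh.smul_centre, hh.2.2.1 y hyb, fun z hz hfix => ?_⟩
    rcases hh.fix_pt hfix with h' | h'
    · exact Or.inr (point_eq (show m ≠ b from fun e => hh.2.2.2.2 (e ▸ hx)) hz h' hy hyb)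
    · exact Or.inl h'
  rcases pair_on hs hm hxy hx hy with ⟨b, hb, hyb⟩ | ⟨b, hb, hxb⟩
  · exact key x y hxy hx hy b hb hyb
  · obtain ⟨h, h1, h2, h3, h4, h5⟩ := key y x hxy.symm hy hx b hb hxb
    exact ⟨h, h1, h2, h4, h3, fun z hz hfix => (h5 z hz hfix).symm⟩

theorem transitive_on {x y : P} (hx : x ∈ m) (hy : y ∈ m) : ∃ g : G, g • m = m ∧ g • x = y := by
  by_cases hO : y ∈ orbit (stabilizer G m) x
  · obtain ⟨g, hg⟩ := hO
    exact ⟨g, mem_stabilizer_iff.1 g.2, hg⟩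
  exfalso
  set O := orbit (stabilizer G m) x with hOdef
  have hOm : ∀ z ∈ O, z ∈ m := by
    rintro _ ⟨g, rfl⟩
    exact (smul_mem_of_fix (g := (g : G)) (mem_stabilizer_iff.1 g.2)).2 hx
  have hinv : ∀ h : G, h • m = m → ∀ z ∈ O, h • z ∈ O := by
    rintro h hh _ ⟨g, rfl⟩
    exact ⟨⟨h, mem_stabilizer_iff.2 hh⟩ * g, mul_smul (h : G) (g : G) x⟩
  have hxy : x ≠ y := fun e => hO (e ▸ mem_orbit_self x)
  have hodd : Odd O.ncard := by
    obtain ⟨h, h2, hhm, hhx, -, honly⟩ := exists_inv_fixing hs hm hxy hx hy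
    refine (odd_iff_fixed h2 (hinv h hhm)).2 ?_
    rw [show {z ∈ O | h • z = z} = {x} from Set.eq_singleton_iff_unique_mem.2 ⟨⟨mem_orbit_self x, hhx⟩,
      fun z hz => (honly z (hOm z hz.1) hz.2).resolve_right fun e => hO (e ▸ hz.1)⟩, Set.ncard_singleton]
    exact odd_one
  have hsingle : O = {x} := by
    refine Set.eq_singleton_iff_unique_mem.2 ⟨mem_orbit_self x, fun x' hx' => by_contra fun hne => ?_⟩
    obtain ⟨h, h2, hhm, hhx, hhx', honly⟩ := exists_inv_fixing hs hm (Ne.symm hne) hx (hOm x' hx')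
    have h' := (odd_iff_fixed h2 (hinv h hhm)).1 hodd
    rw [show {z ∈ O | h • z = z} = {x, x'} from Set.ext fun z => ⟨fun hz => honly z (hOm z hz.1) hz.2, by
      rintro (rfl | rfl)
      exacts [⟨mem_orbit_self _, hhx⟩, ⟨hx', hhx'⟩]⟩, Set.ncard_pair (Ne.symm hne)] at h'
    exact absurd h' (by decide)
  obtain ⟨z, hzm, hzx, hzy⟩ := exists_on_ne_ne m x y
  obtain ⟨h, h2, hhm, -, -, honly⟩ := exists_inv_fixing hs hm hzy.symm hy hzm
  have hfix : h • x = x := by
    have := hinv h hhm x (mem_orbit_self x)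
    rwa [hsingle, Set.mem_singleton_iff] at this
  rcases honly x hx hfix with e | e
  · exact hxy e
  · exact hzx e.symm

theorem exists_axis_through {x q : P} (hx : x ∈ m) (hq : q ∈ m) (hqx : q ≠ x) :
    (∃ b : L, Hom G x b ∧ q ∈ b) ∧ (orbit (cenElGroup G L x) q).ncard = ProjectivePlane.order P L := by
  classical
  cases nonempty_fintype P
  let A : P → Finset P := fun p => Finset.univ.filter fun r => r ∈ m ∧ r ≠ p ∧ ∃ b : L, Hom G p b ∧ r ∈ b
  let M : Finset P := ({p : P | p ∈ m} : Set P).toFinset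
  have hA : ∀ p ∈ M, (A p).card = (A x).card := fun p hp => by
    obtain ⟨g, hgm, hgx⟩ := transitive_on hs hm hx (Set.mem_toFinset.1 hp)
    symm
    refine Finset.card_bij' (fun r _ => g • r) (fun r _ => g⁻¹ • r) ?_ ?_ (fun r _ => inv_smul_smul g r)
      (fun r _ => smul_inv_smul g r)
    · intro r hr
      simp only [A, Finset.mem_filter, Finset.mem_univ, true_and] at hr ⊢
      obtain ⟨hrm, hrx, b, hb, hrb⟩ := hr
      exact ⟨(smul_mem_of_fix hgm).2 hrm, fun e => hrx (smul_left_cancel g (e.trans hgx.symm)), g • b,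
        hgx ▸ hb.conj g, (smul_mem_iff g r b).2 hrb⟩
    · intro r hr
      simp only [A, Finset.mem_filter, Finset.mem_univ, true_and] at hr ⊢
      obtain ⟨hrm, hrp, b, hb, hrb⟩ := hr
      exact ⟨(smul_mem_of_fix (inv_smul_eq_iff.2 hgm.symm)).2 hrm,
        fun e => hrp (by rw [← hgx, ← e, smul_inv_smul]), g⁻¹ • b,
        (show g⁻¹ • p = x by rw [← hgx, inv_smul_smul]) ▸ hb.conj g⁻¹, (smul_mem_iff g⁻¹ r b).2 hrb⟩
  let R : Finset (P × P) := (M ×ˢ Finset.univ).filter fun pr => pr.2 ∈ A pr.1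
  have hR : R.card = (ProjectivePlane.order P L + 1) * (A x).card := by
    have : R.card = ∑ p ∈ M, (A p).card := by
      rw [Finset.card_eq_sum_card_fiberwise (f := Prod.fst) (t := M) fun pr h =>
        (Finset.mem_product.1 (Finset.mem_filter.1 h).1).1]
      refine Finset.sum_congr rfl fun p hp => ?_
      refine Finset.card_bij' (fun pr _ => pr.2) (fun r _ => (p, r)) ?_ ?_ ?_ ?_
      · intro pr h
        simp only [R, Finset.mem_filter] at h
        exact h.2 ▸ h.1.2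
      · intro r hr
        simp only [R, Finset.mem_filter, Finset.mem_product, Finset.mem_univ, and_true]
        exact ⟨hp, hr⟩
      · intro pr h
        simp only [Finset.mem_filter] at h
        exact Prod.ext h.2.symm rfl
      · intro r _; rfl
    rw [this, Finset.sum_congr rfl hA, Finset.sum_const, smul_eq_mul]
    congr 1
    rw [← Set.ncard_eq_toFinset_card', ncard_on]
    rfl
  have hcover : M.offDiag ⊆ R ∪ R.image Prod.swap := fun pr hpr => by
    obtain ⟨h1, h2, h3⟩ := Finset.mem_offDiag.1 hpr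
    rw [Set.mem_toFinset] at h1 h2
    have mem : ∀ p r : P, p ≠ r → p ∈ m → r ∈ m → (∃ b : L, Hom G p b ∧ r ∈ b) → (p, r) ∈ R :=
      fun p r hne hp hr hb => by
        simp only [R, A, M, Finset.mem_filter, Finset.mem_product, Finset.mem_univ, and_true, true_and,
          Set.mem_toFinset]
        exact ⟨hp, hr, hne.symm, hb⟩
    rcases pair_on hs hm h3 h1 h2 with hb | hb
    · exact Finset.mem_union_left _ (mem _ _ h3 h1 h2 hb)
    · exact Finset.mem_union_right _ (Finset.mem_image.2 ⟨_, mem _ _ h3.symm h2 h1 hb, rfl⟩)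
  have hAcard : ProjectivePlane.order P L ≤ 2 * (A x).card := by
    have h1 := (Finset.card_le_card hcover).trans
      ((Finset.card_union_le _ _).trans (Nat.add_le_add_left Finset.card_image_le _))
    rw [Finset.offDiag_card, hR, show M.card = ProjectivePlane.order P L + 1 by
      rw [← Set.ncard_eq_toFinset_card', ncard_on]; rfl] at h1
    refine Nat.le_of_mul_le_mul_left (?_ : (ProjectivePlane.order P L + 1) * ProjectivePlane.order P L ≤
      (ProjectivePlane.order P L + 1) * (2 * (A x).card)) (Nat.succ_pos _)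
    rw [Nat.mul_add, Nat.mul_one, Nat.add_sub_cancel] at h1
    calc _ ≤ _ := h1
      _ = _ := by ring
  have hord := one_lt_ord (P := P) (L := L)
  rw [ord] at hord
  obtain ⟨r₀, hr₀⟩ : (A x).Nonempty := Finset.card_pos.1 (by omega)
  simp only [A, Finset.mem_filter, Finset.mem_univ, true_and] at hr₀
  obtain ⟨hr₀m, hr₀x, b₀, hb₀, hr₀b⟩ := hr₀
  have hsub : (A x : Set P) ⊆ orbit (cenElGroup G L x) r₀ := fun r hr => by
    simp only [A, Finset.coe_filter, Finset.mem_univ, true_and, Set.mem_ofPred_eq] at hr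
    obtain ⟨hrm, hrx, b, hb, hrb⟩ := hr
    obtain ⟨e, he, heb⟩ := cenEl_exists_smul hb₀ hb
    refine ⟨⟨e, he⟩, ?_⟩
    obtain ⟨h, hh⟩ := hb
    exact point_eq (show m ≠ b from fun e' => hh.2.2.2.2 (e' ▸ hx)) (cenEl_smul_on he hx ⟨hr₀m, hr₀x⟩).1
      (heb ▸ (smul_mem_iff e r₀ b₀).2 hr₀b) hrm hrb
  have hle := Set.ncard_le_ncard hsub (Set.toFinite _)
  rw [Set.ncard_coe_finset] at hle
  obtain ⟨k, hk⟩ := (cenEl_orbit_dvd (G := G) hx hr₀m hr₀x).1
  have hfull : (orbit (cenElGroup G L x) r₀).ncard = ProjectivePlane.order P L := by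
    have hodd := hs.odd
    rw [hk, Nat.odd_mul] at hodd
    have : k ≤ 2 := by
      by_contra h
      have := Nat.mul_le_mul_left (orbit (cenElGroup G L x) r₀).ncard (show 3 ≤ k by omega)
      omega
    obtain rfl : k = 1 := by
      rcases hodd.2 with ⟨i, hi⟩
      omega
    omega
  have hall : orbit (cenElGroup G L x) r₀ = {r : P | r ∈ m ∧ r ≠ x} := Set.eq_of_subset_of_ncard_le
    (by rintro _ ⟨e, rfl⟩; exact cenEl_smul_on (G := G) (e := (e : G)) e.2 hx ⟨hr₀m, hr₀x⟩)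
    (by rw [hfull, ncard_on_ne m hx]; rfl) (Set.toFinite _)
  have hqo : q ∈ orbit (cenElGroup G L x) r₀ := hall.symm ▸ ⟨hq, hqx⟩
  refine ⟨?_, (orbit_eq_iff.2 hqo).symm ▸ hfull⟩
  obtain ⟨e, rfl⟩ := hqo
  refine ⟨(e : G) • b₀, ?_, (smul_mem_iff (e : G) r₀ b₀).2 hr₀b⟩
  have := hb₀.conj (e : G)
  rwa [(cenEl_isCentre e.2).smul_centre] at this

/-- A line that is no axis forces the order to be a prime power. -/
theorem goal_of_nonAxis : Goal G P L := by
  classical
  obtain ⟨p₀, -⟩ := Nondegenerate.exists_point (P := P) m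
  obtain ⟨x, hx, -, -⟩ := exists_on_ne_ne m p₀ p₀
  obtain ⟨r, hr, hrx, -⟩ := exists_on_ne_ne m x x
  by_contra hgoal
  -- for every centre `z` on `m` the elations with centre `z` have only one axis
  have hone : ∀ z w : P, z ∈ m → w ∈ m → w ≠ z → ∀ b : L, Hom G z b → w ∈ b →
      ∀ b' : L, Hom G w b' → z ∈ b' → ∀ e ∈ cenElGroup G L z, e ≠ 1 → ¬ IsAxis e m → IsAxis e b' := by
    intro z w hz hw hwz b hb hwb b' hb' hzb' e he he1 hem
    obtain ⟨a, hza, ha⟩ := dual_elation he he1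
    obtain ⟨k, hk⟩ := hb'
    have he' : k * e * k⁻¹ ∈ cenElGroup G L z := by
      have := IsElation.conj (P := Configuration.Dual L) (L := Configuration.Dual P) he k
      rwa [show k • (show Configuration.Dual P from z) = z from hk.2.2.1 z hzb'] at this
    have he'1 : k * e * k⁻¹ ≠ 1 := fun h => he1 (conj_eq_one_iff.1 h)
    by_cases hka : k • a = a
    · rcases hk.fix_ln hka with h | h
      · exact absurd (line_eq hwz h hza hw hz ▸ ha.1) hem
      · exact h ▸ ha.1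
    · exact absurd (goal_of_two_axes hb hz hw hwz (exists_axis_through hs hm hz hw hwz).2 he he' he1 he'1
        ha.1 (ha.1.conj k) (Ne.symm hka)) hgoal
  have huniq : ∀ z w : P, z ∈ m → w ∈ m → w ≠ z → ∀ b₁ b₂ : L, Hom G w b₁ → z ∈ b₁ → Hom G w b₂ → z ∈ b₂ → b₁ = b₂ := by
    intro z w hz hw hwz b₁ b₂ h₁ hz₁ h₂ hz₂
    obtain ⟨b, hb, hwb⟩ := (exists_axis_through hs hm hz hw hwz).1
    obtain ⟨v, hvm, hvw, hvz⟩ := exists_on_ne_ne m w z
    have hv : v ∈ orbit (cenElGroup G L z) w := by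
      rw [show orbit (cenElGroup G L z) w = {r : P | r ∈ m ∧ r ≠ z} from Set.eq_of_subset_of_ncard_le
        (by rintro _ ⟨e, rfl⟩; exact cenEl_smul_on (G := G) (e := (e : G)) e.2 hz ⟨hw, hwz⟩)
        (by rw [(exists_axis_through hs hm hz hw hwz).2, ncard_on_ne m hz]; rfl) (Set.toFinite _)]
      exact ⟨hvm, hvz⟩
    obtain ⟨e, he⟩ := hv
    have he' : (e : G) • w = v := he
    have he1 : (e : G) ≠ 1 := fun h => hvw (by rw [← he', h, one_smul])
    have hem : ¬ IsAxis (e : G) m := fun h => hvw (by rw [← he']; exact h w hw)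
    exact (hone z w hz hw hwz b hb hwb b₁ h₁ hz₁ e e.2 he1 hem).unique
      (hone z w hz hw hwz b hb hwb b₂ h₂ hz₂ e e.2 he1 hem) he1
  obtain ⟨b, ⟨h, hh⟩, hrb⟩ := (exists_axis_through hs hm hx hr hrx).1
  obtain ⟨c, ⟨k, hk⟩, hxc⟩ := (exists_axis_through hs hm hr hx hrx.symm).1
  -- `k` fixes centre and axis of `h`
  have hkb : k • b = b := hk.2.2.2.1 b hrb
  obtain ⟨h', hh', hcomm⟩ := Hom.exists_comm ⟨h, hh⟩ hk.1 (hk.2.2.1 x hxc) hkb
  have hbc : b ≠ c := fun e => hh.2.2.2.2 (e ▸ hxc)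
  obtain ⟨z, hzb, hzc⟩ := exists_meet (P := P) hbc
  exact hm z ⟨_, IsHom.mul hs hh' hk hxc hrb hcomm.symm hzb hzc hx hr⟩

end CfsgLib.OstromWagner
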