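import Cfsg.Agent.Lib.OstromWagner.Transitive

/-!
# Involutions, fixed subplanes and the groups induced on them
-/

set_option autoImplicit false
set_option linter.unusedSectionVars false

namespace CfsgLib.OstromWagner

open Configuration MulAction

variable {G P L : Type*} [Group G] [MulAction G P] [MulAction G L] [Membership P L]

variable (L) in
/-- A set of points contains four points, no three of them collinear. -/
def Quad (S : Set P) : Prop :=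
  ∃ a ∈ S, ∃ b ∈ S, ∃ c ∈ S, ∃ d ∈ S, a ≠ b ∧ a ≠ c ∧ a ≠ d ∧ b ≠ c ∧ b ≠ d ∧ c ≠ d ∧
    ∀ l : L, ¬ (a ∈ l ∧ b ∈ l ∧ c ∈ l) ∧ ¬ (a ∈ l ∧ b ∈ l ∧ d ∈ l) ∧ ¬ (a ∈ l ∧ c ∈ l ∧ d ∈ l) ∧
      ¬ (b ∈ l ∧ c ∈ l ∧ d ∈ l)

theorem Quad.mono {S T : Set P} (h : Quad L S) (hST : S ⊆ T) : Quad L T := by
  obtain ⟨a, ha, b, hb, c, hc, d, hd, h⟩ := h
  exact ⟨a, hST ha, b, hST hb, c, hST hc, d, hST hd, h⟩

variable [ProjectivePlane P L]

theorem quad_of_two_sides {A B C D E : P} {lAB lBC : L} (hA : A ∈ lAB) (hB : B ∈ lAB) (hB' : B ∈ lBC)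
    (hC : C ∈ lBC) (hA' : A ∉ lBC) (hC' : C ∉ lAB) (hD : D ∈ lAB) (hE : E ∈ lBC) (hDA : D ≠ A) (hDB : D ≠ B)
    (hEB : E ≠ B) (hEC : E ≠ C) {S : Set P} (sA : A ∈ S) (sC : C ∈ S) (sD : D ∈ S) (sE : E ∈ S) : Quad L S := by
  have hne : lAB ≠ lBC := fun e => hA' (e ▸ hA)
  have hDE : D ≠ E := fun e => hDB (point_eq hne hD (e ▸ hE) hB hB')
  have hAC : A ≠ C := fun e => hA' (e ▸ hC)
  have hAE : A ≠ E := fun e => hA' (e ▸ hE)
  have hCD : C ≠ D := fun e => hC' (e ▸ hD)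
  refine ⟨A, sA, C, sC, D, sD, E, sE, hAC, hDA.symm, hAE, hCD, hEC.symm, hDE, fun l => ⟨?_, ?_, ?_, ?_⟩⟩
  · rintro ⟨h1, h2, h3⟩
    exact hC' (line_eq hDA h3 h1 hD hA ▸ h2)
  · rintro ⟨h1, h2, h3⟩
    exact hA' (line_eq hEC h3 h2 hE hC ▸ h1)
  · rintro ⟨h1, h2, h3⟩
    have := line_eq hDA h2 h1 hD hA
    subst this
    exact hEB (point_eq hne h3 hE hB hB')
  · rintro ⟨h1, h2, h3⟩
    have := line_eq hEC h3 h1 hE hC
    subst this
    exact hDB (point_eq hne hD h2 hB hB')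

/-- A set that meets every side of a triangle it contains only in the vertices, or lies on one side. -/
theorem quad_or_almost_line {S : Set P} {A B C : P} (sA : A ∈ S) (sB : B ∈ S) (sC : C ∈ S) (hAB : A ≠ B)
    {a : L} (hAa : A ∈ a) (hBa : B ∈ a) (hCa : C ∉ a) :
    Quad L S ∨ ∃ (l : L) (q : P), q ∉ l ∧ ∀ p ∈ S, p ∈ l ∨ p = q := by
  obtain ⟨b, hBb, hCb⟩ := exists_line (L := L) (show B ≠ C from fun e => hCa (e ▸ hBa))
  obtain ⟨c, hAc, hCc⟩ := exists_line (L := L) (show A ≠ C from fun e => hCa (e ▸ hAa))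
  have hAb : A ∉ b := fun h => hCa (line_eq hAB h hBb hAa hBa ▸ hCb)
  have hBc : B ∉ c := fun h => hCa (line_eq hAB hAc h hAa hBa ▸ hCc)
  have hCAB : C ≠ A ∧ C ≠ B := ⟨fun e => hCa (e ▸ hAa), fun e => hCa (e ▸ hBa)⟩
  by_cases hq : Quad L S
  · exact Or.inl hq
  right
  have side : ∀ p ∈ S, p ∈ a ∨ p ∈ b ∨ p ∈ c := fun p hp => by
    by_contra h
    push Not at h
    refine hq ⟨A, sA, B, sB, C, sC, p, hp, hAB, hCAB.1.symm, fun e => h.1 (e ▸ hAa), hCAB.2.symm,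
      fun e => h.1 (e ▸ hBa), fun e => h.2.1 (e ▸ hCb), fun l => ⟨?_, ?_, ?_, ?_⟩⟩
    · rintro ⟨h1, h2, h3⟩; exact hCa (line_eq hAB h1 h2 hAa hBa ▸ h3)
    · rintro ⟨h1, h2, h3⟩; exact h.1 (line_eq hAB h1 h2 hAa hBa ▸ h3)
    · rintro ⟨h1, h2, h3⟩; exact h.2.2 (line_eq hCAB.1.symm h1 h2 hAc hCc ▸ h3)
    · rintro ⟨h1, h2, h3⟩; exact h.2.1 (line_eq hCAB.2.symm h1 h2 hBb hCb ▸ h3)
  by_cases hb : ∃ E ∈ S, E ∈ b ∧ E ≠ B ∧ E ≠ C
  · obtain ⟨E, sE, hE, hEB, hEC⟩ := hb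
    refine ⟨b, A, hAb, fun p hp => ?_⟩
    by_contra h
    push Not at h
    rcases side p hp with hpa | hpb | hpc
    · exact hq (quad_of_two_sides hAa hBa hBb hCb hAb hCa hpa hE h.2 (fun e => h.1 (e ▸ hBb)) hEB hEC sA sC hp sE)
    · exact h.1 hpb
    · exact hq (quad_of_two_sides hAc hCc hCb hBb hAb hBc hpc hE h.2 (fun e => h.1 (e ▸ hCb)) hEC hEB sA sB hp sE)
  push Not at hb
  by_cases hc : ∃ E ∈ S, E ∈ c ∧ E ≠ A ∧ E ≠ C
  · obtain ⟨E, sE, hE, hEA, hEC⟩ := hc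
    refine ⟨c, B, hBc, fun p hp => ?_⟩
    by_contra h
    push Not at h
    rcases side p hp with hpa | hpb | hpc
    · exact hq (quad_of_two_sides hBa hAa hAc hCc hBc hCa hpa hE h.2 (fun e => h.1 (e ▸ hAc)) hEA hEC sB sC hp sE)
    · exact h.1 (hb p hp hpb h.2 ▸ hCc)
    · exact h.1 hpc
  push Not at hc
  refine ⟨a, C, hCa, fun p hp => ?_⟩
  by_contra h
  push Not at h
  rcases side p hp with hpa | hpb | hpc
  · exact h.1 hpa
  · exact h.2 (hb p hp hpb fun e => h.1 (e ▸ hBa))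
  · exact h.2 (hc p hp hpc fun e => h.1 (e ▸ hAa))

variable [IsPlaneAction G P L] [Finite P] [Finite L]

theorem eq_one_of_fix_off {g : G} {l : L} (h : ∀ p : P, p ∉ l → g • p = p) : g = 1 := by
  have hline : ∀ m : L, m ≠ l → g • m = m := fun m hm => by
    obtain ⟨x, hxm, hxl⟩ := exists_meet (P := P) hm
    obtain ⟨p, hpm, hpx, -⟩ := exists_on_ne_ne m x x
    obtain ⟨q, hqm, hqp, hqx⟩ := exists_on_ne_ne m p x
    exact smul_line_eq hqp (h q fun e => hqx (point_eq hm hqm e hxm hxl))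
      (h p fun e => hpx (point_eq hm hpm e hxm hxl)) hqm hpm
  refine IsPlaneAction.eq_one (P := P) (L := L) g fun p => ?_
  obtain ⟨m, hpm, hml, -⟩ := exists_through_ne_ne p l l
  obtain ⟨m', hpm', hm'l, hm'm⟩ := exists_through_ne_ne p l m
  exact smul_point_eq hm'm (hline m' hm'l) (hline m hml) hpm' hpm

/-- Every line carries a fixed point of an involution. -/
theorem exists_fixed_on {g : G} (h2 : g * g = 1) (h1 : g ≠ 1) (l : L) : ∃ p : P, p ∈ l ∧ g • p = p := by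
  have hgg : ∀ p : P, g • g • p = p := fun p => by rw [← mul_smul, h2, one_smul]
  have hggL : ∀ m : L, g • g • m = m := fun m => by rw [← mul_smul, h2, one_smul]
  by_cases hl : g • l = l
  · obtain ⟨q, hq, hgq⟩ : ∃ q : P, q ∉ l ∧ g • q ≠ q := by
      by_contra h
      push Not at h
      exact h1 (eq_one_of_fix_off h)
    obtain ⟨m, hqm, hgqm⟩ := exists_line (L := L) (Ne.symm hgq)
    have hm : g • m = m := line_eq hgq ((smul_mem_iff g q m).2 hqm)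
      (by have := (smul_mem_iff g (g • q) m).2 hgqm; rwa [hgg] at this) hgqm hqm
    obtain ⟨p, hpm, hpl⟩ := exists_meet (P := P) (show m ≠ l from fun e => hq (e ▸ hqm))
    exact ⟨p, hpl, smul_point_eq (show m ≠ l from fun e => hq (e ▸ hqm)) hm hl hpm hpl⟩
  · obtain ⟨p, hpg, hpl⟩ := exists_meet (P := P) hl
    refine ⟨p, hpl, point_eq hl ?_ ?_ hpg hpl⟩
    · exact (smul_mem_iff g p l).2 hpl
    · have := (smul_mem_iff g p (g • l)).2 hpg
      rwa [hggL] at this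

/-- An involution is a perspectivity or fixes a quadrangle. -/
theorem axis_or_quad {g : G} (h2 : g * g = 1) (h1 : g ≠ 1) :
    (∃ a : L, IsAxis g a) ∨ Quad L (fixedBy P g) := by
  by_cases hax : ∃ a : L, IsAxis g a
  · exact Or.inl hax
  right
  have key : ∀ (a : L) (q : P), ∃ p : P, g • p = p ∧ p ∉ a ∧ p ≠ q := by
    intro a q
    by_contra h
    push Not at h
    obtain ⟨r, hra, hr⟩ : ∃ r : P, r ∈ a ∧ g • r ≠ r := by
      by_contra h'
      push Not at h'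
      exact hax ⟨a, h'⟩
    by_cases hq : q ∈ a
    · obtain ⟨m, hrm, hma, -⟩ := exists_through_ne_ne r a a
      obtain ⟨p, hpm, hp⟩ := exists_fixed_on h2 h1 m
      have hpa : p ∈ a := by_contra fun e => e (h p hp e ▸ hq)
      exact hr (point_eq hma hrm hra hpm hpa ▸ hp)
    · obtain ⟨l₀, hrl₀, hql₀⟩ := exists_line (L := L) (show r ≠ q from fun e => hq (e ▸ hra))
      obtain ⟨m, hrm, hma, hml₀⟩ := exists_through_ne_ne r a l₀
      obtain ⟨p, hpm, hp⟩ := exists_fixed_on h2 h1 m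
      by_cases hpa : p ∈ a
      · exact hr (point_eq hma hrm hra hpm hpa ▸ hp)
      · have hpq := h p hp hpa
        subst hpq
        exact hml₀ (line_eq (show r ≠ p from fun e => hq (e ▸ hra)) hrm hpm hrl₀ hql₀)
  obtain ⟨q₀, -, -, -, a₀, -⟩ := ProjectivePlane.exists_config (P := P) (L := L)
  obtain ⟨A, hA, -, -⟩ := key a₀ q₀
  obtain ⟨m, hAm, -, -⟩ := exists_through_ne_ne A a₀ a₀
  obtain ⟨B, hB, hBm, -⟩ := key m A
  obtain ⟨a, hAa, hBa⟩ := exists_line (L := L) (show A ≠ B from fun e => hBm (e ▸ hAm))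
  obtain ⟨C, hC, hCa, -⟩ := key a A
  rcases quad_or_almost_line (S := fixedBy P g) hA hB hC (fun e => hBm (e ▸ hAm)) hAa hBa hCa with h | ⟨l, q, -, h⟩
  · exact h
  · obtain ⟨p, hp, hpl, hpq⟩ := key l q
    rcases h p hp with h' | h'
    · exact absurd h' hpl
    · exact absurd h' hpq

end CfsgLib.OstromWagner
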