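import Mathlib

/-!
# Finite rings with an involution whose norms and traces are zero or invertible
-/

set_option autoImplicit false

namespace CfsgLib.OstromWagner

variable {T : Type*} [Ring T] [Finite T]

/-- A finite domain quotient is commutative. -/
theorem comm_mod (I : Ideal T) [I.IsTwoSided] (h1 : (1 : T) ∉ I) (hp : ∀ x y, x * y ∈ I → x ∈ I ∨ y ∈ I) (x y : T) :
    x * y - y * x ∈ I := by
  haveI : Nontrivial (T ⧸ I) :=
    ⟨⟨Ideal.Quotient.mk I 1, 0, fun e => h1 (Ideal.Quotient.eq_zero_iff_mem.1 e)⟩⟩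
  haveI : NoZeroDivisors (T ⧸ I) := by
    refine ⟨fun {a b} => ?_⟩
    obtain ⟨a, rfl⟩ := Ideal.Quotient.mk_surjective a
    obtain ⟨b, rfl⟩ := Ideal.Quotient.mk_surjective b
    intro h
    rw [← map_mul, Ideal.Quotient.eq_zero_iff_mem] at h
    exact (hp a b h).imp Ideal.Quotient.eq_zero_iff_mem.2 Ideal.Quotient.eq_zero_iff_mem.2
  haveI : IsDomain (T ⧸ I) := NoZeroDivisors.to_isDomain _
  haveI : Finite (T ⧸ I) := Finite.of_surjective _ Ideal.Quotient.mk_surjective
  rw [← Ideal.Quotient.eq_zero_iff_mem, map_sub, map_mul, map_mul, sub_eq_zero]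
  exact (Finite.isDomain_to_isField (T ⧸ I)).mul_comm _ _

theorem exists_pow_idem {M : Type*} [Monoid M] [Finite M] (x : M) : ∃ m : ℕ, 0 < m ∧ x ^ m * x ^ m = x ^ m := by
  obtain ⟨i, j, hne, heq⟩ := Finite.exists_ne_map_eq_of_infinite fun k : ℕ => x ^ k
  wlog hij : i < j generalizing i j with H
  · exact H j i (Ne.symm hne) heq.symm (lt_of_le_of_ne (Nat.le_of_not_lt hij) (Ne.symm hne))
  obtain ⟨d, rfl⟩ : ∃ d, j = i + d := ⟨j - i, by omega⟩
  have hper : ∀ N, i ≤ N → ∀ t, x ^ (N + d * t) = x ^ N := by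
    intro N hN t
    induction t with
    | zero => simp
    | succ t ih =>
      obtain ⟨r, rfl⟩ : ∃ r, N = i + r := ⟨N - i, by omega⟩
      rw [show i + r + d * (t + 1) = i + d + (r + d * t) by ring, pow_add, ← heq, ← pow_add,
        show i + (r + d * t) = i + r + d * t by ring, ih]
  refine ⟨d * (i + 1), Nat.mul_pos (by omega) (by omega), ?_⟩
  rw [← pow_add]
  exact hper _ (by nlinarith) (i + 1)

/-- Two symmetric generators of such a ring commute. -/
theorem comm_of_involution_ring (σ : T → T) (hadd : ∀ x y, σ (x + y) = σ x + σ y)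
    (hmul : ∀ x y, σ (x * y) = σ y * σ x) (hinv : ∀ x, σ (σ x) = x)
    (htr : ∀ t, t + σ t = 0 ∨ IsUnit (t + σ t)) (hnorm : ∀ t, σ t * t = 0 ∨ IsUnit (σ t * t))
    {a b : T} (ha : σ a = a) (hb : σ b = b)
    (hgen : ∀ z, z * a = a * z → z * b = b * z → ∀ t, z * t = t * z)
    (hsa : (∃ c, σ c = c ∧ a = c * c) ∨ IsUnit (2 : T)) (hsb : (∃ c, σ c = c ∧ b = c * c) ∨ IsUnit (2 : T))
    {m : ℕ} (hm : a ^ m = 1) (hmu : IsUnit (m : T)) : a * b = b * a := by
  let σh : T →+ T := AddMonoidHom.mk' σ hadd
  have h0 : σ 0 = 0 := map_zero σh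
  have hneg : ∀ x, σ (-x) = -σ x := map_neg σh
  have hsub : ∀ x y, σ (x - y) = σ x - σ y := map_sub σh
  have h1 : σ 1 = 1 := by
    have := hmul (σ 1) 1
    rw [mul_one, hinv, mul_one] at this
    exact this.symm
  by_cases hid : ∃ e : T, e * e = e ∧ e ≠ 0 ∧ e ≠ 1
  · obtain ⟨e, he, he0, he1⟩ := hid
    -- the involution exchanges complementary idempotents
    have hnull : ∀ g : T, g * g = g → g ≠ 1 → σ g * g = 0 := fun g hg hg1 => by
      refine (hnorm g).resolve_right fun hu => hg1 (hu.mul_left_cancel ?_)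
      rw [mul_assoc, hg, mul_one]
    have hkey : ∀ g : T, g * g = g → g ≠ 0 → g ≠ 1 → σ g = 1 - g := by
      intro g hg hg0 hg1
      have hgs : σ g * σ g = σ g := by rw [← hmul, hg]
      have h2 : σ g * g = 0 := hnull g hg hg1
      have h3 : g * σ g = 0 := by
        have := hnull (σ g) hgs fun e' => hg1 (by rw [← hinv g, e', h1])
        rwa [hinv] at this
      rcases htr g with h | h
      · exfalso
        apply hg0
        have : g = -σ g := eq_neg_of_add_eq_zero_left h
        calc g = g * g := hg.symm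
          _ = -σ g * g := by rw [← this]
          _ = 0 := by rw [neg_mul, h2, neg_zero]
      · have hidem : (g + σ g) * (g + σ g) = (g + σ g) * 1 := by
          rw [mul_one, mul_add, add_mul, add_mul, hg, hgs, h2, h3, add_zero, zero_add]
        exact eq_sub_of_add_eq' (h.mul_left_cancel hidem)
    have hoff : ∀ g : T, g * g = g → g ≠ 0 → g ≠ 1 → ∀ x, σ x = x →
        (∃ c, σ c = c ∧ x = c * c) ∨ IsUnit (2 : T) → (1 - g) * x * g = 0 := by
      intro g hg hg0 hg1 x hx hs
      have hn : ∀ c, σ c = c → (1 - g) * (c * c) * g = 0 := fun c hc => by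
        have heq : σ (c * g) * (c * g) = (1 - g) * (c * c) * g := by
          rw [hmul, hc, hkey g hg hg0 hg1]
          noncomm_ring
        rw [← heq]
        refine (hnorm (c * g)).resolve_right fun hu => hg1 (hu.mul_left_cancel ?_)
        rw [mul_one]
        simp only [mul_assoc, hg]
      rcases hs with ⟨c, hc, rfl⟩ | h2
      · exact hn c hc
      · have h3 := hn x hx
        have h4 := hn (x + 1) (by rw [hadd, hx, h1])
        have h5 : (1 - g) * g = 0 := by rw [sub_mul, one_mul, hg, sub_self]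
        have h6 : (2 : T) * ((1 - g) * x * g) =
            (1 - g) * ((x + 1) * (x + 1)) * g - (1 - g) * (x * x) * g - (1 - g) * g := by noncomm_ring
        rw [h3, h4, h5, sub_zero, sub_zero] at h6
        exact (h2.mul_right_eq_zero).1 h6
    have hf : (1 - e) * (1 - e) = 1 - e := by rw [mul_sub, mul_one, sub_mul, one_mul, he, sub_self, sub_zero]
    have hf0 : 1 - e ≠ 0 := fun h => he1 (sub_eq_zero.1 h).symm
    have hf1 : 1 - e ≠ 1 := fun h => he0 (sub_eq_self.1 h)
    have hcomm : ∀ x, σ x = x → (∃ c, σ c = c ∧ x = c * c) ∨ IsUnit (2 : T) → e * x = x * e := fun x hx hs => by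
      have h2 := hoff e he he0 he1 x hx hs
      have h3 := hoff _ hf hf0 hf1 x hx hs
      rw [sub_sub_cancel] at h3
      rw [sub_mul, sub_mul, one_mul, sub_eq_zero] at h2
      rw [mul_sub, mul_one, sub_eq_zero] at h3
      exact h3.trans h2.symm
    have hcen := hgen e (hcomm a ha hsa) (hcomm b hb hsb)
    have hI : ∀ g : T, g * g = g → g ≠ 0 → g ≠ 1 → (∀ t, g * t = t * g) → g * (a * b - b * a) = 0 := by
      intro g hg hg0 hg1 hc
      let I : Ideal T :=
        { carrier := {t | g * t = 0}
          add_mem' := fun {x y} hx hy => by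
            show g * (x + y) = 0
            rw [mul_add, hx, hy, add_zero]
          zero_mem' := mul_zero g
          smul_mem' := fun r x hx => by
            show g * (r * x) = 0
            rw [← mul_assoc, hc r, mul_assoc, hx, mul_zero] }
      haveI : I.IsTwoSided := ⟨fun {x} r (hx : g * x = 0) => show g * (x * r) = 0 by
        rw [← mul_assoc, hx, zero_mul]⟩
      refine comm_mod I (fun h => hg0 (by rw [← mul_one g]; exact h)) (fun x y (hxy : g * (x * y) = 0) => ?_) a b
      by_contra hcon
      push Not at hcon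
      obtain ⟨hx : ¬ g * x = 0, hy : ¬ g * y = 0⟩ := hcon
      have hgf : g * (1 - g) = 0 := by rw [mul_sub, mul_one, hg, sub_self]
      have hgu : g * (g * x + σ (g * x)) = g * x := by
        rw [hmul, hkey g hg hg0 hg1, mul_add, ← mul_assoc, hg, ← mul_assoc, hc (σ x), mul_assoc, hgf, mul_zero,
          add_zero]
      rcases htr (g * x) with h | h
      · exact hx (by rw [← hgu, h, mul_zero])
      · refine hy ((h.mul_right_eq_zero).1 ?_)
        rw [← mul_assoc, ← hc, hgu, mul_assoc, hxy]
    have he' := hI e he he0 he1 hcen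
    have hf' := hI (1 - e) hf hf0 hf1 fun t => by rw [sub_mul, mul_sub, one_mul, mul_one, hcen t]
    rw [sub_mul, one_mul, he', sub_zero] at hf'
    exact sub_eq_zero.1 hf'
  · push Not at hid
    have hdich : ∀ x : T, IsUnit x ∨ IsNilpotent x := fun x => by
      obtain ⟨k, hk, hk'⟩ := exists_pow_idem x
      by_cases h : x ^ k = 0
      · exact Or.inr ⟨k, h⟩
      · exact Or.inl ((isUnit_pow_iff hk.ne').1 (by rw [hid _ hk' h]; exact isUnit_one))
    by_cases htriv : Subsingleton T
    · exact Subsingleton.elim _ _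
    haveI : Nontrivial T := not_subsingleton_iff_nontrivial.1 htriv
    let J : Ideal T :=
      { carrier := {x | ¬ IsUnit x}
        add_mem' := fun {x y} hx hy hu => by
          have h2 : ↑hu.unit⁻¹ * x + ↑hu.unit⁻¹ * y = 1 := by rw [← mul_add, IsUnit.val_inv_mul]
          rcases hdich (↑hu.unit⁻¹ * x) with hux | hux
          · exact hx (IsUnit.mul_iff.1 hux).2
          · have : IsUnit (↑hu.unit⁻¹ * y) := by
              rw [eq_sub_of_add_eq' h2]
              exact hux.isUnit_one_sub
            exact hy (IsUnit.mul_iff.1 this).2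
        zero_mem' := not_isUnit_zero
        smul_mem' := fun r x hx hu => hx (IsUnit.mul_iff.1 (show IsUnit (r * x) from hu)).2 }
    haveI : J.IsTwoSided := ⟨fun {x} r hx hu => hx (IsUnit.mul_iff.1 hu).1⟩
    have hd : a * b - b * a ∈ J := comm_mod J (fun h => h isUnit_one)
      (fun x y (hxy : ¬ IsUnit (x * y)) => by
        by_contra hcon
        push Not at hcon
        exact hxy (IsUnit.mul (not_not.1 hcon.1) (not_not.1 hcon.2))) a b
    have hskew : ∀ j : T, ¬ IsUnit j → σ j = -j := fun j hj => by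
      have hσj : ¬ IsUnit (σ j) := fun hu => hj (by
        obtain ⟨v, hv⟩ := hu.exists_left_inv
        exact (IsUnit.mul_iff.1 (show IsUnit (j * σ v) by rw [← hinv j, ← hmul, hv, h1]; exact isUnit_one)).1)
      exact eq_neg_of_add_eq_zero_right ((htr j).resolve_right (J.add_mem hj hσj))
    have hcomm : (a * b - b * a) * a = a * (a * b - b * a) := by
      have h2 := hskew _ (J.mul_mem_left a hd)
      rw [hmul, hskew _ hd, ha, neg_mul, neg_inj] at h2
      exact h2
    have hder : ∀ k : ℕ, a ^ (k + 1) * b - b * a ^ (k + 1) = ((k + 1 : ℕ) : T) * (a ^ k * (a * b - b * a)) := by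
      intro k
      induction k with
      | zero => simp
      | succ k ih =>
        have hc : Commute (a * b - b * a) (a ^ (k + 1)) := Commute.pow_right hcomm _
        have : a ^ (k + 1 + 1) * b - b * a ^ (k + 1 + 1) =
            a * (a ^ (k + 1) * b - b * a ^ (k + 1)) + (a * b - b * a) * a ^ (k + 1) := by
          rw [pow_succ' a (k + 1)]
          noncomm_ring
        rw [this, ih, hc.eq, ← mul_assoc, ← (Nat.cast_commute (k + 1) a).eq, mul_assoc, ← mul_assoc a,
          ← pow_succ', Nat.cast_succ (k + 1), add_mul, one_mul]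
    obtain - | k := m
    · rw [Nat.cast_zero] at hmu
      exact absurd hmu not_isUnit_zero
    have h2 := hder k
    rw [hm, one_mul, mul_one, sub_self] at h2
    have h3 : a ^ k * (a * b - b * a) = 0 := (hmu.mul_right_eq_zero).1 h2.symm
    have h4 : a ^ (k + 1) * (a * b - b * a) = 0 := by rw [pow_succ', mul_assoc, h3, mul_zero]
    rw [hm, one_mul] at h4
    exact sub_eq_zero.1 h4

end CfsgLib.OstromWagner
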