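import Cfsg.Agent.Lib.OstromWagner.PSubgroups

/-!
# Maximal two-groups fixing a quadrangle
-/

set_option autoImplicit false
set_option linter.unusedSectionVars false

namespace CfsgLib.OstromWagner

open Configuration MulAction

variable {G P L : Type*} [Group G] [MulAction G P] [MulAction G L] [Membership P L] [ProjectivePlane P L]
  [IsPlaneAction G P L] [Finite P] [Finite L] [Finite G]

variable (G P L) in
/-- No nontrivial element has an axis. -/
def NoPersp : Prop := ∀ (g : G) (a : L), IsAxis g a → g = 1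

theorem NoPersp.dual (h : NoPersp G P L) : NoPersp G (Configuration.Dual L) (Configuration.Dual P) :=
  fun g c hc => by
    obtain ⟨a, ha⟩ : ∃ a : L, IsAxis g a :=
      IsAxis.exists_centre (P := Configuration.Dual L) (L := Configuration.Dual P) hc
    exact h g a ha

theorem TwoTrans.dual (h : TwoTrans G P) (L : Type*) [MulAction G L] [Membership P L] [ProjectivePlane P L]
    [IsPlaneAction G P L] [Finite L] : TwoTrans G (Configuration.Dual L) :=
  AntiTrans.twoTrans (L := Configuration.Dual P) fun (l l' : L) (p p' : P) hl hl' => by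
    obtain ⟨g, hg, hg'⟩ := (h.flag_anti (L := L)).2 p p' l l' hl hl'
    exact ⟨g, hg', hg⟩

omit [MulAction G L] [IsPlaneAction G P L] [Membership P L] [ProjectivePlane P L] [Finite L] in
theorem exists_involution (h : TwoTrans G P) {p q : P} (hpq : p ≠ q) : ∃ g : G, g * g = 1 ∧ g ≠ 1 := by
  obtain ⟨g, hgp, hgq⟩ := h p q q p hpq hpq.symm
  have heven : Even (orderOf g) := by
    by_contra hodd
    rw [Nat.not_even_iff_odd] at hodd
    obtain ⟨i, hi⟩ := hodd
    have h1 : g = (g * g) ^ (i + 1) := by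
      rw [← pow_two, ← pow_mul, show 2 * (i + 1) = orderOf g + 1 by omega, pow_succ, pow_orderOf_eq_one, one_mul]
    have h2 : g * g ∈ stabilizer G p := mem_stabilizer_iff.2 (by rw [mul_smul, hgp, hgq])
    exact hpq (by rw [← hgp, h1]; exact (mem_stabilizer_iff.1 (pow_mem h2 _)).symm)
  obtain ⟨i, hi⟩ := heven
  refine ⟨g ^ i, by rw [← pow_add, ← hi, pow_orderOf_eq_one], pow_ne_one_of_lt_orderOf ?_ ?_⟩
  · have := orderOf_pos g; omega
  · have := orderOf_pos g; omega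

theorem quad_of_involution (hno : NoPersp G P L) {g : G} (h2 : g * g = 1) (h1 : g ≠ 1) :
    Quad L (fixedPoints (Subgroup.zpowers g) P) := by
  rcases axis_or_quad (P := P) (L := L) h2 h1 with ⟨a, ha⟩ | h
  · exact absurd (hno g a ha) h1
  · exact h.mono fun p hp => mem_fixed_iff.2 fun u hu => by
      obtain ⟨k, rfl⟩ := Subgroup.mem_zpowers_iff.1 hu
      exact (stabilizer G p).zpow_mem (mem_stabilizer_iff.2 hp) k

theorem isPGroup_zpowers_of_involution {g : G} (h2 : g * g = 1) (h1 : g ≠ 1) : IsPGroup 2 (Subgroup.zpowers g) :=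
  IsPGroup.of_card (n := 1) (by
    rw [Nat.card_zpowers, pow_one]
    exact orderOf_eq_prime (p := 2) (by rw [pow_two, h2]) h1)

theorem card_orbit_stab {H X : Type*} [Group H] [MulAction H X] (x : X) :
    (orbit H x).ncard * Nat.card (stabilizer H x) = Nat.card H := by
  rw [← Nat.card_coe_set_eq, Nat.card_congr (orbitEquivQuotientStabilizer H x),
    ← Subgroup.card_eq_card_quotient_mul_card_subgroup]

omit [MulAction G L] [IsPlaneAction G P L] [Membership P L] [ProjectivePlane P L] [Finite L] in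
theorem card_of_twoTrans (h : TwoTrans G P) {p q : P} (hpq : p ≠ q) :
    Nat.card G = Nat.card P * (Nat.card P - 1) * Nat.card ↥(stabilizer G p ⊓ stabilizer G q) := by
  rw [← card_orbit_stab (H := G) p, ← card_orbit_stab (H := stabilizer G p) q]
  have h1 : orbit G p = Set.univ := Set.eq_univ_of_forall fun r => h.transitive p r
  have h2 : orbit (stabilizer G p) q = {p}ᶜ := Set.ext fun r => ⟨by
    rintro ⟨g, rfl⟩ e
    exact hpq.symm (smul_left_cancel (g : G) ((show (g : G) • q = p from e).trans (mem_stabilizer_iff.1 g.2).symm)),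
    fun hr => by
      obtain ⟨g, hgp, hgq⟩ := h p q p r hpq (Ne.symm hr)
      exact ⟨⟨g, mem_stabilizer_iff.2 hgp⟩, hgq⟩⟩
  rw [h1, h2, Set.ncard_univ, Set.ncard_compl, Set.ncard_singleton, mul_assoc (Nat.card P)]
  congr 2
  exact (Nat.card_congr (β := ↥(stabilizer G p ⊓ stabilizer G q))
    { toFun := fun k => ⟨k.1.1, k.1.2, mem_stabilizer_iff.2 (mem_stabilizer_iff.1 k.2 :)⟩
      invFun := fun g => ⟨⟨g.1, g.2.1⟩, mem_stabilizer_iff.2 (mem_stabilizer_iff.1 g.2.2 :)⟩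
      left_inv := fun _ => rfl
      right_inv := fun _ => rfl })

theorem card_stab_conj {X Y : Type*} [MulAction G X] [MulAction G Y] (g : G) (x : X) (y : Y) :
    Nat.card ↥(stabilizer G (g • x) ⊓ stabilizer G (g • y)) = Nat.card ↥(stabilizer G x ⊓ stabilizer G y) :=
  (Nat.card_congr ((MulAut.conj g).toEquiv.subtypeEquiv fun k => by
    show k ∈ stabilizer G x ⊓ stabilizer G y ↔ g * k * g⁻¹ ∈ stabilizer G (g • x) ⊓ stabilizer G (g • y)
    simp only [Subgroup.mem_inf, mem_stabilizer_iff, mul_smul, inv_smul_smul, smul_left_cancel_iff])).symm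

/-- A Sylow two-subgroup of a two point stabiliser fixes no quadrangle. -/
theorem not_quad_sylow (h : TwoTrans G P) (hn : ord P L % 4 = 1) {p q : P} (hpq : p ≠ q) {T : Subgroup G}
    (hT : IsSylowIn 2 T (stabilizer G p ⊓ stabilizer G q)) : ¬ Quad L (fixedPoints T P) := by
  haveI : Fact (Nat.Prime 2) := ⟨Nat.prime_two⟩
  intro hquad
  letI := fixedPlane hquad
  haveI := isPlaneAction_ind (P := P) (L := L) T
  have hp : p ∈ fixedPoints T P := mem_fixed_iff.2 fun t ht => mem_stabilizer_iff.1 (hT.1 ht).1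
  have hq : q ∈ fixedPoints T P := mem_fixed_iff.2 fun t ht => mem_stabilizer_iff.1 (hT.1 ht).2
  have h2 : TwoTrans (Ind G P L T) (fixedPoints T P) := by
    suffices ∀ a b : fixedPoints T P, a ≠ b → ∃ x : Ind G P L T, x • ⟨p, hp⟩ = a ∧ x • ⟨q, hq⟩ = b by
      intro a b c d hab hcd
      obtain ⟨x, hxa, hxb⟩ := this a b hab
      obtain ⟨y, hyc, hyd⟩ := this c d hcd
      exact ⟨y * x⁻¹, by rw [mul_smul, ← hxa, inv_smul_smul, hyc], by rw [mul_smul, ← hxb, inv_smul_smul, hyd]⟩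
    intro a b hab
    obtain ⟨g, hga, hgb⟩ := h p q a b hpq fun e => hab (Subtype.ext e)
    obtain ⟨x, hx, hxg⟩ := IsSylowIn.witt (K := stabilizer G (a : P) ⊓ stabilizer G (b : P)) (g := g)
      (fun t ht => ⟨mem_stabilizer_iff.2 (by
          rw [← hga, mul_smul, mul_smul, inv_smul_smul, mem_stabilizer_iff.1 (hT.1 ht).1]),
        mem_stabilizer_iff.2 (by
          rw [← hgb, mul_smul, mul_smul, inv_smul_smul, mem_stabilizer_iff.1 (hT.1 ht).2])⟩)
      (fun t ht => ⟨mem_stabilizer_iff.2 (mem_fixed_iff.1 a.2 t ht), mem_stabilizer_iff.2 (mem_fixed_iff.1 b.2 t ht)⟩)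
      hT.2.1 (by rw [hT.2.2, ← hga, ← hgb, card_stab_conj])
    exact ⟨toInd P L ⟨x * g, hxg⟩,
      Subtype.ext (by rw [toInd_smul_pt, mul_smul, hga, mem_stabilizer_iff.1 hx.1]),
      Subtype.ext (by rw [toInd_smul_pt, mul_smul, hgb, mem_stabilizer_iff.1 hx.2])⟩
  -- four divides the order of the induced group
  obtain ⟨t, ht2, ht1⟩ := exists_involution h2 (p := ⟨p, hp⟩) (q := ⟨q, hq⟩) fun e => hpq (congrArg Subtype.val e)
  obtain ⟨-, -, -, l₀, -⟩ := ProjectivePlane.exists_config (P := fixedPoints T P) (L := fixedPoints T L)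
  obtain ⟨A, -, hA⟩ := exists_fixed_on ht2 ht1 l₀
  obtain ⟨l₁, hl₁⟩ := Nondegenerate.exists_line (L := fixedPoints T L) A
  obtain ⟨B, hB₁, hB⟩ := exists_fixed_on ht2 ht1 l₁
  have hAB : A ≠ B := fun e => hl₁ (e ▸ hB₁)
  have h2K : 2 ∣ Nat.card ↥(stabilizer (Ind G P L T) A ⊓ stabilizer (Ind G P L T) B) := by
    have hd := orderOf_dvd_natCard (⟨t, hA, hB⟩ : ↥(stabilizer (Ind G P L T) A ⊓ stabilizer (Ind G P L T) B))
    rw [← Subgroup.orderOf_coe] at hd
    exact (orderOf_eq_prime (p := 2) (by rw [pow_two, ht2]) ht1).symm ▸ (hd :)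
  have h4 : 4 ∣ Nat.card (Ind G P L T) := by
    rw [card_of_twoTrans h2 hAB, card_pts (L := fixedPoints T L), Nat.add_sub_cancel]
    have : 2 ∣ ord (fixedPoints T P) (fixedPoints T L) ^ 2 + ord (fixedPoints T P) (fixedPoints T L) := by
      rw [pow_two, ← Nat.mul_succ]
      exact (Nat.even_mul_succ_self _).two_dvd
    rw [mul_assoc]
    exact dvd_mul_of_dvd_right (Nat.mul_dvd_mul this h2K) _
  -- the two part of the group
  have hdvd : Nat.card T * Nat.card (Ind G P L T) ∣ Nat.card G := by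
    have hker : T.subgroupOf (nrm G T) ≤ (indMap G P L T).ker := fun t ht => by
      have h1 := (toInd_eq_one_iff (P := P) (L := L) t).2 fun r hr => mem_fixed_iff.1 hr _ ht
      exact congrArg Subtype.val h1
    have hc : Nat.card T ∣ Nat.card (indMap G P L T).ker := by
      rw [← Nat.card_congr (Subgroup.subgroupOfEquivOfLe (Subgroup.le_normalizer (H := T))).toEquiv]
      exact Subgroup.card_dvd_of_le hker
    refine dvd_trans (Nat.mul_dvd_mul_right hc _) (dvd_trans ?_ (Subgroup.card_subgroup_dvd_card (nrm G T)))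
    rw [← Subgroup.index_ker, Subgroup.card_mul_index]
  obtain ⟨r, hr⟩ : ∃ r, Nat.card ↥(stabilizer G p ⊓ stabilizer G q) = Nat.card T * r :=
    (Subgroup.card_dvd_of_le hT.1)
  have hr2 : ¬ 2 ∣ r := fun h2r => by
    obtain ⟨i, hi⟩ := IsPGroup.iff_card.1 hT.2.1
    have := hT.pow_dvd (i := i + 1) (by rw [hr, hi, pow_succ]; exact Nat.mul_dvd_mul_left _ h2r)
    rw [hi, Nat.pow_dvd_pow_iff_le_right (by norm_num)] at this
    omega
  rw [card_of_twoTrans h hpq, hr, ← mul_assoc, mul_comm (_ * (Nat.card P - 1)), mul_assoc] at hdvd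
  have hdvd' := (h4.trans (Nat.dvd_of_mul_dvd_mul_left Nat.card_pos hdvd))
  have hco : Nat.Coprime 4 r := by
    have : Nat.Coprime (2 ^ 2) r := Nat.Coprime.pow_left _ ((Nat.prime_two.coprime_iff_not_dvd).2 hr2)
    exact this
  have h4' := hco.dvd_of_dvd_mul_right hdvd'
  rw [card_pts (L := L), Nat.add_sub_cancel, Nat.dvd_iff_mod_eq_zero, Nat.mul_mod, Nat.add_mod,
    Nat.add_mod (ord P L ^ 2), Nat.pow_mod, hn] at h4'
  norm_num at h4'

/-- A two-group that fixes a quadrangle and is maximal with this property. -/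
structure MaxQuad (U : Subgroup G) : Prop where
  two : IsPGroup 2 U
  quad : Quad L (fixedPoints U P)
  max : ∀ U' : Subgroup G, IsPGroup 2 U' → Quad L (fixedPoints U' P) → U ≤ U' → U' = U

theorem exists_maxQuad (hno : NoPersp G P L) {g : G} (h2 : g * g = 1) (h1 : g ≠ 1) :
    ∃ U : Subgroup G, MaxQuad (P := P) (L := L) U ∧ U ≠ ⊥ := by
  haveI : Nonempty {U : Subgroup G // IsPGroup 2 U ∧ Quad L (fixedPoints U P) ∧ U ≠ ⊥} :=
    ⟨⟨Subgroup.zpowers g, isPGroup_zpowers_of_involution h2 h1, quad_of_involution hno h2 h1,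
      fun e => h1 (Subgroup.zpowers_eq_bot.1 e)⟩⟩
  obtain ⟨⟨U, hU, hq, hne⟩, hmax⟩ := Finite.exists_max
    fun U : {U : Subgroup G // IsPGroup 2 U ∧ Quad L (fixedPoints U P) ∧ U ≠ ⊥} => Nat.card U.1
  refine ⟨U, ⟨hU, hq, fun U' hU' hq' hle => ?_⟩, hne⟩
  exact (Subgroup.eq_of_le_of_card_ge hle (hmax ⟨U', hU', hq', fun e => hne (le_bot_iff.1 (e ▸ hle))⟩)).symm

theorem quad_dual {U : Subgroup G} (h : Quad L (fixedPoints U P)) :
    Quad (Configuration.Dual P) (fixedPoints U (Configuration.Dual L)) := by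
  obtain ⟨a, ha, b, hb, c, hc, d, hd, hab, hac, had, hbc, hbd, hcd, hq⟩ := h
  obtain ⟨l₁, ha₁, hb₁⟩ := exists_line (L := L) hab
  obtain ⟨l₂, hb₂, hc₂⟩ := exists_line (L := L) hbc
  obtain ⟨l₃, hc₃, hd₃⟩ := exists_line (L := L) hcd
  obtain ⟨l₄, hd₄, ha₄⟩ := exists_line (L := L) had.symm
  have h12 : l₁ ≠ l₂ := fun e => (hq l₁).1 ⟨ha₁, hb₁, e ▸ hc₂⟩
  have h13 : l₁ ≠ l₃ := fun e => (hq l₁).1 ⟨ha₁, hb₁, e ▸ hc₃⟩
  have h14 : l₁ ≠ l₄ := fun e => (hq l₁).2.1 ⟨ha₁, hb₁, e ▸ hd₄⟩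
  have h23 : l₂ ≠ l₃ := fun e => (hq l₂).2.2.2 ⟨hb₂, hc₂, e ▸ hd₃⟩
  have h24 : l₂ ≠ l₄ := fun e => (hq l₂).1 ⟨e ▸ ha₄, hb₂, hc₂⟩
  have h34 : l₃ ≠ l₄ := fun e => (hq l₃).2.2.1 ⟨e ▸ ha₄, hc₃, hd₃⟩
  refine ⟨l₁, fixed_join (L := L) ha hb hab ha₁ hb₁, l₂, fixed_join (L := L) hb hc hbc hb₂ hc₂, l₃, fixed_join (L := L) hc hd hcd hc₃ hd₃,
    l₄, fixed_join (L := L) hd ha had.symm hd₄ ha₄, h12, h13, h14, h23, h24, h34, fun (r : P) => ⟨?_, ?_, ?_, ?_⟩⟩
  · rintro ⟨(r1 : r ∈ l₁), (r2 : r ∈ l₂), (r3 : r ∈ l₃)⟩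
    exact (hq l₃).2.2.2 ⟨point_eq h12 r1 r2 hb₁ hb₂ ▸ r3, hc₃, hd₃⟩
  · rintro ⟨(r1 : r ∈ l₁), (r2 : r ∈ l₂), (r4 : r ∈ l₄)⟩
    exact (hq l₄).2.1 ⟨ha₄, point_eq h12 r1 r2 hb₁ hb₂ ▸ r4, hd₄⟩
  · rintro ⟨(r1 : r ∈ l₁), (r3 : r ∈ l₃), (r4 : r ∈ l₄)⟩
    exact (hq l₃).2.2.1 ⟨point_eq h14 r1 r4 ha₁ ha₄ ▸ r3, hc₃, hd₃⟩
  · rintro ⟨(r2 : r ∈ l₂), (r3 : r ∈ l₃), (r4 : r ∈ l₄)⟩
    exact (hq l₄).2.2.1 ⟨ha₄, point_eq h23 r2 r3 hc₂ hc₃ ▸ r4, hd₄⟩

theorem MaxQuad.dual {U : Subgroup G} (hU : MaxQuad (P := P) (L := L) U) :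
    MaxQuad (P := Configuration.Dual L) (L := Configuration.Dual P) U where
  two := hU.two
  quad := quad_dual hU.quad
  max U' h1 h2 h3 := hU.max U' h1 (quad_dual (P := Configuration.Dual L) (L := Configuration.Dual P) h2) h3

theorem sup_two {U : Subgroup G} (hU : IsPGroup 2 U) {g : G} (hg : g ∈ nrm G U)
    (hg2 : IsPGroup 2 (Subgroup.zpowers g)) : IsPGroup 2 (U ⊔ Subgroup.zpowers g : Subgroup G) :=
  IsPGroup.to_sup_of_normal_left' hU hg2 ((Subgroup.zpowers_le).2 hg)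

theorem mem_fixed_sup {X : Type*} [MulAction G X] {U : Subgroup G} {g : G} {x : X}
    (hx : x ∈ fixedPoints U X) (hg : g • x = x) : x ∈ fixedPoints (U ⊔ Subgroup.zpowers g : Subgroup G) X :=
  mem_fixed_iff.2 fun u hu => mem_stabilizer_iff.1
    ((sup_le (fun v hv => mem_stabilizer_iff.2 (mem_fixed_iff.1 hx v hv))
      ((Subgroup.zpowers_le).2 (mem_stabilizer_iff.2 hg)) : U ⊔ Subgroup.zpowers g ≤ stabilizer G x) hu)

theorem MaxQuad.mem {U : Subgroup G} (hU : MaxQuad (P := P) (L := L) U) {g : G} (hg : g ∈ nrm G U)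
    (hg2 : IsPGroup 2 (Subgroup.zpowers g)) {S : Set P} (hS : Quad L S) (hSU : S ⊆ fixedPoints U P)
    (hfix : ∀ p ∈ S, g • p = p) : g ∈ U := by
  have := hU.max _ (sup_two hU.two hg hg2) (hS.mono fun p hp => mem_fixed_sup (hSU hp) (hfix p hp)) le_sup_left
  exact this ▸ Subgroup.mem_sup_right (Subgroup.mem_zpowers g)

theorem quad_image {U : Subgroup G} {S : Set (fixedPoints U P)} (h : Quad (fixedPoints U L) S) :
    Quad L (Subtype.val '' S) := by
  obtain ⟨a, ha, b, hb, c, hc, d, hd, hab, hac, had, hbc, hbd, hcd, hq⟩ := h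
  refine ⟨a, ⟨a, ha, rfl⟩, b, ⟨b, hb, rfl⟩, c, ⟨c, hc, rfl⟩, d, ⟨d, hd, rfl⟩, fun e => hab (Subtype.ext e),
    fun e => hac (Subtype.ext e), fun e => had (Subtype.ext e), fun e => hbc (Subtype.ext e),
    fun e => hbd (Subtype.ext e), fun e => hcd (Subtype.ext e), fun l => ⟨?_, ?_, ?_, ?_⟩⟩
  · rintro ⟨h1, h2, h3⟩
    exact (hq ⟨l, fixed_join a.2 b.2 (fun e => hab (Subtype.ext e)) h1 h2⟩).1 ⟨h1, h2, h3⟩
  · rintro ⟨h1, h2, h3⟩
    exact (hq ⟨l, fixed_join a.2 b.2 (fun e => hab (Subtype.ext e)) h1 h2⟩).2.1 ⟨h1, h2, h3⟩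
  · rintro ⟨h1, h2, h3⟩
    exact (hq ⟨l, fixed_join a.2 c.2 (fun e => hac (Subtype.ext e)) h1 h2⟩).2.2.1 ⟨h1, h2, h3⟩
  · rintro ⟨h1, h2, h3⟩
    exact (hq ⟨l, fixed_join b.2 c.2 (fun e => hbc (Subtype.ext e)) h1 h2⟩).2.2.2 ⟨h1, h2, h3⟩

/-- Two points of the subplane are fixed by an involution of the normaliser acting nontrivially. -/
theorem pair_involution (h : TwoTrans G P) (hn : ord P L % 4 = 1) {U : Subgroup G}
    (hU : MaxQuad (P := P) (L := L) U) {a b : P} (ha : a ∈ fixedPoints U P) (hb : b ∈ fixedPoints U P) (hab : a ≠ b) :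
    ∃ g ∈ nrm G U, g • a = a ∧ g • b = b ∧ (∃ p ∈ fixedPoints U P, g • p ≠ p) ∧
      ∀ p ∈ fixedPoints U P, (g * g) • p = p := by
  haveI : Fact (Nat.Prime 2) := ⟨Nat.prime_two⟩
  have hUK : U ≤ stabilizer G a ⊓ stabilizer G b := fun u hu =>
    ⟨mem_stabilizer_iff.2 (mem_fixed_iff.1 ha u hu), mem_stabilizer_iff.2 (mem_fixed_iff.1 hb u hu)⟩
  obtain ⟨T, hT, hUT⟩ := exists_sylowIn_ge hU.two hUK
  have hne : U ≠ T := fun e => not_quad_sylow h hn hab hT (e ▸ hU.quad)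
  obtain ⟨w, hwT, hwn, hwU⟩ := exists_normalizing hT.2.1 (lt_of_le_of_ne hUT hne)
  have hw2 : IsPGroup 2 (Subgroup.zpowers w) := hT.2.1.to_le ((Subgroup.zpowers_le).2 hwT)
  letI := fixedPlane hU.quad
  haveI := isPlaneAction_ind (P := P) (L := L) U
  set x := toInd P L (⟨w, hwn⟩ : nrm G U) with hxdef
  have hx1 : x ≠ 1 := fun e => hwU
    (hU.mem hwn hw2 hU.quad subset_rfl ((toInd_eq_one_iff _).1 e))
  obtain ⟨i, hi⟩ := hw2 ⟨w, Subgroup.mem_zpowers w⟩
  have hxi : x ^ 2 ^ i = 1 := by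
    have h1 : (⟨w, hwn⟩ : nrm G U) ^ 2 ^ i = 1 := Subtype.ext (congrArg Subtype.val hi :)
    rw [hxdef]
    exact (map_pow (indMap G P L U).rangeRestrict _ _).symm.trans (by rw [h1, map_one])
  obtain ⟨k, hk⟩ : 2 ∣ orderOf x := by
    obtain ⟨j, -, hj⟩ := (Nat.dvd_prime_pow Nat.prime_two).1 (orderOf_dvd_of_pow_eq_one hxi)
    rcases j with - | j
    · exact absurd (orderOf_eq_one_iff.1 (by rw [hj, pow_zero])) hx1
    · exact hj ▸ dvd_pow_self 2 (Nat.succ_ne_zero j)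
  have hk0 : k ≠ 0 := fun e => (orderOf_pos x).ne' (by rw [hk, e, mul_zero])
  have hmap : toInd P L ((⟨w, hwn⟩ : nrm G U) ^ k) = x ^ k := map_pow (indMap G P L U).rangeRestrict _ _
  refine ⟨w ^ k, pow_mem hwn k, mem_stabilizer_iff.1 (pow_mem (hT.1 hwT).1 k),
    mem_stabilizer_iff.1 (pow_mem (hT.1 hwT).2 k), ?_, fun p hp => ?_⟩
  · by_contra hall
    push Not at hall
    have h1 : x ^ k = 1 := hmap ▸ (toInd_eq_one_iff _).2 fun p hp => hall p hp
    exact pow_ne_one_of_lt_orderOf hk0 (by omega) h1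
  · have h1 : toInd P L ((⟨w, hwn⟩ : nrm G U) ^ k * (⟨w, hwn⟩ : nrm G U) ^ k) = 1 := by
      rw [toInd_mul, hmap, ← pow_add, ← two_mul, ← hk, pow_orderOf_eq_one]
    exact (toInd_eq_one_iff _).1 h1 p hp

/-- The group induced on the subplane is in the setting of involutory homologies. -/
theorem homSetting_ind (h : TwoTrans G P) (hn : ord P L % 4 = 1) {U : Subgroup G}
    (hU : MaxQuad (P := P) (L := L) U) [ProjectivePlane (fixedPoints U P) (fixedPoints U L)]
    [IsPlaneAction (Ind G P L U) (fixedPoints U P) (fixedPoints U L)] :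
    HomSetting (Ind G P L U) (fixedPoints U P) (fixedPoints U L) := by
  haveI : Fact (Nat.Prime 2) := ⟨Nat.prime_two⟩
  obtain ⟨k, hk⟩ := ord_eq_pow (P := P) (L := L) U hU.two
  have hodd : Odd (ord (fixedPoints U P) (fixedPoints U L)) := by
    have h1 : Odd (ord P L) := Nat.odd_iff.2 (by omega)
    rw [hk] at h1
    exact (Nat.odd_pow_iff (pow_ne_zero _ (by norm_num))).1 h1
  refine ⟨hodd, fun a b hab => ?_, fun l m hlm => ?_, fun x h2 h1 => ?_⟩
  · obtain ⟨g, hg, hga, hgb, ⟨p, hp, hgp⟩, hgg⟩ :=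
      pair_involution h hn hU a.2 b.2 fun e => hab (Subtype.ext e)
    refine ⟨toInd P L ⟨g, hg⟩, ?_, fun e => hgp ((toInd_eq_one_iff _).1 e p hp), Subtype.ext hga, Subtype.ext hgb⟩
    rw [← toInd_mul, toInd_eq_one_iff]
    exact hgg
  · obtain ⟨g, hg, hgl, hgm, ⟨q, hq, hgq⟩, hgg⟩ :=
      pair_involution (P := Configuration.Dual L) (L := Configuration.Dual P) (h.dual L) (by rwa [ord_dual]) hU.dual
        l.2 m.2 fun e => hlm (Subtype.ext e)
    refine ⟨toInd P L ⟨g, hg⟩, ?_, fun e => hgq ?_, Subtype.ext hgl, Subtype.ext hgm⟩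
    · haveI := isPlaneAction_ind (P := P) (L := L) U
      refine IsPlaneAction.eq_one (P := Configuration.Dual (fixedPoints U L))
        (L := Configuration.Dual (fixedPoints U P)) _ fun r : fixedPoints U L => Subtype.ext ?_
      rw [← toInd_mul]
      exact (toInd_smul_ln (P := P) (L := L) _ _).trans (hgg _ r.2)
    · have := toInd_smul_ln (P := P) (L := L) (⟨g, hg⟩ : nrm G U) ⟨q, hq⟩
      rw [e, one_smul] at this
      exact this.symm
  · rcases axis_or_quad (P := fixedPoints U P) (L := fixedPoints U L) h2 h1 with ⟨a, ha⟩ | hq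
    · obtain ⟨C, hC⟩ := ha.exists_centre
      refine ⟨C, a, ha, hC, fun hCa => ?_⟩
      have hd : orderOf x ∣ Nat.card (elCentre (Ind G P L U) C a) := by
        have := orderOf_dvd_natCard (⟨x, isElation_of_centre_mem ha hC hCa, hC⟩ : elCentre (Ind G P L U) C a)
        rw [← Subgroup.orderOf_coe] at this
        exact this
      rw [orderOf_eq_prime (p := 2) (by rw [pow_two, h2]) h1] at hd
      exact Nat.not_even_iff_odd.2 hodd (even_iff_two_dvd.2 (hd.trans (card_elCentre_dvd hCa)))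
    · exfalso
      obtain ⟨g₀, hg₀⟩ := toInd_surjective x
      obtain ⟨g, hgz, hg2, hg1⟩ := exists_p_lift (p := 2) (indMap G P L U).rangeRestrict g₀ (fun e => h1 (hg₀.symm.trans e)) (i := 1)
        (by rw [pow_one, pow_two]; exact (congrArg₂ (· * ·) hg₀ hg₀).trans h2)
      obtain ⟨j, hj⟩ := Subgroup.mem_zpowers_iff.1 hgz
      have hgU : (g : G) ∈ U := by
        refine hU.mem g.2 ?_ (quad_image hq) (fun _ ⟨r, _, e⟩ => e ▸ r.2) ?_
        · have := hg2.map (nrm G U).subtype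
          rwa [MonoidHom.map_zpowers] at this
        · rintro _ ⟨r, hr, rfl⟩
          have h3 : toInd P L g • r = r := by
            rw [← hj, show toInd P L (g₀ ^ j) = x ^ j by rw [← hg₀]; exact map_zpow _ _ _]
            exact mem_stabilizer_iff.1 ((stabilizer _ r).zpow_mem (mem_stabilizer_iff.2 hr) j)
          exact congrArg Subtype.val h3
      exact hg1 ((toInd_eq_one_iff g).2 fun p hp => mem_fixed_iff.1 hp _ hgU)

end CfsgLib.OstromWagner
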