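import Cfsg.Agent.Lib.OstromWagner.FixedPlane

/-!
# Fixed point free elements of prime order, and polarities without absolute points
-/

set_option autoImplicit false
set_option linter.unusedSectionVars false

namespace CfsgLib.OstromWagner

open Configuration MulAction

theorem dvd_ncard_of_moved {G X : Type*} [Group G] [MulAction G X] [Finite G] [Finite X] {g : G} {p : ℕ}
    (hp : p.Prime) (hg : g ^ p = 1) {S : Set X} (hS : ∀ x ∈ S, g • x ∈ S) (hmov : ∀ x ∈ S, g • x ≠ x) :
    p ∣ S.ncard := by
  rcases S.eq_empty_or_nonempty with rfl | ⟨x₀, hx₀⟩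
  · simp
  have hne : g ≠ 1 := fun e => hmov x₀ hx₀ (by rw [e, one_smul])
  haveI : Fact p.Prime := ⟨hp⟩
  have hord : orderOf g = p := orderOf_eq_prime hg hne
  have hpow : ∀ (i : ℕ) (x : X), x ∈ S → g ^ i • x ∈ S := fun i => by
    induction i with
    | zero => exact fun x hx => by rwa [pow_zero, one_smul]
    | succ i ih => exact fun x hx => by rw [pow_succ', mul_smul]; exact hS _ (ih x hx)
  rw [← hord, ← Nat.card_zpowers]
  refine card_dvd_ncard_of_free _ S (fun h hh x hx => ?_) fun h hh x hx hfix => ?_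
  · obtain ⟨i, rfl⟩ := (isOfFinOrder_of_finite g).mem_powers_iff_mem_zpowers.2 hh
    exact hpow i x hx
  · by_contra hh1
    have hle : Subgroup.zpowers h ≤ stabilizer G x :=
      (Subgroup.zpowers_le).2 (mem_stabilizer_iff.2 hfix)
    have heq : Subgroup.zpowers h = Subgroup.zpowers g :=
      Subgroup.eq_of_le_of_card_ge ((Subgroup.zpowers_le).2 hh) (by
        rw [Nat.card_zpowers, Nat.card_zpowers, hord]
        have hd : orderOf h ∣ p := hord ▸ orderOf_dvd_of_mem_zpowers hh
        rcases (Nat.dvd_prime hp).1 hd with h1 | h1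
        · exact absurd (orderOf_eq_one_iff.1 h1) hh1
        · exact h1.ge)
    exact hmov x hx (mem_stabilizer_iff.1 (hle (heq ▸ Subgroup.mem_zpowers g)))

/-- An involution fixes as many points of an invariant set as the set has, modulo two. -/
theorem odd_iff_fixed {G X : Type*} [Group G] [MulAction G X] [Finite G] [Finite X] {g : G} (hg : g * g = 1)
    {S : Set X} (hS : ∀ x ∈ S, g • x ∈ S) : Odd S.ncard ↔ Odd {x ∈ S | g • x = x}.ncard := by
  have hd : 2 ∣ {x ∈ S | g • x ≠ x}.ncard := dvd_ncard_of_moved Nat.prime_two (by rw [pow_two, hg])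
    (fun x hx => ⟨hS x hx.1, fun e => hx.2 (smul_left_cancel g e)⟩) fun x hx => hx.2
  have hsplit : {x ∈ S | g • x = x}.ncard + {x ∈ S | g • x ≠ x}.ncard = S.ncard := by
    rw [← Set.ncard_union_eq (Set.disjoint_left.2 fun x h1 h2 => h2.2 h1.2) (Set.toFinite _) (Set.toFinite _)]
    congr 1
    ext x
    simp only [Set.mem_union, Set.mem_ofPred_eq]
    tauto
  rw [Nat.odd_iff, Nat.odd_iff]
  omega

/-- An involution fixes a point of an invariant set of odd size. -/
theorem exists_fixed_of_odd {G X : Type*} [Group G] [MulAction G X] [Finite G] [Finite X] {g : G} (hg : g * g = 1)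
    {S : Set X} (hS : ∀ x ∈ S, g • x ∈ S) (hodd : Odd S.ncard) : ∃ x ∈ S, g • x = x := by
  have h := (odd_iff_fixed hg hS).1 hodd
  obtain ⟨x, hx⟩ : {x ∈ S | g • x = x}.Nonempty := by
    by_contra hne
    rw [Set.not_nonempty_iff_eq_empty] at hne
    rw [hne, Set.ncard_empty] at h
    exact absurd h (by simp)
  exact ⟨x, hx.1, hx.2⟩

variable {P L : Type*} [Membership P L] [ProjectivePlane P L] [Finite P] [Finite L]

open scoped Classical in
/-- A polarity has absolute points. -/
theorem no_polarity (π : P → L) (hbij : Function.Bijective π) (hsym : ∀ p q, p ∈ π q → q ∈ π p)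
    (habs : ∀ p, p ∉ π p) : False := by
  cases nonempty_fintype P
  obtain ⟨p, hp, hdvd⟩ := Nat.exists_prime_and_dvd (n := ord P L) (by
    have := one_lt_ord (P := P) (L := L)
    omega)
  haveI : Fact p.Prime := ⟨hp⟩
  have hn : (ord P L : ZMod p) = 0 := (ZMod.natCast_eq_zero_iff _ _).2 hdvd
  let M : Matrix P P (ZMod p) := Matrix.of fun x y => if x ∈ π y then 1 else 0
  let J : Matrix P P (ZMod p) := Matrix.of fun _ _ => 1
  have hMM : M * M = J := Matrix.ext fun x y => by
    simp only [M, J, Matrix.mul_apply, Matrix.of_apply, ← ite_and, mul_ite, mul_one, mul_zero,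
      Finset.sum_boole]
    have hset : (Finset.univ.filter fun z => z ∈ π y ∧ x ∈ π z) = {z | z ∈ π y ∧ z ∈ π x}.toFinset := by
      ext z
      simp only [Finset.mem_filter, Finset.mem_univ, true_and, Set.mem_toFinset, Set.mem_ofPred_eq]
      exact and_congr_right fun _ => ⟨hsym x z, hsym z x⟩
    rw [hset, ← Set.ncard_eq_toFinset_card', ncard_meet]
    split_ifs <;> simp [hn]
  have hJM : J * M = J := Matrix.ext fun x y => by
    simp only [M, J, Matrix.mul_apply, Matrix.of_apply, one_mul, Finset.sum_boole]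
    rw [show (Finset.univ.filter fun z => z ∈ π y) = {z | z ∈ π y}.toFinset by ext; simp,
      ← Set.ncard_eq_toFinset_card', ncard_on]
    simp [hn]
  have hpow : ∀ k, M ^ (k + 2) = J := fun k => by
    induction k with
    | zero => rw [pow_two]; exact hMM
    | succ k ih => rw [pow_succ, ih, hJM]
  have h1 : Matrix.trace (M ^ p) = Matrix.trace M ^ p := ZMod.trace_pow_card M
  obtain ⟨k, hk⟩ := Nat.exists_eq_add_of_le hp.two_le
  rw [show M ^ p = J by rw [← hpow k]; congr 1; omega] at h1
  have h2 : Matrix.trace M = 0 := by simp [Matrix.trace, M, habs]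
  have h3 : Matrix.trace J = 1 := by
    simp [Matrix.trace, J, ← Nat.card_eq_fintype_card, card_pts (L := L), hn]
  rw [h2, h3, zero_pow (by omega)] at h1
  exact one_ne_zero h1

end CfsgLib.OstromWagner
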