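import Cfsg.Agent.Lib.OstromWagner.Basic

/-!
# Perspectivities and groups of elations
-/

set_option autoImplicit false
set_option linter.unusedSectionVars false

namespace CfsgLib.OstromWagner

open Configuration MulAction

variable {G P L : Type*} [Group G] [MulAction G P] [MulAction G L] [Membership P L]

/-- Every point of `a` is fixed. -/
def IsAxis (g : G) (a : L) : Prop := ∀ p : P, p ∈ a → g • p = p

variable (L) in
/-- Every line through `c` is fixed. -/
def IsCentre (g : G) (c : P) : Prop := ∀ l : L, c ∈ l → g • l = l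

theorem isAxis_one (a : L) : IsAxis (1 : G) a := fun p _ => one_smul G p

theorem IsAxis.mul {g h : G} {a : L} (hg : IsAxis g a) (hh : IsAxis h a) : IsAxis (g * h) a :=
  fun p hp => by rw [mul_smul, hh p hp, hg p hp]

theorem IsAxis.inv {g : G} {a : L} (hg : IsAxis g a) : IsAxis g⁻¹ a :=
  fun p hp => inv_smul_eq_iff.2 (hg p hp).symm

variable (G) in
/-- The group of perspectivities with axis `a`. -/
def axisGroup (a : L) : Subgroup G where
  carrier := {g | IsAxis g a}
  one_mem' := isAxis_one a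
  mul_mem' := IsAxis.mul
  inv_mem' := IsAxis.inv

@[simp] theorem mem_axisGroup {g : G} {a : L} : g ∈ axisGroup G a ↔ IsAxis g a := Iff.rfl

variable (G L) in
/-- The group of perspectivities with centre `c`. -/
def centreGroup (c : P) : Subgroup G := axisGroup G (P := Configuration.Dual L) (L := Configuration.Dual P) c

@[simp] theorem mem_centreGroup {g : G} {c : P} : g ∈ centreGroup G L c ↔ IsCentre L g c := Iff.rfl

theorem IsCentre.mul {g h : G} {c : P} (hg : IsCentre L g c) (hh : IsCentre L h c) : IsCentre L (g * h) c :=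
  (centreGroup G L c).mul_mem hg hh

theorem IsCentre.inv {g : G} {c : P} (hg : IsCentre L g c) : IsCentre L g⁻¹ c :=
  (centreGroup G L c).inv_mem hg

variable [IsPlaneAction G P L]

theorem IsAxis.conj {g : G} {a : L} (hg : IsAxis g a) (h : G) : IsAxis (h * g * h⁻¹) (h • a) := fun p hp => by
  rw [mul_smul, mul_smul, hg _ ((mem_smul_line_iff h p a).1 hp), smul_inv_smul]

theorem IsCentre.conj {g : G} {c : P} (hg : IsCentre L g c) (h : G) : IsCentre L (h * g * h⁻¹) (h • c) :=
  fun l hl => by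
    rw [mul_smul, mul_smul, hg (h⁻¹ • l) ?_, smul_inv_smul]
    rwa [← smul_mem_iff h, smul_inv_smul]

variable [ProjectivePlane P L]

theorem IsAxis.smul_axis {g : G} {a : L} (hg : IsAxis g a) [Finite P] [Finite L] : g • a = a := by
  obtain ⟨p₀, -⟩ := Nondegenerate.exists_point (P := P) a
  obtain ⟨p, hp, -, -⟩ := exists_on_ne_ne a p₀ p₀
  obtain ⟨q, hq, hqp, -⟩ := exists_on_ne_ne a p p
  exact smul_line_eq hqp (hg q hq) (hg p hp) hq hp

variable [Finite P] [Finite L]

theorem IsCentre.smul_centre {g : G} {c : P} (hg : IsCentre L g c) : g • c = c :=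
  IsAxis.smul_axis (G := G) (P := Configuration.Dual L) (L := Configuration.Dual P) hg

/-- A line through a moved point and its image is fixed. -/
theorem IsAxis.smul_line {g : G} {a l : L} (hg : IsAxis g a) {p : P} (hp : p ∉ a) (hpl : p ∈ l)
    (hgp : g • p ∈ l) : g • l = l := by
  obtain ⟨x, hxl, hxa⟩ := exists_meet (P := P) (show l ≠ a from fun e => hp (e ▸ hpl))
  have hne : g • p ≠ x := fun e => hp (by
    have h1 : p = x := smul_left_cancel g (e.trans (hg x hxa).symm)
    exact h1 ▸ hxa)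
  exact line_eq hne ((smul_mem_iff g p l).2 hpl) ((mem_of_fix (hg x hxa)).2 hxl) hgp hxl

theorem IsAxis.eq_one_of_ne {g : G} {a b : L} (ha : IsAxis g a) (hb : IsAxis g b) (hab : a ≠ b) : g = 1 := by
  refine IsPlaneAction.eq_one (P := P) (L := L) g fun p => ?_
  by_cases hpa : p ∈ a
  · exact ha p hpa
  by_cases hpb : p ∈ b
  · exact hb p hpb
  obtain ⟨x, hxa, hxb⟩ := exists_meet (P := P) hab
  obtain ⟨l₀, hpl₀, hxl₀⟩ := exists_line (L := L) (show p ≠ x from fun e => hpa (e ▸ hxa))
  have key : ∀ l : L, p ∈ l → l ≠ l₀ → g • l = l := fun l hl hne => by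
    have hla : l ≠ a := fun e => hpa (e ▸ hl)
    have hlb : l ≠ b := fun e => hpb (e ▸ hl)
    obtain ⟨y, hyl, hya⟩ := exists_meet (P := P) hla
    obtain ⟨z, hzl, hzb⟩ := exists_meet (P := P) hlb
    have hyz : y ≠ z := by
      rintro rfl
      obtain rfl := point_eq hab hya hzb hxa hxb
      exact hne (line_eq (fun e => hpa (by rw [e]; exact hya)) hl hyl hpl₀ hxl₀)
    exact smul_line_eq hyz (ha y hya) (hb z hzb) hyl hzl
  obtain ⟨l₁, h₁, h₁₀, -⟩ := exists_through_ne_ne p l₀ l₀
  obtain ⟨l₂, h₂, h₂₀, h₂₁⟩ := exists_through_ne_ne p l₀ l₁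
  exact smul_point_eq h₂₁ (key l₂ h₂ h₂₀) (key l₁ h₁ h₁₀) h₂ h₁

theorem IsAxis.unique {g : G} {a b : L} (ha : IsAxis g a) (hb : IsAxis g b) (hg : g ≠ 1) : a = b :=
  by_contra fun h => hg (ha.eq_one_of_ne hb h)

theorem IsCentre.unique {g : G} {c d : P} (hc : IsCentre L g c) (hd : IsCentre L g d) (hg : g ≠ 1) : c = d :=
  IsAxis.unique (G := G) (P := Configuration.Dual L) (L := Configuration.Dual P) hc hd hg

/-- A fixed point off the axis is a centre. -/
theorem IsAxis.isCentre_of_fix {g : G} {a : L} (hg : IsAxis g a) {p : P} (hp : p ∉ a) (hfix : g • p = p) :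
    IsCentre L g p := fun l hl => hg.smul_line hp hl (by rwa [hfix])

/-- A perspectivity has a centre. -/
theorem IsAxis.exists_centre {g : G} {a : L} (hg : IsAxis g a) : ∃ c : P, IsCentre L g c := by
  by_cases hfix : ∃ p : P, p ∉ a ∧ g • p = p
  · obtain ⟨p, hp, hfix⟩ := hfix
    exact ⟨p, hg.isCentre_of_fix hp hfix⟩
  push Not at hfix
  have hline : ∀ p : P, p ∉ a → ∃ l : L, p ∈ l ∧ g • l = l ∧ l ≠ a := fun p hp => by
    obtain ⟨l, hpl, hgl⟩ := exists_line (L := L) (Ne.symm (hfix p hp))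
    exact ⟨l, hpl, hg.smul_line hp hpl hgl, fun e => hp (e ▸ hpl)⟩
  obtain ⟨p₀, hp₀⟩ := Nondegenerate.exists_point (P := P) a
  obtain ⟨l₀, hpl₀, hl₀, hl₀a⟩ := hline p₀ hp₀
  obtain ⟨x, hxl₀, hxa⟩ := exists_meet (P := P) hl₀a
  refine ⟨x, fun m hm => ?_⟩
  by_cases hma : m = a
  · exact hma ▸ hg.smul_axis
  obtain ⟨p, hpm, hpx, -⟩ := exists_on_ne_ne m x x
  have hpa : p ∉ a := fun h => hpx (point_eq hma hpm h hm hxa)
  obtain ⟨l, hpl, hl, hla⟩ := hline p hpa
  suffices x ∈ l by rw [line_eq hpx hpm hm hpl this]; exact hl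
  by_cases hll : l = l₀
  · exact hll ▸ hxl₀
  obtain ⟨y, hyl, hyl₀⟩ := exists_meet (P := P) hll
  have hya : y ∈ a := by_contra fun h => hfix y h (smul_point_eq hll hl hl₀ hyl hyl₀)
  rwa [point_eq hl₀a hxl₀ hxa hyl₀ hya]

theorem IsCentre.exists_axis {g : G} {c : P} (hg : IsCentre L g c) : ∃ a : L, IsAxis g a :=
  IsAxis.exists_centre (G := G) (P := Configuration.Dual L) (L := Configuration.Dual P) hg

/-- The fixed points of a perspectivity. -/
theorem IsAxis.mem_of_fix {g : G} {a : L} {c p : P} (hg : IsAxis g a) (hc : IsCentre L g c) (hne : g ≠ 1)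
    (hp : g • p = p) : p ∈ a ∨ p = c :=
  or_iff_not_imp_left.2 fun h => (hg.isCentre_of_fix h hp).unique hc hne

/-- The fixed lines of a perspectivity. -/
theorem IsAxis.mem_of_fix_line {g : G} {a l : L} {c : P} (hg : IsAxis g a) (hc : IsCentre L g c) (hne : g ≠ 1)
    (hl : g • l = l) : c ∈ l ∨ l = a :=
  IsAxis.mem_of_fix (G := G) (P := Configuration.Dual L) (L := Configuration.Dual P) hc hg hne hl

/-- An elation with axis `a`, or the identity. -/
def IsElation (g : G) (a : L) : Prop := IsAxis g a ∧ ∀ p : P, p ∉ a → g • p = p → g = 1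

theorem IsElation.centre_mem {g : G} {a : L} {c : P} (he : IsElation g a) (hc : IsCentre L g c) (hne : g ≠ 1) :
    c ∈ a :=
  by_contra fun h => hne (he.2 c h hc.smul_centre)

theorem isElation_of_centre_mem {g : G} {a : L} {c : P} (hg : IsAxis g a) (hc : IsCentre L g c) (hca : c ∈ a) :
    IsElation g a := by
  refine ⟨hg, fun p hp hfix => by_contra fun hne => ?_⟩
  rcases hg.mem_of_fix hc hne hfix with h | h
  · exact hp h
  · exact hp (h ▸ hca)

variable (G) in
/-- The group of elations with axis `a`. -/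
def elGroup (a : L) : Subgroup G where
  carrier := {g | IsElation g a}
  one_mem' := ⟨isAxis_one a, fun _ _ _ => rfl⟩
  inv_mem' {g} hg := ⟨hg.1.inv, fun p hp h => inv_eq_one.2 (hg.2 p hp (inv_smul_eq_iff.1 h).symm)⟩
  mul_mem' {e f} he hf := by
    refine ⟨he.1.mul hf.1, fun p hp hfix => ?_⟩
    by_cases hq : f • p = p
    · have hf1 := hf.2 p hp hq
      rw [hf1, mul_one] at hfix ⊢
      exact he.2 p hp hfix
    by_cases he1 : e = 1
    · rw [he1, one_mul] at hfix
      exact absurd hfix hq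
    have hf1 : f ≠ 1 := fun h => hq (by rw [h, one_smul])
    obtain ⟨x, hx⟩ := he.1.exists_centre
    obtain ⟨y, hy⟩ := hf.1.exists_centre
    have hxa := he.centre_mem hx he1
    have hya := hf.centre_mem hy hf1
    obtain ⟨l, hpl, hyl⟩ := exists_line (L := L) (show p ≠ y from fun h => hp (h ▸ hya))
    have hql : f • p ∈ l := (smul_mem_of_fix (hy l hyl)).2 hpl
    have hqa : f • p ∉ a := fun h => hp ((smul_mem_of_fix hf.1.smul_axis).1 h)
    have hepl : e • (f • p) ∈ l := by rwa [← mul_smul, hfix]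
    have hel : e • l = l := he.1.smul_line hqa hql hepl
    have hxl : x ∈ l := by
      rcases he.1.mem_of_fix_line hx he1 hel with h | h
      · exact h
      · exact absurd (h ▸ hpl) hp
    have hxy : x = y := point_eq (show l ≠ a from fun h => hp (h ▸ hpl)) hxl hxa hyl hya
    by_contra hne
    rcases (he.1.mul hf.1).mem_of_fix (hx.mul (hxy ▸ hy)) hne hfix with h | h
    · exact hp h
    · exact hp (h ▸ hxa)

@[simp] theorem mem_elGroup {g : G} {a : L} : g ∈ elGroup G a ↔ IsElation g a := Iff.rfl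

theorem IsElation.conj {g : G} {a : L} (he : IsElation g a) (h : G) : IsElation (h * g * h⁻¹) (h • a) :=
  ⟨he.1.conj h, fun p hp hfix => by
    have h1 := he.2 (h⁻¹ • p) (fun hm => hp ((mem_smul_line_iff h p a).2 hm)) (by
      rwa [mul_smul, mul_smul, ← eq_inv_smul_iff] at hfix)
    rw [h1, mul_one, mul_inv_cancel]⟩

/-- An elation seen in the dual plane. -/
theorem IsElation.dual {g : G} {a : L} {c : P} (he : IsElation g a) (hc : IsCentre L g c) :
    IsElation (P := Configuration.Dual L) (L := Configuration.Dual P) g c := by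
  refine ⟨hc, fun l hl hfix => by_contra fun hne => ?_⟩
  rcases he.1.mem_of_fix_line hc hne hfix with h | h
  · exact hl h
  · exact hl (h ▸ he.centre_mem hc hne)

end CfsgLib.OstromWagner
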