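import Cfsg.Agent.Lib.OstromWagner.Transitive

/-!
# The spread of a translation plane
-/

set_option autoImplicit false
set_option linter.unusedSectionVars false

namespace CfsgLib.OstromWagner

open Configuration MulAction

variable {G P L : Type*} [Group G] [MulAction G P] [MulAction G L] [Membership P L] [IsPlaneAction G P L]
  [ProjectivePlane P L] [Finite P] [Finite L] [Finite G] {p k : ℕ}

theorem Full.exists_ne_one (h : Full G P L p k) (x : P) (a : L) (hx : x ∈ a) : ∃ e ∈ elCentre G x a, e ≠ 1 := by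
  by_contra hall
  push Not at hall
  have h1 := h.card x a hx
  rw [Subgroup.card_eq_one.2 ((Subgroup.eq_bot_iff_forall _).2 hall)] at h1
  have := one_lt_ord (P := P) (L := L)
  omega

theorem Full.comm (h : Full G P L p k) (a : L) {e f : G} (he : e ∈ elGroup G a) (hf : f ∈ elGroup G a) :
    e * f = f * e :=
  comm_of_flag h.exists_ne_one a e he f hf

theorem Full.card_elGroup (h : Full G P L p k) (a : L) : Nat.card (elGroup G a) = ord P L ^ 2 := by
  rw [card_elGroup_eq a fun x hx => h.card x a hx]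
  obtain ⟨m, hm⟩ : ∃ m, ord P L = m + 1 := ⟨ord P L - 1, (Nat.succ_pred_eq_of_pos ord_pos).symm⟩
  rw [hm, Nat.add_sub_cancel]
  ring

/-- The elations with axis `a` are transitive off `a`. -/
theorem Full.exists_translation (h : Full G P L p k) {a : L} {O q : P} (hO : O ∉ a) (hq : q ∉ a) :
    ∃ e ∈ elGroup G a, e • O = q := by
  have hsub : orbit (elGroup G a) O ⊆ {r : P | r ∉ a} := by
    rintro _ ⟨e, rfl⟩
    exact smul_off e.2.1 hO
  have heq : orbit (elGroup G a) O = {r : P | r ∉ a} := by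
    refine Set.eq_of_subset_of_ncard_le hsub ?_ (Set.toFinite _)
    rw [ncard_off, ncard_orbit_elGroup hO, h.card_elGroup]
  obtain ⟨e, he⟩ : q ∈ orbit (elGroup G a) O := heq ▸ hq
  exact ⟨e, e.2, he⟩

/-- Translations along a direction. -/
theorem mem_elCentre_iff {a l : L} {O x : P} (hO : O ∉ a) (hx : x ∈ a) (hOl : O ∈ l) (hxl : x ∈ l) {e : G}
    (he : e ∈ elGroup G a) : e • O ∈ l ↔ e ∈ elCentre G x a := by
  refine ⟨fun heO => ?_, fun hex => (smul_mem_of_fix ((mem_centreGroup.1 hex.2) l hxl)).2 hOl⟩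
  refine ⟨he, ?_⟩
  by_cases h1 : e = 1
  · subst h1
    exact one_mem _
  obtain ⟨c, hc⟩ := he.1.exists_centre
  have hca := he.centre_mem hc h1
  obtain ⟨m, hOm, hcm⟩ := exists_line (L := L) (show O ≠ c from fun e' => hO (e' ▸ hca))
  have hne : e • O ≠ O := fun e' => h1 (he.2 O hO e')
  have hlm : l = m := line_eq hne heO hOl ((smul_mem_of_fix (hc m hcm)).2 hOm) hOm
  subst hlm
  exact mem_centreGroup.2 (point_eq (show l ≠ a from fun e' => hO (e' ▸ hOl)) hcm hca hxl hx ▸ hc)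

theorem elCentre_inf {a : L} {x y : P} (hxy : x ≠ y) {e : G} (hx : e ∈ elCentre G x a) (hy : e ∈ elCentre G y a) :
    e = 1 :=
  by_contra fun h1 => hxy ((mem_centreGroup.1 hx.2).unique (mem_centreGroup.1 hy.2) h1)

theorem exists_component (a : L) {O : P} (hO : O ∉ a) {e : G} (he : e ∈ elGroup G a) :
    ∃ x, x ∈ a ∧ e ∈ elCentre G x a := by
  by_cases h1 : e = 1
  · obtain ⟨x, hx, -⟩ := exists_on_ne_ne a O O
    exact ⟨x, hx, h1 ▸ one_mem _⟩
  obtain ⟨c, hc⟩ := he.1.exists_centre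
  exact ⟨c, he.centre_mem hc h1, he, hc⟩

/-- Two directions span the translations. -/
theorem Full.exists_decomp (h : Full G P L p k) {a : L} {x y : P} (hx : x ∈ a) (hy : y ∈ a) (hxy : x ≠ y) {e : G}
    (he : e ∈ elGroup G a) : ∃ u ∈ elCentre G x a, ∃ v ∈ elCentre G y a, u * v = e := by
  let f : elCentre G x a × elCentre G y a → elGroup G a :=
    fun w => ⟨(w.1 : G) * w.2, mul_mem w.1.2.1 w.2.2.1⟩
  have hinj : Function.Injective f := by
    rintro ⟨u, v⟩ ⟨u', v'⟩ huv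
    have he' : (u : G) * v = u' * v' := congrArg Subtype.val huv
    have h1 : (u' : G)⁻¹ * u = v' * (v : G)⁻¹ := by
      rw [eq_mul_inv_iff_mul_eq, mul_assoc, he', inv_mul_cancel_left]
    have h2 := elCentre_inf hxy (mul_mem (inv_mem u'.2) u.2) (h1 ▸ mul_mem v'.2 (inv_mem v.2))
    refine Prod.ext (Subtype.ext (inv_mul_eq_one.1 h2).symm) (Subtype.ext (mul_inv_eq_one.1 (h1 ▸ h2)).symm)
  have hbij : Function.Bijective f := by
    refine (Nat.bijective_iff_injective_and_card _).2 ⟨hinj, ?_⟩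
    rw [Nat.card_prod, h.card x a hx, h.card y a hy, h.card_elGroup, pow_two]
  obtain ⟨⟨u, v⟩, huv⟩ := hbij.2 ⟨e, he⟩
  exact ⟨u, u.2, v, v.2, congrArg Subtype.val huv⟩

theorem elCentre_cancel_left {a : L} {X z : P} (hzX : z ≠ X) {u v v' : G} (hv : v ∈ elCentre G X a)
    (hv' : v' ∈ elCentre G X a) (h1 : u * v ∈ elCentre G z a) (h2 : u * v' ∈ elCentre G z a) : v = v' := by
  have h3 : v⁻¹ * v' ∈ elCentre G z a := by
    have := mul_mem (inv_mem h1) h2
    rwa [mul_inv_rev, mul_assoc, inv_mul_cancel_left] at this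
  exact inv_mul_eq_one.1 (elCentre_inf hzX h3 (mul_mem (inv_mem hv) hv'))

theorem elCentre_cancel_right {a : L} {Y z : P} (hzY : z ≠ Y) {u u' v : G} (hu : u ∈ elCentre G Y a)
    (hu' : u' ∈ elCentre G Y a) (h1 : u * v ∈ elCentre G z a) (h2 : u' * v ∈ elCentre G z a) : u = u' := by
  have h3 : u * u'⁻¹ ∈ elCentre G z a := by
    have := mul_mem h1 (inv_mem h2)
    rwa [mul_inv_rev, mul_assoc, mul_inv_cancel_left] at this
  exact mul_inv_eq_one.1 (elCentre_inf hzY h3 (mul_mem hu (inv_mem hu')))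

/-- The map whose graph is a component of the spread. -/
theorem Full.exists_slope (h : Full G P L p k) {a : L} {X Y z : P} (hX : X ∈ a) (hY : Y ∈ a) (hz : z ∈ a)
    (hzX : z ≠ X) : ∃ f : elCentre G Y a →* elCentre G X a, ∀ u : elCentre G Y a, (u : G) * f u ∈ elCentre G z a := by
  have hex : ∀ u : elCentre G Y a, ∃ v : elCentre G X a, (u : G) * v ∈ elCentre G z a := fun u => by
    obtain ⟨c, hc, v, hv, hcv⟩ := h.exists_decomp hz hX hzX u.2.1
    exact ⟨⟨v⁻¹, inv_mem hv⟩, by simpa [← hcv] using hc⟩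
  choose f hf using hex
  refine ⟨MonoidHom.mk' f fun u v => Subtype.ext (elCentre_cancel_left hzX (f (u * v)).2
    (mul_mem (f u).2 (f v).2) (hf (u * v)) ?_), hf⟩
  have := mul_mem (hf u) (hf v)
  rw [Subgroup.coe_mul]
  rwa [mul_assoc, ← mul_assoc (f u : G) (v : G), h.comm a (f u).2.1 v.2.1, mul_assoc (v : G), ← mul_assoc] at this

/-- The spread set is closed under addition. -/
theorem Full.slope_add (h : Full G P L p k) {a : L} {O X Y z x : P} (hO : O ∉ a) (hX : X ∈ a) (hY : Y ∈ a)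
    (hXY : X ≠ Y) (hz : z ∈ a) (hzX : z ≠ X) (hx : x ∈ a) (hxX : x ≠ X) :
    ∃ w, w ∈ a ∧ w ≠ X ∧ ∀ u v v' : G, u ∈ elCentre G Y a → v ∈ elCentre G X a → v' ∈ elCentre G X a →
      u * v ∈ elCentre G z a → u * v' ∈ elCentre G x a → u * (v * v') ∈ elCentre G w a := by
  obtain ⟨b, hOb, hXb⟩ := exists_line (L := L) (show O ≠ X from fun e => hO (e ▸ hX))
  have hoff : ∀ {q : P}, q ∈ a → q ≠ X → q ∉ b := fun hqa hqX hqb =>
    hqX (point_eq (show a ≠ b from fun e => hO (e ▸ hOb)) hqa hqb hX hXb)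
  -- a shear moving `Y` to `z`
  obtain ⟨σ, hσ, hσY⟩ : ∃ σ ∈ elCentre G X b, σ • Y = z := by
    have hsub : orbit (elCentre G X b) Y ⊆ {q : P | q ∈ a ∧ q ≠ X} := by
      rintro _ ⟨g, rfl⟩
      refine ⟨(smul_mem_of_fix ((mem_centreGroup.1 g.2.2) a hX)).2 hY, fun e => hXY ?_⟩
      exact (smul_left_cancel (g : G) ((show (g : G) • Y = X from e).trans (mem_centreGroup.1 g.2.2).smul_centre.symm)).symm
    have heq : orbit (elCentre G X b) Y = {q : P | q ∈ a ∧ q ≠ X} := by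
      refine Set.eq_of_subset_of_ncard_le hsub ?_ (Set.toFinite _)
      rw [ncard_on_ne a hX, ncard_orbit_of_free _ Y (fun g hg hfix => elCentre_free hg (hoff hY hXY.symm) hfix),
        h.card X b hXb]
    obtain ⟨g, hg⟩ : z ∈ orbit (elCentre G X b) Y := heq ▸ ⟨hz, hzX⟩
    exact ⟨g, g.2, hg⟩
  have hσa : σ • a = a := (mem_centreGroup.1 hσ.2) a hX
  have hσO : σ • O = O := hσ.1.1 O hOb
  have hσX : σ • X = X := hσ.1.1 X hXb
  have hmap : ∀ {q : P} {e : G}, e ∈ elCentre G q a → σ * e * σ⁻¹ ∈ elCentre G (σ • q) a := fun {q e} he => by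
    have h1 := IsElation.conj he.1 σ
    rw [hσa] at h1
    exact ⟨h1, IsCentre.conj (L := L) (mem_centreGroup.1 he.2) σ⟩
  have hact : ∀ e : G, (σ * e * σ⁻¹) • O = σ • e • O := fun e => by
    rw [mul_smul, mul_smul, inv_smul_eq_iff.2 hσO.symm]
  have hfixX : ∀ {v : G}, v ∈ elCentre G X a → σ * v * σ⁻¹ = v := fun {v} hv => by
    have h1 : σ • v • O = v • O :=
      hσ.1.1 _ ((smul_mem_of_fix ((mem_centreGroup.1 hv.2) b hXb)).2 hOb)
    have h2 : (v⁻¹ * (σ * v * σ⁻¹)) • O = O := by rw [mul_smul, hact, h1, inv_smul_smul]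
    exact (inv_mul_eq_one.1 ((mul_mem (inv_mem hv.1) (hσX ▸ hmap hv).1 : _ ∈ elGroup G a).2 O hO h2)).symm
  have hshift : ∀ {e : G}, e ∈ elGroup G a → e⁻¹ * (σ * e * σ⁻¹) ∈ elCentre G X a := fun {e} he => by
    have he' : σ * e * σ⁻¹ ∈ elGroup G a := by
      have h1 := IsElation.conj he σ
      rw [hσa] at h1
      exact h1
    refine (mem_elCentre_iff hO hX hOb hXb (mul_mem (inv_mem he) he')).1 ?_
    obtain ⟨l, hel, hXl⟩ := exists_line (L := L) (show e • O ≠ X from fun e' => smul_off he.1 hO (e' ▸ hX))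
    have h2 : e⁻¹ • l = b := by
      have hinvX : e⁻¹ • X = X := inv_smul_eq_iff.2 (he.1 X hX).symm
      refine line_eq (show O ≠ X from fun e' => hO (e' ▸ hX)) ?_ ?_ hOb hXb
      · rw [mem_smul_line_iff, inv_inv]; exact hel
      · rw [mem_smul_line_iff, inv_inv, he.1 X hX]; exact hXl
    rw [mul_smul, hact]
    have h3 : σ • e • O ∈ l := (smul_mem_of_fix ((mem_centreGroup.1 hσ.2) l hXl)).2 hel
    have h4 := (smul_mem_iff e⁻¹ (σ • e • O) l).2 h3
    rwa [h2] at h4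
  refine ⟨σ • x, (smul_mem_of_fix hσa).2 hx, fun e => hxX (smul_left_cancel σ (e.trans hσX.symm)),
    fun u v v' hu hv hv' h1 h2 => ?_⟩
  have hd := hshift hu.1
  have hu' : u * (u⁻¹ * (σ * u * σ⁻¹)) ∈ elCentre G z a := by
    rw [mul_inv_cancel_left]
    exact hσY ▸ hmap hu
  have hveq : v = u⁻¹ * (σ * u * σ⁻¹) := elCentre_cancel_left hzX hv hd h1 hu'
  have h3 := hmap h2
  rw [show σ * (u * v') * σ⁻¹ = σ * u * σ⁻¹ * (σ * v' * σ⁻¹) by group, hfixX hv'] at h3
  rwa [hveq, ← mul_assoc, mul_inv_cancel_left]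

end CfsgLib.OstromWagner
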