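import Cfsg.Agent.Lib.OstromWagner.Elations

/-!
# Transitivity, and full groups of elations
-/

set_option autoImplicit false
set_option linter.unusedSectionVars false

namespace CfsgLib.OstromWagner

open Configuration MulAction

variable (G P L : Type*) [Group G] [MulAction G P] [MulAction G L] [Membership P L]

/-- Doubly transitive on points. -/
def TwoTrans : Prop := ∀ p q r s : P, p ≠ q → r ≠ s → ∃ g : G, g • p = r ∧ g • q = s

/-- Transitive on non-incident point-line pairs. -/
def AntiTrans : Prop := ∀ (p p' : P) (l l' : L), p ∉ l → p' ∉ l' → ∃ g : G, g • p = p' ∧ g • l = l'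

/-- Transitive on incident point-line pairs. -/
def FlagTrans : Prop := ∀ (p p' : P) (l l' : L), p ∈ l → p' ∈ l' → ∃ g : G, g • p = p' ∧ g • l = l'

variable {G P L}

theorem subgroup_smul (H : Subgroup G) (g : H) (p : P) : g • p = (g : G) • p := rfl

instance instIsPlaneActionSubgroup [IsPlaneAction G P L] (H : Subgroup G) : IsPlaneAction H P L where
  smul_mem_smul g p l := smul_mem_iff (g : G) p l
  eq_one g h := Subtype.ext (IsPlaneAction.eq_one (P := P) (L := L) (g : G) h)

theorem orbit_eq_of_card_le_two {H X : Type*} [Group H] [MulAction H X] [Finite X]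
    (hcard : Nat.card (orbitRel.Quotient H X) ≤ 2) (a b c : X) (hab : b ∉ orbit H a) (hcb : c ∉ orbit H b) :
    c ∈ orbit H a := by
  classical
  by_contra hca
  cases nonempty_fintype X
  cases nonempty_fintype (orbitRel.Quotient H X)
  have hne : ∀ x y : X, x ∉ orbit H y →
      (Quotient.mk (orbitRel H X) x : orbitRel.Quotient H X) ≠ Quotient.mk (orbitRel H X) y :=
    fun x y h e => h (orbitRel_apply.1 (Quotient.exact e))
  rw [Nat.card_eq_fintype_card] at hcard
  have h3 : ({Quotient.mk (orbitRel H X) a, Quotient.mk (orbitRel H X) b,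
      Quotient.mk (orbitRel H X) c} : Finset (orbitRel.Quotient H X)).card = 3 :=
    Finset.card_eq_three.2 ⟨_, _, _, (hne b a hab).symm, (hne c a hca).symm, (hne c b hcb).symm, rfl⟩
  have := Finset.card_le_univ
    ({Quotient.mk (orbitRel H X) a, Quotient.mk (orbitRel H X) b,
      Quotient.mk (orbitRel H X) c} : Finset (orbitRel.Quotient H X))
  omega

variable [IsPlaneAction G P L] [ProjectivePlane P L] [Finite P] [Finite L] [Finite G]

theorem line_transitive (hP : ∀ p q : P, ∃ g : G, g • p = q) (l m : L) : ∃ g : G, g • l = m := by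
  have h1 : Subsingleton (orbitRel.Quotient G P) := ⟨fun x y => by
    induction x using Quotient.inductionOn with | _ p => ?_
    induction y using Quotient.inductionOn with | _ q => ?_
    obtain ⟨g, hg⟩ := hP q p
    exact Quotient.sound (orbitRel_apply.2 ⟨g, hg⟩)⟩
  have h2 := card_orbits_eq (G := G) (P := P) (L := L)
  have h3 : Nat.card (orbitRel.Quotient G P) ≤ 1 := Finite.card_le_one_iff_subsingleton.2 h1
  rw [h2, Finite.card_le_one_iff_subsingleton] at h3
  exact orbitRel_apply.1 (Quotient.exact (h3.elim (Quotient.mk (orbitRel G L) m) (Quotient.mk (orbitRel G L) l)))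

theorem TwoTrans.transitive {G P : Type*} [Group G] [MulAction G P] (h : TwoTrans G P) (p q : P) :
    ∃ g : G, g • p = q := by
  by_cases hpq : p = q
  · exact ⟨1, hpq ▸ one_smul G p⟩
  · obtain ⟨g, hg, -⟩ := h p q q p hpq (Ne.symm hpq)
    exact ⟨g, hg⟩

/-- A doubly transitive group is transitive on flags and on antiflags. -/
theorem TwoTrans.flag_anti (h : TwoTrans G P) : FlagTrans G P L ∧ AntiTrans G P L := by
  classical
  have key : ∀ (p : P) (l l' : L), (p ∈ l ↔ p ∈ l') → ∃ g : G, g • p = p ∧ g • l = l' := by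
    intro p l l' hiff
    set H := stabilizer G p with hH
    have hcard : Nat.card (orbitRel.Quotient H L) ≤ 2 := by
      rw [← card_orbits_eq (G := H) (P := P) (L := L)]
      cases nonempty_fintype (orbitRel.Quotient H P)
      cases nonempty_fintype P
      obtain ⟨q, hq, hqp, -⟩ := exists_on_ne_ne l p p
      rw [Nat.card_eq_fintype_card, ← Finset.card_univ]
      refine (Finset.card_le_card (s := Finset.univ)
        (t := {Quotient.mk (orbitRel H P) p, Quotient.mk (orbitRel H P) q}) fun x _ => ?_).trans Finset.card_le_two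
      induction x using Quotient.inductionOn with | _ r => ?_
      by_cases hr : r = p
      · simp [hr]
      · obtain ⟨g, hg, hgr⟩ := h p q p r hqp.symm (Ne.symm hr)
        refine Finset.mem_insert_of_mem (Finset.mem_singleton.2 (Quotient.sound (orbitRel_apply.2 ?_)))
        exact ⟨⟨g, mem_stabilizer_iff.2 hg⟩, hgr⟩
    have hinv : ∀ a b : L, b ∈ orbit H a → (p ∈ a ↔ p ∈ b) := fun a b hb => by
      obtain ⟨g, rfl⟩ := hb
      exact (mem_of_fix (g := (g : G)) (mem_stabilizer_iff.1 g.2)).symm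
    obtain ⟨b, hb⟩ : ∃ b : L, ¬ (p ∈ l ↔ p ∈ b) := by
      by_cases hpl : p ∈ l
      · obtain ⟨b, hb⟩ := Nondegenerate.exists_line (L := L) p
        exact ⟨b, by tauto⟩
      · obtain ⟨q, hq, hqp, -⟩ := exists_on_ne_ne l p p
        obtain ⟨b, hpb, -⟩ := exists_line (L := L) hqp.symm
        exact ⟨b, by tauto⟩
    obtain ⟨g, hg⟩ := orbit_eq_of_card_le_two hcard l b l' (fun e => hb (hinv l b e))
      (fun e => hb (hiff.trans (hinv b l' e).symm))
    exact ⟨g, mem_stabilizer_iff.1 g.2, hg⟩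
  constructor <;> intro p p' l l' hpl hpl'
  · obtain ⟨g, hg⟩ := h.transitive p p'
    obtain ⟨k, hk, hkl⟩ := key p' (g • l) l' (iff_of_true (hg ▸ (smul_mem_iff g p l).2 hpl) hpl')
    exact ⟨k * g, by rw [mul_smul, hg, hk], by rw [mul_smul, hkl]⟩
  · obtain ⟨g, hg⟩ := h.transitive p p'
    obtain ⟨k, hk, hkl⟩ := key p' (g • l) l' (iff_of_false (hg ▸ fun e => hpl ((smul_mem_iff g p l).1 e)) hpl')
    exact ⟨k * g, by rw [mul_smul, hg, hk], by rw [mul_smul, hkl]⟩

/-- A group transitive on antiflags is doubly transitive. -/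
theorem AntiTrans.twoTrans (h : AntiTrans G P L) : TwoTrans G P := by
  classical
  have hP : ∀ p q : P, ∃ g : G, g • p = q := fun p q => by
    obtain ⟨l, hp, hq⟩ := exists_not_mem_two (P := Configuration.Dual L) (L := Configuration.Dual P) p q
    obtain ⟨g, hg, -⟩ := h p q l l hp hq
    exact ⟨g, hg⟩
  -- collinear pairs with a fixed first point
  have hcol : ∀ (p q q' : P) (m : L), q ≠ p → q' ≠ p → p ∈ m → q ∈ m → q' ∈ m →
      ∃ g : G, g • p = p ∧ g • q = q' := by
    intro p q q' m hq hq' hpm hqm hq'm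
    set H := stabilizer G p with hH
    obtain ⟨l₀, hl₀⟩ := Nondegenerate.exists_line (L := L) p
    let f : P → orbitRel.Quotient H L := fun r =>
      if hr : r = p then Quotient.mk (orbitRel H L) l₀
      else Quotient.mk (orbitRel H L) (Classical.choose (exists_line (L := L) (Ne.symm hr)))
    have hf : ∀ r (l : L), r ≠ p → p ∈ l → r ∈ l → f r = Quotient.mk (orbitRel H L) l := fun r l hr hpl hrl => by
      simp only [f, dif_neg hr]
      have hc := Classical.choose_spec (exists_line (L := L) (Ne.symm hr))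
      rw [line_eq (Ne.symm hr) hc.1 hc.2 hpl hrl]
    have hwd : ∀ r s : P, r ∈ orbit H s → f r = f s := by
      rintro r s ⟨g, rfl⟩
      show f (g • s) = f s
      by_cases hs : s = p
      · subst hs
        rw [show g • s = s from mem_stabilizer_iff.1 g.2]
      have hgs : g • s ≠ p := fun e => hs (by
        rw [← smul_left_cancel_iff (g : G), mem_stabilizer_iff.1 g.2]
        exact e)
      obtain ⟨l, hpl, hsl⟩ := exists_line (L := L) (Ne.symm hs)
      rw [hf s l hs hpl hsl, hf (g • s) (g • l) hgs ((mem_of_fix (g := (g : G)) (mem_stabilizer_iff.1 g.2)).2 hpl)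
        ((smul_mem_iff (g : G) s l).2 hsl)]
      exact Quotient.sound (orbitRel_apply.2 ⟨g, rfl⟩)
    let F : orbitRel.Quotient H P → orbitRel.Quotient H L :=
      Quotient.lift f fun r s hrs => hwd r s (orbitRel_apply.1 hrs)
    have hF : Function.Surjective F := fun x => by
      induction x using Quotient.inductionOn with | _ l => ?_
      by_cases hpl : p ∈ l
      · obtain ⟨r, hrl, hrp, -⟩ := exists_on_ne_ne l p p
        exact ⟨Quotient.mk (orbitRel H P) r, hf r l hrp hpl hrl⟩
      · refine ⟨Quotient.mk (orbitRel H P) p, ?_⟩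
        show f p = _
        simp only [f, dif_pos]
        obtain ⟨g, hg, hgl⟩ := h p p l l₀ hpl hl₀
        exact Quotient.sound (orbitRel_apply.2 ⟨⟨g, mem_stabilizer_iff.2 hg⟩, hgl⟩)
    cases nonempty_fintype (orbitRel.Quotient H P)
    cases nonempty_fintype (orbitRel.Quotient H L)
    have hc := card_orbits_eq (G := H) (P := P) (L := L)
    rw [Nat.card_eq_fintype_card, Nat.card_eq_fintype_card] at hc
    have hinj := ((Fintype.bijective_iff_surjective_and_card F).2 ⟨hF, hc⟩).1
    have heq : F (Quotient.mk (orbitRel H P) q') = F (Quotient.mk (orbitRel H P) q) :=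
      (hf q' m hq' hpm hq'm).trans (hf q m hq hpm hqm).symm
    obtain ⟨g, hg⟩ := orbitRel_apply.1 (Quotient.exact (hinj heq))
    exact ⟨g, mem_stabilizer_iff.1 g.2, hg⟩
  have hflag : FlagTrans G P L := fun x y m m' hxm hym => by
    obtain ⟨g, hg⟩ := line_transitive hP m m'
    have hx' : g • x ∈ m' := hg ▸ (smul_mem_iff g x m).2 hxm
    obtain ⟨z, hzm, hzx, hzy⟩ := exists_on_ne_ne m' (g • x) y
    obtain ⟨k, hkz, hk⟩ := hcol z (g • x) y m' hzx.symm hzy.symm hzm hx' hym
    refine ⟨k * g, by rw [mul_smul, hk], ?_⟩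
    rw [mul_smul, hg]
    by_cases hxy : z = y
    · exact absurd hxy hzy
    · exact line_eq hxy ((mem_of_fix hkz).2 hzm) (hk ▸ (smul_mem_iff k (g • x) m').2 hx') hzm hym
  intro p q r s hpq hrs
  obtain ⟨l, hpl, hql⟩ := exists_line (L := L) hpq
  obtain ⟨l', hrl, hsl⟩ := exists_line (L := L) hrs
  obtain ⟨g, hg, hgl⟩ := hflag p r l l' hpl hrl
  have hgq : g • q ≠ r := fun e => hpq (smul_left_cancel g (hg.trans e.symm))
  obtain ⟨k, hk, hks⟩ := hcol r (g • q) s l' hgq hrs.symm hrl (hgl ▸ (smul_mem_iff g q l).2 hql) hsl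
  exact ⟨k * g, by rw [mul_smul, hg, hk], by rw [mul_smul, hks]⟩

variable (G) in
/-- Elations with centre `x` and axis `a`. -/
def elCentre (x : P) (a : L) : Subgroup G := elGroup G a ⊓ centreGroup G L x

omit [Finite G] in
theorem elCentre_free {x : P} {a : L} {g : G} (hg : g ∈ elCentre G x a) {p : P} (hp : p ∉ a) (hfix : g • p = p) :
    g = 1 :=
  hg.1.2 p hp hfix

theorem card_elCentre_dvd {x : P} {a : L} (hx : x ∈ a) : Nat.card (elCentre G x a) ∣ ord P L := by
  obtain ⟨l, hxl, hla, -⟩ := exists_through_ne_ne x a a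
  rw [← ncard_on_ne l hxl]
  refine card_dvd_ncard_of_free _ _ (fun g hg q hq => ⟨(smul_mem_of_fix ((mem_centreGroup.1 hg.2) l hxl)).2 hq.1, fun e => hq.2 ?_⟩)
    fun g hg q hq hfix => elCentre_free hg (fun hqa => hq.2 (point_eq hla hq.1 hqa hxl hx)) hfix
  exact smul_left_cancel g (e.trans ((mem_centreGroup.1 hg.2).smul_centre).symm)

theorem card_elCentre_conj (g : G) (x : P) (a : L) :
    Nat.card (elCentre G (g • x) (g • a)) = Nat.card (elCentre G x a) := by
  symm
  refine Nat.card_congr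
    { toFun := fun e => ⟨g * e * g⁻¹, IsElation.conj e.2.1 g, IsCentre.conj (L := L) (mem_centreGroup.1 e.2.2) g⟩
      invFun := fun e => ⟨g⁻¹ * e * g, ?_⟩
      left_inv := fun e => Subtype.ext (by simp [mul_assoc])
      right_inv := fun e => Subtype.ext (by simp [mul_assoc]) }
  have h1 := IsElation.conj e.2.1 g⁻¹
  have h2 := IsCentre.conj (L := L) (mem_centreGroup.1 e.2.2) g⁻¹
  rw [inv_inv, inv_smul_smul] at h1 h2
  exact ⟨h1, h2⟩

open scoped Classical in
theorem card_elGroup_eq (a : L) {h : ℕ} (hh : ∀ x : P, x ∈ a → Nat.card (elCentre G x a) = h) :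
    Nat.card (elGroup G a) = (ord P L + 1) * (h - 1) + 1 := by
  cases nonempty_fintype (elGroup G a)
  cases nonempty_fintype P
  obtain ⟨p₀, -⟩ := Nondegenerate.exists_point (P := P) a
  let c : elGroup G a → P := fun e => if he : (e : G) = 1 then p₀ else Classical.choose e.2.1.exists_centre
  have hcard : ((Finset.univ : Finset (elGroup G a)).erase 1).card = (ord P L + 1) * (h - 1) := by
    rw [Finset.card_eq_sum_card_fiberwise (f := c) (t := ({p : P | p ∈ a} : Set P).toFinset) fun e he => by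
      have h1 : (e : G) ≠ 1 := fun e1 => (Finset.mem_erase.1 he).1 (Subtype.ext e1)
      simp only [Set.coe_toFinset, Set.mem_ofPred_eq, c, dif_neg h1]
      exact e.2.centre_mem (Classical.choose_spec e.2.1.exists_centre) h1]
    rw [Finset.sum_congr rfl fun x hx => ?_, Finset.sum_const, smul_eq_mul, ← Set.ncard_eq_toFinset_card', ncard_on]
    have hx' : x ∈ a := Set.mem_toFinset.1 hx
    rw [← hh x hx']
    cases nonempty_fintype (elCentre G x a)
    rw [Nat.card_eq_fintype_card, ← Finset.card_univ, ← Finset.card_erase_of_mem (Finset.mem_univ (1 : elCentre G x a))]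
    refine Finset.card_bij (fun e he => ⟨(e : G), e.2, ?_⟩) (fun e he => ?_) (fun x _ y _ e => ?_) fun e he => ?_
    · obtain ⟨he1, hec⟩ := Finset.mem_filter.1 he
      have h1 : (e : G) ≠ 1 := fun e1 => (Finset.mem_erase.1 he1).1 (Subtype.ext e1)
      simp only [c, dif_neg h1] at hec
      exact hec ▸ Classical.choose_spec e.2.1.exists_centre
    · refine Finset.mem_erase.2 ⟨fun e1 => ?_, Finset.mem_univ _⟩
      exact (Finset.mem_erase.1 (Finset.mem_filter.1 he).1).1 (Subtype.ext (congrArg Subtype.val e1 :))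
    · exact Subtype.ext (congrArg Subtype.val e :)
    · have h1 : (e : G) ≠ 1 := fun e1 => (Finset.mem_erase.1 he).1 (Subtype.ext e1)
      refine ⟨⟨e, e.2.1⟩, Finset.mem_filter.2 ⟨Finset.mem_erase.2 ⟨fun e1 => h1 (congrArg Subtype.val e1), Finset.mem_univ _⟩, ?_⟩, rfl⟩
      simp only [c, dif_neg h1]
      exact (Classical.choose_spec e.2.1.1.exists_centre).unique e.2.2 h1
  rw [Nat.card_eq_fintype_card, ← Finset.card_univ, ← Finset.card_erase_add_one (Finset.mem_univ (1 : elGroup G a)), hcard]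

variable (G P L) in
/-- All groups of elations with given centre and axis have the order of the plane, a power of `p`. -/
structure Full (p k : ℕ) : Prop where
  prime : p.Prime
  ord_eq : ord P L = p ^ k
  card : ∀ (x : P) (a : L), x ∈ a → Nat.card (elCentre G x a) = ord P L
  exponent : ∀ a : L, ∀ e ∈ elGroup G a, e ^ p = 1

theorem Full.pos {p k : ℕ} (h : Full G P L p k) : 0 < k :=
  Nat.pos_of_ne_zero fun hk => by
    have := one_lt_ord (P := P) (L := L)
    rw [h.ord_eq, hk, pow_zero] at this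
    omega

theorem comm_of_flag (hne : ∀ (x : P) (a : L), x ∈ a → ∃ e ∈ elCentre G x a, e ≠ 1) (a : L) :
    ∀ e ∈ elGroup G a, ∀ f ∈ elGroup G a, e * f = f * e := by
  have key : ∀ x y : P, ∀ e ∈ elCentre G x a, ∀ f ∈ elCentre G y a, x ∈ a → y ∈ a → x ≠ y → e * f = f * e := by
    intro x y e he f hf hx hy hxy
    have h1 : IsCentre L (e * f * e⁻¹ * f⁻¹) y := by
      have := IsCentre.conj (L := L) hf.2 e
      rw [he.1.1 y hy] at this
      exact this.mul hf.2.inv
    have h2 : IsCentre L (e * (f * e⁻¹ * f⁻¹)) x := by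
      have := IsCentre.conj (L := L) he.2.inv f
      rw [hf.1.1 x hx] at this
      exact he.2.mul this
    rw [show e * (f * e⁻¹ * f⁻¹) = e * f * e⁻¹ * f⁻¹ by group] at h2
    by_contra hne
    refine hxy (h2.unique h1 fun h => hne ?_)
    calc e * f = (e * f * e⁻¹ * f⁻¹) * (f * e) := by group
      _ = f * e := by rw [h, one_mul]
  intro e he f hf
  by_cases he1 : e = 1
  · rw [he1, one_mul, mul_one]
  by_cases hf1 : f = 1
  · rw [hf1, one_mul, mul_one]
  obtain ⟨x, hx⟩ := he.1.exists_centre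
  obtain ⟨y, hy⟩ := hf.1.exists_centre
  have hxa := he.centre_mem hx he1
  have hya := hf.centre_mem hy hf1
  by_cases hxy : x = y
  · subst hxy
    obtain ⟨z, hza, hzx, -⟩ := exists_on_ne_ne a x x
    obtain ⟨d, hd, hd1⟩ := hne z a hza
    have hfd : f * d ∈ elGroup G a := mul_mem hf hd.1
    have hfd1 : f * d ≠ 1 := fun h => hzx (hd.2.unique (eq_inv_of_mul_eq_one_right h ▸ hy.inv) hd1)
    obtain ⟨w, hw⟩ := hfd.1.exists_centre
    have hwa := IsElation.centre_mem hfd hw hfd1
    have hwx : w ≠ x := by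
      rintro rfl
      have h3 := hy.inv.mul hw
      rw [inv_mul_cancel_left] at h3
      exact hzx (hd.2.unique h3 hd1)
    have h1 := key x w e ⟨he, hx⟩ (f * d) ⟨hfd, hw⟩ hxa hwa (Ne.symm hwx)
    have h2 := key x z e ⟨he, hx⟩ d hd hxa hza (Ne.symm hzx)
    have h3 : e * f * d = f * e * d := by rw [mul_assoc, h1, mul_assoc, ← h2, ← mul_assoc]
    exact mul_right_cancel h3
  · exact key x y e ⟨he, hx⟩ f ⟨hf, hy⟩ hxa hya hxy

/-- Transitivity on flags and one elation make all groups of elations full. -/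
theorem full_of_flagTrans (hflag : FlagTrans G P L) {a₀ : L} {e₀ : G} (he₀ : IsElation e₀ a₀) (h1 : e₀ ≠ 1) :
    ∃ p k, Full G P L p k := by
  obtain ⟨x₀, hx₀⟩ := he₀.1.exists_centre
  have hxa₀ := he₀.centre_mem hx₀ h1
  set h := Nat.card (elCentre G x₀ a₀) with hh
  have hall : ∀ (x : P) (a : L), x ∈ a → Nat.card (elCentre G x a) = h := fun x a hx => by
    obtain ⟨g, rfl, rfl⟩ := hflag x₀ x a₀ a hxa₀ hx
    exact card_elCentre_conj g x₀ a₀
  have hh1 : 1 < h := by
    rw [hh, Finite.one_lt_card_iff_nontrivial]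
    exact ⟨⟨⟨e₀, he₀, hx₀⟩, 1, fun e => h1 (congrArg Subtype.val e)⟩⟩
  have hne : ∀ (x : P) (a : L), x ∈ a → ∃ e ∈ elCentre G x a, e ≠ 1 := fun x a hx => by
    have : 1 < Nat.card (elCentre G x a) := hall x a hx ▸ hh1
    rw [Finite.one_lt_card_iff_nontrivial] at this
    obtain ⟨e, he⟩ := exists_ne (1 : elCentre G x a)
    exact ⟨e, e.2, fun h => he (Subtype.ext h)⟩
  have hexp : ∀ a : L, ∃ p : ℕ, p.Prime ∧ ∀ z ∈ elGroup G a, z ^ p = 1 := fun a => by
    obtain ⟨p₀, -⟩ := Nondegenerate.exists_point (P := P) a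
    obtain ⟨x, hxa, -, -⟩ := exists_on_ne_ne a p₀ p₀
    obtain ⟨y, hya, hyx, -⟩ := exists_on_ne_ne a x x
    obtain ⟨e, he, he1⟩ := hne x a hxa
    obtain ⟨f, hf, hf1⟩ := hne y a hya
    exact exists_prime_exponent (comm_of_flag hne a) he.1 hf.1 he1 hf1 he.2 hf.2 hyx.symm
  obtain ⟨p, hp, hpa₀⟩ := hexp a₀
  haveI : Fact p.Prime := ⟨hp⟩
  -- `h` is a power of `p`
  obtain ⟨c, hc⟩ := IsPGroup.iff_card.1 (fun e : elCentre G x₀ a₀ =>
    ⟨1, Subtype.ext (by rw [pow_one]; exact hpa₀ e e.2.1)⟩ : IsPGroup p (elCentre G x₀ a₀))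
  obtain ⟨b, hb⟩ := IsPGroup.iff_card.1 (fun e : elGroup G a₀ =>
    ⟨1, Subtype.ext (by rw [pow_one]; exact hpa₀ e e.2)⟩ : IsPGroup p (elGroup G a₀))
  have hdvd : h ∣ ord P L := card_elCentre_dvd hxa₀
  obtain ⟨k, hk⟩ := hdvd
  have he : Nat.card (elGroup G a₀) = (ord P L + 1) * (h - 1) + 1 := card_elGroup_eq a₀ fun x hx => hall x a₀ hx
  have he2 : Nat.card (elGroup G a₀) ∣ ord P L ^ 2 := card_elGroup_dvd a₀
  have heq : Nat.card (elGroup G a₀) = h * (1 + k * (h - 1)) := by
    rw [he, hk]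
    obtain ⟨j, hj⟩ : ∃ j, h = j + 1 := ⟨h - 1, by omega⟩
    rw [hj, Nat.add_sub_cancel]
    ring
  have hk0 : 0 < k := Nat.pos_of_ne_zero fun e => by
    have := ord_pos (P := P) (L := L)
    rw [hk, e, mul_zero] at this
    omega
  have hph : p ∣ h := by
    rcases c with - | c
    · rw [pow_zero] at hc; omega
    · rw [hh, hc]; exact dvd_pow_self p (Nat.succ_ne_zero c)
  obtain ⟨i, hi, hi'⟩ := (Nat.dvd_prime_pow hp).1 (hb ▸ heq ▸ dvd_mul_left _ _ : 1 + k * (h - 1) ∣ p ^ b)
  have hi0 : i ≠ 0 := by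
    rintro rfl
    rw [pow_zero] at hi'
    have : 0 < k * (h - 1) := Nat.mul_pos hk0 (by omega)
    omega
  have hpk : ¬ p ∣ k := fun hpk => hp.one_lt.ne' (Nat.dvd_one.1 ((Nat.dvd_add_left
    (dvd_mul_of_dvd_left hpk (h - 1))).1 (hi' ▸ dvd_pow_self p hi0)))
  have hcop : Nat.Coprime (1 + k * (h - 1)) (k ^ 2) := by
    rw [hi']
    exact Nat.Coprime.pow _ _ ((Nat.Prime.coprime_iff_not_dvd hp).2 hpk)
  have hd : 1 + k * (h - 1) ∣ h := by
    refine hcop.dvd_of_dvd_mul_right ?_
    rw [heq, hk, mul_pow, pow_two h, mul_assoc] at he2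
    exact Nat.dvd_of_mul_dvd_mul_left (by omega : 0 < h) he2
  have hk1 : k = 1 := by
    have := Nat.le_of_dvd (by omega) hd
    by_contra hne
    have : 2 * (h - 1) ≤ k * (h - 1) := Nat.mul_le_mul_right _ (by omega)
    omega
  rw [hk1, mul_one] at hk
  refine ⟨p, c, hp, hk.trans hc, fun x a hx => (hall x a hx).trans hk.symm, fun a z hz => ?_⟩
  obtain ⟨q, hq, hqa⟩ := hexp a
  obtain ⟨p₁, -⟩ := Nondegenerate.exists_point (P := P) a
  obtain ⟨x, hxa, -, -⟩ := exists_on_ne_ne a p₁ p₁
  haveI : Fact q.Prime := ⟨hq⟩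
  obtain ⟨d, hd⟩ := IsPGroup.iff_card.1 (fun e : elCentre G x a =>
    ⟨1, Subtype.ext (by rw [pow_one]; exact hqa e e.2.1)⟩ : IsPGroup q (elCentre G x a))
  have hqp : q = p := by
    rw [hall x a hxa] at hd
    have hd0 : d ≠ 0 := fun e => by rw [e, pow_zero] at hd; omega
    exact (Nat.prime_dvd_prime_iff_eq hq hp).1 (hq.dvd_of_dvd_pow (n := c) (by
      rw [← hc, ← hh, hd]; exact dvd_pow_self q hd0))
  exact hqp ▸ hqa z hz

/-- A doubly transitive group with a perspectivity has full groups of elations. -/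
theorem full_of_perspectivity (h2 : TwoTrans G P) {g : G} {a : L} (hg : IsAxis g a) (h1 : g ≠ 1) :
    ∃ p k, Full G P L p k := by
  obtain ⟨hflag, hanti⟩ := h2.flag_anti (L := L)
  obtain ⟨c, hc⟩ := hg.exists_centre
  by_cases hca : c ∈ a
  · exact full_of_flagTrans hflag (isElation_of_centre_mem hg hc hca) h1
  obtain ⟨d, hd, hdc⟩ : ∃ d, d ∉ a ∧ d ≠ c := by
    by_contra hno
    push Not at hno
    have h := Set.ncard_le_ncard (show {p : P | p ∉ a} ⊆ {c} from hno) (Set.toFinite _)
    rw [ncard_off, Set.ncard_singleton] at h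
    have := one_lt_ord (P := P) (L := L)
    nlinarith
  obtain ⟨k, hk, hka⟩ := hanti c d a a hca hd
  have hh : IsAxis (k * g * k⁻¹) a := by have := hg.conj k; rwa [hka] at this
  obtain ⟨e, he, hec⟩ := exists_elation_smul hca hd hg h1 hc.smul_centre hh
    (fun h => h1 (conj_eq_one_iff.1 h)) (hk ▸ (hc.conj k).smul_centre)
  exact full_of_flagTrans hflag he fun h => hdc (by rw [← hec, h, one_smul])

end CfsgLib.OstromWagner
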